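import Cfsg.Agent.H24.S74.OddIdx
import Cfsg.Agent.S4149
import Cfsg.Agent.Lib.CoprimeCommutator
import Cfsg.Agent.SignalizersComponents.ComponentExists
import Cfsg.Agent.Lib.FrattiniBasic
import Cfsg.Agent.Lib.Cores
import Cfsg.Agent.SolvableStructure.AbelianSocle
import Cfsg.Agent.H348.Trans.Pairing
import Cfsg.Agent.H348.Trans.Indep
import Mathlib
import Cfsg.Agent.S0044
import Cfsg.Agent.H717.Rep
import Cfsg.Agent.H599.Ito
import Cfsg.Agent.Characters.Core
import Cfsg.Agent.Characters.Values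
import Cfsg.Agent.S0161
import Cfsg.Agent.S0205
import Cfsg.Agent.SignalizersComponents.CoprimeBasic
import Cfsg.Agent.H576.Kazarin
import Cfsg.Agent.S0059
import Cfsg.Agent.FastGrp
import Cfsg.Agent.Prune
set_option linter.all false

section
prune_inst 0x7ff0acf82ba8a1dfdfff7e3faed0dff831848fffe6dff943bfe021bf8b9f030209e56bad0de010fe0ec6601410b87803f97ec23fe863dc7ffffd5ff45ffbee0fa5e6bd09119488340f3c0ff603f0778e7f3fffffffffffffffffffffffffffaeffbdffffffff

-- part: H822/Cls/SplitBasic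
section
prune_inst 0x10000000000000
set_option linter.all false
open scoped Cfsg.Agent.FastGrp

-- part: H822/Cls/Count
section
/-!
# Counting primes in class sizes, and the assembly of S4148
-/

set_option autoImplicit false

namespace Cfsg.Agent.H822.Cls

open scoped Pointwise commutatorElement

universe u

section Count

variable {G : Type u} [Group G] [Finite G]

/-- The elements whose class size is prime to `p` are at most half of the group when `N(P) ≠ C(P)`. -/
theorem card_unmoved (p : ℕ) [Fact p.Prime] (P : Sylow p G)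
    (hNC : ¬ Subgroup.normalizer ((P : Subgroup G) : Set G) ≤
      Subgroup.centralizer ((P : Subgroup G) : Set G)) :
    2 * Nat.card {g : G // ¬ Moved p g} ≤ Nat.card G := by
  classical
  set N := Subgroup.normalizer ((P : Subgroup G) : Set G) with hN
  set C := Subgroup.centralizer ((P : Subgroup G) : Set G) with hC
  have hCN : C ≤ N := Subgroup.centralizer_le_normalizer _
  have h2 : 2 * Nat.card C ≤ Nat.card N := by
    have hd : Nat.card C ∣ Nat.card N := Subgroup.card_dvd_of_le hCN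
    obtain ⟨k, hk⟩ := hd
    have hk0 : k ≠ 0 := by
      rintro rfl
      simp only [_root_.MulZeroClass.mul_zero] at hk
      exact (Nat.card_pos (α := N)).ne' hk
    have hk1 : k ≠ 1 := by
      rintro rfl
      apply hNC
      have : C = N := Subgroup.eq_of_le_of_card_ge hCN (by omega)
      exact this.ge
    have : 2 ≤ k := by omega
    rw [hk, mul_comm]
    exact Nat.mul_le_mul_left _ this
  have hinj : Nat.card {g : G // ¬ Moved p g} ≤ Nat.card (Sylow p G) * Nat.card C := by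
    have key : ∀ g : {g : G // ¬ Moved p g},
        ∃ Q : Sylow p G, (Q : Subgroup G) ≤ Subgroup.centralizer ({g.1} : Set G) :=
      fun g => S4149.exists_sylow_le_centralizer p _ g.2
    choose Q hQ using key
    have key2 : ∀ Q : Sylow p G, ∃ x : G, x • P = Q := fun Q => MulAction.exists_smul_eq G P Q
    choose x hx using key2
    let f : {g : G // ¬ Moved p g} → Sylow p G × C :=
      fun g => ⟨Q g, ⟨(x (Q g))⁻¹ * g.1 * x (Q g), by
        rw [hC, Subgroup.mem_centralizer_iff]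
        intro h hh
        have h1 : x (Q g) * h * (x (Q g))⁻¹ ∈ ((Q g : Sylow p G) : Subgroup G) := by
          have h0 : ((Q g : Sylow p G) : Subgroup G) = MulAut.conj (x (Q g)) • (P : Subgroup G) := by
            rw [← Sylow.coe_subgroup_smul]
            exact congrArg _ (hx (Q g)).symm
          rw [h0]
          have h2 := Subgroup.smul_mem_pointwise_smul h (MulAut.conj (x (Q g))) (P : Subgroup G) hh
          simpa only [_root_.MulAut.smul_def, _root_.MulAut.conj_apply] using h2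
        have h3 := hQ g h1
        rw [Subgroup.mem_centralizer_singleton_iff] at h3
        have h4 : x (Q g) * h * (x (Q g))⁻¹ * g.1 = g.1 * (x (Q g) * h * (x (Q g))⁻¹) := h3
        calc h * ((x (Q g))⁻¹ * g.1 * x (Q g)) = (x (Q g))⁻¹ * (x (Q g) * h * (x (Q g))⁻¹ * g.1) * x (Q g) := by group
          _ = (x (Q g))⁻¹ * (g.1 * (x (Q g) * h * (x (Q g))⁻¹)) * x (Q g) := by rw [h4]
          _ = (x (Q g))⁻¹ * g.1 * x (Q g) * h := by group⟩⟩
    have hf : Function.Injective f := by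
      intro a b hab
      have h1 : Q a = Q b := congrArg Prod.fst hab
      have h2 : (x (Q a))⁻¹ * a.1 * x (Q a) = (x (Q b))⁻¹ * b.1 * x (Q b) :=
        congrArg (fun z : Sylow p G × C => (z.2 : G)) hab
      rw [h1] at h2
      apply Subtype.ext
      exact mul_left_cancel (mul_right_cancel h2)
    have := Nat.card_le_card_of_injective f hf
    rwa [Nat.card_prod] at this
  have hidx : Nat.card (Sylow p G) = N.index := Sylow.card_eq_index_normalizer P
  calc 2 * Nat.card {g : G // ¬ Moved p g}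
      ≤ 2 * (Nat.card (Sylow p G) * Nat.card C) := Nat.mul_le_mul_left _ hinj
    _ = N.index * (2 * Nat.card C) := by rw [hidx]; ring
    _ ≤ N.index * Nat.card N := Nat.mul_le_mul_left _ h2
    _ = Nat.card G := Subgroup.index_mul_card N

theorem card_moved_le {σ : ℕ}
    (hσ : ∀ x : G, ((Subgroup.centralizer ({x} : Set G)).index).primeFactors.card ≤ σ) (S : Finset ℕ)
    (hS : ∀ p ∈ S, p.Prime) (x : G) (h : ∀ p ∈ S, Moved p x) : S.card ≤ σ := by
  refine le_trans (Finset.card_le_card ?_) (hσ x)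
  intro p hp
  rw [Nat.mem_primeFactors]
  exact ⟨hS p hp, h p hp, Subgroup.index_ne_zero_of_finite⟩

theorem not_moved_one {p : ℕ} (hp : p.Prime) : ¬ Moved p (1 : G) := by
  intro h
  unfold Moved at h
  have h1 : Subgroup.centralizer ({1} : Set G) = ⊤ := by
    rw [eq_top_iff]
    intro g _
    rw [Subgroup.mem_centralizer_singleton_iff]
    simp
  rw [h1, Subgroup.index_top] at h
  exact hp.one_lt.ne' (Nat.dvd_one.1 h)

/-- The primes with `N(P) ≠ C(P)` : fewer than `2 σ`. -/
theorem card_B {σ : ℕ} (h1 : 1 ≤ σ)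
    (hσ : ∀ x : G, ((Subgroup.centralizer ({x} : Set G)).index).primeFactors.card ≤ σ) (B : Finset ℕ)
    (hB : ∀ p ∈ B, p.Prime ∧ ∃ P : Sylow p G, ¬ Subgroup.normalizer ((P : Subgroup G) : Set G) ≤
      Subgroup.centralizer ((P : Subgroup G) : Set G)) : B.card + 1 ≤ 2 * σ := by
  classical
  have : Fintype G := Fintype.ofFinite G
  have hG : (Finset.univ : Finset G).card = Nat.card G := by
    rw [Nat.card_eq_fintype_card, Finset.card_univ]
  -- double counting
  have hdc : ∑ p ∈ B, (Finset.univ.filter fun g : G => Moved p g).card =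
      ∑ g : G, (B.filter fun p => Moved p g).card := by
    simp only [Finset.card_filter]
    exact Finset.sum_comm
  have hlow : ∀ p ∈ B, Nat.card G ≤ 2 * (Finset.univ.filter fun g : G => Moved p g).card := by
    intro p hp
    obtain ⟨hpp, P, hP⟩ := hB p hp
    have : Fact p.Prime := ⟨hpp⟩
    have h2 := card_unmoved p P hP
    have h3 := Finset.card_filter_add_card_filter_not (s := (Finset.univ : Finset G)) (fun g => Moved p g)
    have h4 : Nat.card {g : G // ¬ Moved p g} = (Finset.univ.filter fun g : G => ¬ Moved p g).card := by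
      rw [Nat.card_eq_fintype_card, Fintype.card_subtype]
    omega
  have hup : ∑ g : G, (B.filter fun p => Moved p g).card + σ ≤ Nat.card G * σ := by
    have h2 : ∀ g : G, (B.filter fun p => Moved p g).card ≤ if g = 1 then 0 else σ := by
      intro g
      split_ifs with h
      · subst h
        rw [Nat.le_zero, Finset.card_eq_zero, Finset.filter_eq_empty_iff]
        intro p hp
        exact not_moved_one (hB p hp).1
      · exact card_moved_le hσ _ (fun p hp => (hB p (Finset.mem_filter.1 hp).1).1) g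
          (fun p hp => (Finset.mem_filter.1 hp).2)
    have h3 : ∑ g : G, (if g = 1 then 0 else σ) + σ = Nat.card G * σ := by
      have h4 : ∑ g : G, (if g = 1 then σ else 0) = σ := by simp
      have h5 : ∑ g : G, (if g = 1 then 0 else σ) + ∑ g : G, (if g = 1 then σ else 0) = Nat.card G * σ := by
        rw [← Finset.sum_add_distrib, ← hG, ← smul_eq_mul, ← Finset.sum_const]
        refine Finset.sum_congr rfl fun g _ => ?_
        split_ifs <;> simp
      rw [h4] at h5
      exact h5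
    calc ∑ g : G, (B.filter fun p => Moved p g).card + σ
        ≤ ∑ g : G, (if g = 1 then 0 else σ) + σ := Nat.add_le_add_right (Finset.sum_le_sum fun g _ => h2 g) _
      _ = _ := h3
  have h5 : B.card * Nat.card G ≤ 2 * ∑ p ∈ B, (Finset.univ.filter fun g : G => Moved p g).card := by
    rw [Finset.mul_sum]
    calc B.card * Nat.card G = ∑ p ∈ B, Nat.card G := by rw [Finset.sum_const, smul_eq_mul]
      _ ≤ _ := Finset.sum_le_sum hlow
  rw [hdc] at h5
  have h6 : B.card * Nat.card G < 2 * σ * Nat.card G := by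
    have : 2 * σ * Nat.card G = 2 * (Nat.card G * σ) := by ring
    rw [this]
    omega
  have := lt_of_mul_lt_mul_right h6 (Nat.zero_le _)
  omega

end Count

end Cfsg.Agent.H822.Cls
end

-- part: H822/Cls/SplitBasic
section
/-!
# Basic facts on `Split K H`
-/

set_option autoImplicit false

namespace Cfsg.Agent.H822.Cls

open scoped Pointwise commutatorElement

universe u

variable {G : Type u} [Group G]

theorem Split.inf_eq_bot {K H : Subgroup G} (hS : Split K H) : K ⊓ H = ⊥ := by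
  rw [eq_bot_iff]
  intro x hx
  obtain ⟨h1, h2⟩ := Subgroup.mem_inf.1 hx
  rw [Subgroup.mem_bot, ← orderOf_eq_one_iff]
  have a := Subgroup.orderOf_dvd_natCard K h1
  have b := Subgroup.orderOf_dvd_natCard H h2
  exact Nat.eq_one_of_dvd_coprimes hS.cop a b

theorem Split.exists_mul {K H : Subgroup G} (hS : Split K H) (g : G) : ∃ k ∈ K, ∃ h ∈ H, g = k * h := by
  have := hS.normal
  have h1 : g ∈ K ⊔ H := by rw [hS.compl]; trivial
  rw [← SetLike.mem_coe, Subgroup.normal_mul K H] at h1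
  obtain ⟨k, hk, h, hh, e⟩ := Set.mem_mul.1 h1
  exact ⟨k, hk, h, hh, e.symm⟩

theorem Split.isComplement' {K H : Subgroup G} (hS : Split K H) : K.IsComplement' H := by
  have := hS.normal
  refine Subgroup.isComplement'_of_disjoint_and_mul_eq_univ (disjoint_iff.2 hS.inf_eq_bot) ?_
  rw [← Subgroup.normal_mul K H, hS.compl]
  rfl

theorem Split.card {K H : Subgroup G} (hS : Split K H) : Nat.card G = Nat.card K * Nat.card H :=
  hS.isComplement'.card_mul_card.symm

variable [Finite G]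

/-- a Sylow subgroup inside `H` -/
theorem Split.exists_sylow {K H : Subgroup G} (hS : Split K H) {p : ℕ} (hp : p.Prime) (hpH : p ∣ Nat.card H) :
    ∃ P : Sylow p G, (P : Subgroup G) ≤ H := by
  have : Fact p.Prime := ⟨hp⟩
  obtain ⟨P0⟩ : Nonempty (Sylow p H) := inferInstance
  obtain ⟨P, hP⟩ := (P0.isPGroup'.map H.subtype).exists_le_sylow
  refine ⟨P, ?_⟩
  have hK : ¬ p ∣ Nat.card K := fun h => hp.one_lt.ne' (Nat.eq_one_of_dvd_coprimes hS.cop h hpH)
  have h1 : Nat.card (P : Subgroup G) = p ^ (Nat.card G).factorization p := P.card_eq_multiplicity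
  have h2 : Nat.card (P0 : Subgroup H) = p ^ (Nat.card H).factorization p := P0.card_eq_multiplicity
  have h3 : Nat.card ((P0 : Subgroup H).map H.subtype) = Nat.card (P0 : Subgroup H) :=
    Nat.card_congr (Subgroup.equivMapOfInjective _ _ H.subtype_injective).toEquiv.symm
  have h4 : (Nat.card G).factorization p = (Nat.card H).factorization p := by
    rw [hS.card, Nat.factorization_mul (Nat.card_pos).ne' (Nat.card_pos).ne']
    simp only [Nat.factorization_eq_zero_of_not_dvd hK, _root_.Finsupp.coe_add, _root_.Pi.add_apply, _root_.zero_add]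
  have h5 : ((P0 : Subgroup H).map H.subtype) = (P : Subgroup G) :=
    Subgroup.eq_of_le_of_card_ge hP (by rw [h3, h2, h1, h4])
  rw [← h5]
  exact Subgroup.map_subtype_le _

theorem moved_iff {p : ℕ} (hp : p.Prime) (x : G) :
    ¬ Moved p x ↔ ∃ Q : Sylow p G, (Q : Subgroup G) ≤ Subgroup.centralizer ({x} : Set G) := by
  have : Fact p.Prime := ⟨hp⟩
  constructor
  · exact fun h => S4149.exists_sylow_le_centralizer p _ h
  · rintro ⟨Q, hQ⟩ h
    exact Q.not_dvd_index (h.trans (Subgroup.index_dvd_of_le hQ))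

/-- All Sylow subgroups are `K`-conjugate to the one inside `H`. -/
theorem Split.sylow_conj {K H : Subgroup G} (hS : Split K H) {p : ℕ} (hp : p.Prime) (P Q : Sylow p G)
    (hPH : (P : Subgroup G) ≤ H) : ∃ k ∈ K, ∀ y : G, y ∈ Q ↔ k⁻¹ * y * k ∈ P := by
  have : Fact p.Prime := ⟨hp⟩
  obtain ⟨g, hg⟩ := MulAction.exists_smul_eq G P Q
  obtain ⟨k, hk, h, hh, rfl⟩ := hS.exists_mul g
  refine ⟨k, hk, fun y => ?_⟩
  have h1 : y ∈ Q ↔ (k * h)⁻¹ * y * (k * h) ∈ P := by
    rw [← hg]
    change y ∈ (((k * h) • P : Sylow p G) : Subgroup G) ↔ _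
    rw [Sylow.coe_subgroup_smul, Subgroup.mem_pointwise_smul_iff_inv_smul_mem]
    simp only [MulAut.smul_def, MulAut.inv_def]
    rw [MulAut.conj_symm_apply]
    rfl
  rw [h1]
  have h2 : (k * h)⁻¹ * y * (k * h) = h⁻¹ * (k⁻¹ * y * k) * h := by group
  rw [h2]
  constructor
  · intro h3
    have h4 : k⁻¹ * y * k = h * (h⁻¹ * (k⁻¹ * y * k) * h) * h⁻¹ := by group
    have h5 := hS.comm h hh _ (hPH h3)
    rw [h4, h5]
    simpa only [_root_.mul_inv_cancel_right] using h3
  · intro h3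
    have h5 := hS.comm _ (hPH h3) h hh
    rw [mul_assoc, h5, ← mul_assoc, inv_mul_cancel, one_mul]
    exact h3

theorem Split.commutator_normal {K H : Subgroup G} (hS : Split K H) {p : ℕ} (P : Sylow p G)
    (hPH : (P : Subgroup G) ≤ H) : (⁅K, (P : Subgroup G)⁆ : Subgroup G).Normal := by
  have := hS.normal
  refine ⟨fun n hn g => ?_⟩
  obtain ⟨k, hk, h, hh, rfl⟩ := hS.exists_mul g
  have h1 : h * n * h⁻¹ ∈ ⁅K, (P : Subgroup G)⁆ := by
    have h2 : (⁅K, (P : Subgroup G)⁆ : Subgroup G).map (MulAut.conj h).toMonoidHom ≤ ⁅K, (P : Subgroup G)⁆ := by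
      rw [Subgroup.map_commutator]
      refine Subgroup.commutator_mono ?_ ?_
      · rintro _ ⟨x, hx, rfl⟩
        exact hS.normal.conj_mem x hx h
      · rintro _ ⟨x, hx, rfl⟩
        change h * x * h⁻¹ ∈ _
        rw [hS.comm h hh x (hPH hx), mul_inv_cancel_right]
        exact hx
    exact h2 ⟨n, hn, rfl⟩
  have h3 : k * (h * n * h⁻¹) * k⁻¹ ∈ ⁅K, (P : Subgroup G)⁆ := by
    have h4 : K ≤ Subgroup.normalizer ((⁅K, (P : Subgroup G)⁆ : Subgroup G) : Set G) := by
      exact Subgroup.normalizer_commutator_ge_left _ _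
    exact (Subgroup.mem_normalizer_iff.1 (h4 hk) _).1 h1
  have h5 : k * h * n * (k * h)⁻¹ = k * (h * n * h⁻¹) * k⁻¹ := by group
  rw [h5]
  exact h3

/-- `[K, P]` does not depend on the Sylow subgroup. -/
theorem Split.commutator_eq {K H : Subgroup G} (hS : Split K H) {p : ℕ} (hp : p.Prime) (P Q : Sylow p G)
    (hPH : (P : Subgroup G) ≤ H) : ⁅K, (Q : Subgroup G)⁆ = ⁅K, (P : Subgroup G)⁆ := by
  obtain ⟨k, hk, hkQ⟩ := hS.sylow_conj hp P Q hPH
  have hn := hS.commutator_normal P hPH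
  have h1 : (P : Subgroup G).map (MulAut.conj k).toMonoidHom = (Q : Subgroup G) := by
    ext y
    rw [Subgroup.mem_map]
    constructor
    · rintro ⟨x, hx, rfl⟩
      refine (hkQ _).2 ?_
      change k⁻¹ * (k * x * k⁻¹) * k ∈ P
      rw [show k⁻¹ * (k * x * k⁻¹) * k = x by group]
      exact hx
    · intro hy
      refine ⟨k⁻¹ * y * k, (hkQ y).1 hy, ?_⟩
      change k * (k⁻¹ * y * k) * k⁻¹ = y
      group
  have h2 : K.map (MulAut.conj k).toMonoidHom = K := by
    ext y
    rw [Subgroup.mem_map]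
    constructor
    · rintro ⟨x, hx, rfl⟩
      exact hS.normal.conj_mem x hx k
    · intro hy
      refine ⟨k⁻¹ * y * k, ?_, ?_⟩
      · have := hS.normal.conj_mem y hy k⁻¹
        rwa [inv_inv] at this
      · change k * (k⁻¹ * y * k) * k⁻¹ = y
        group
  have h3 : (⁅K, (P : Subgroup G)⁆ : Subgroup G).map (MulAut.conj k).toMonoidHom = ⁅K, (P : Subgroup G)⁆ := by
    ext y
    rw [Subgroup.mem_map]
    constructor
    · rintro ⟨x, hx, rfl⟩
      exact hn.conj_mem x hx k
    · intro hy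
      refine ⟨k⁻¹ * y * k, ?_, ?_⟩
      · have := hn.conj_mem y hy k⁻¹
        rwa [inv_inv] at this
      · change k * (k⁻¹ * y * k) * k⁻¹ = y
        group
  rw [← h3, Subgroup.map_commutator, h1, h2]

theorem Split.commutator_eq' {K H : Subgroup G} (hS : Split K H) {p : ℕ} (hp : p.Prime) (hpH : p ∣ Nat.card H)
    (P Q : Sylow p G) : ⁅K, (Q : Subgroup G)⁆ = ⁅K, (P : Subgroup G)⁆ := by
  obtain ⟨P0, hP0⟩ := hS.exists_sylow hp hpH
  rw [hS.commutator_eq hp P0 Q hP0, hS.commutator_eq hp P0 P hP0]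

theorem Split.commutator_normal' {K H : Subgroup G} (hS : Split K H) {p : ℕ} (hp : p.Prime)
    (hpH : p ∣ Nat.card H) (P : Sylow p G) : (⁅K, (P : Subgroup G)⁆ : Subgroup G).Normal := by
  obtain ⟨P0, hP0⟩ := hS.exists_sylow hp hpH
  rw [hS.commutator_eq hp P0 P hP0]
  exact hS.commutator_normal P0 hP0

theorem Split.commutator_le {K H : Subgroup G} (hS : Split K H) (P : Subgroup G) : ⁅K, P⁆ ≤ K := by
  have := hS.normal
  exact Subgroup.commutator_le_left K P

/-- `[K, P, P] = [K, P]` -/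
theorem Split.commutator_commutator {K H : Subgroup G} (hS : Split K H) {p : ℕ} (hp : p.Prime)
    (hpH : p ∣ Nat.card H) (P : Sylow p G) :
    ⁅⁅K, (P : Subgroup G)⁆, (P : Subgroup G)⁆ = ⁅K, (P : Subgroup G)⁆ := by
  have : Fact p.Prime := ⟨hp⟩
  have hK : ¬ p ∣ Nat.card K := fun h => hp.one_lt.ne' (Nat.eq_one_of_dvd_coprimes hS.cop h hpH)
  refine Lib.CoprimeCommutator.commutator_commutator_eq (P : Subgroup G) K ?_ ?_
  · have := hS.normal
    rw [Subgroup.normalizer_eq_top]
    exact le_top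
  · obtain ⟨n, hn⟩ := IsPGroup.iff_card.1 P.isPGroup'
    rw [hn]
    exact Nat.Coprime.pow_left n ((Nat.Prime.coprime_iff_not_dvd hp).2 hK)

end Cfsg.Agent.H822.Cls
end
end

-- part: H822/Cls/PrimDefs
section
set_option linter.all false

/-!
# Numerical data of a primitive solvable linear group
-/

set_option autoImplicit false

namespace Cfsg.Agent.H822.Cls

open scoped Pointwise commutatorElement

universe u

/-- `x` acts trivially on the `q`-part of `S / A` -/
def Prim.Triv {L U F : Type*} [Group L] [AddCommGroup U] [DistribMulAction L U] [Field F] [Module F U]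
    (D : Prim L U F) (q : ℕ) (x : L) : Prop := ∀ s ∈ D.S, s ^ q ∈ D.A → x * s * x⁻¹ * s⁻¹ ∈ D.A

/-- numerical data of `S / A` : its order is the square of `e = ∏ q ^ m q ≤ dim_F U` -/
structure Prim.Num {L U F : Type*} [Group L] [AddCommGroup U] [DistribMulAction L U] [Field F] [Module F U]
    (D : Prim L U F) (Q : Finset ℕ) (m : ℕ → ℕ) : Prop where
  prime : ∀ q ∈ Q, q.Prime
  one_le : ∀ q ∈ Q, 1 ≤ m q
  dvd : ∀ q ∈ Q, q ∣ Nat.card F - 1
  triv : ∀ q : ℕ, q.Prime → q ∉ Q → ∀ s ∈ D.S, s ^ q ∈ D.A → s ∈ D.A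
  card_part : ∀ q ∈ Q, ∀ X : Subgroup L, (∀ s : L, s ∈ X ↔ s ∈ D.S ∧ s ^ q ∈ D.A) → D.A.relIndex X = q ^ (2 * m q)
  relIndex : D.A.relIndex D.S = (∏ q ∈ Q, q ^ m q) ^ 2
  le_finrank : ∏ q ∈ Q, q ^ m q ≤ Module.finrank F U

/-- dimension bound for a faithful module of a solvable `q'`-group with nonnormal Sylow `p`-subgroup -/
def LemD : Prop := ∀ (q p : ℕ), q.Prime → p.Prime → ∀ (D : Type u) [Group D] [Finite D] [Group.IsSolvable D],
    ¬ q ∣ Nat.card D → ∀ (X : Type u) [AddCommGroup X] [Finite X] [DistribMulAction D X], (∀ x : X, q • x = 0) →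
    (∀ g : D, (∀ x : X, g • x = x) → g = 1) → ∀ P : Sylow p D, ¬ (P : Subgroup D).Normal → ∀ n : ℕ,
    Nat.card X = q ^ n → p ≤ n ∨ (n + 1 = p ∧ ∃ k : ℕ, n = 2 ^ k)

/-- the version for symplectic modules of groups of odd order in characteristic two -/
def LemDTwo : Prop := ∀ (p : ℕ), p.Prime → ∀ (D : Type u) [Group D] [Finite D], Odd (Nat.card D) →
    ∀ (X : Type u) [AddCommGroup X] [Finite X] [DistribMulAction D X], (∀ x : X, 2 • x = 0) →
    (∀ g : D, (∀ x : X, g • x = x) → g = 1) → ∀ β : X → X → ZMod 2,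
    (∀ x y z, β (x + y) z = β x z + β y z) → (∀ x y z, β x (y + z) = β x y + β x z) →
    (∀ x, (∀ y, β x y = 0) → x = 0) → (∀ (g : D) (x y : X), β (g • x) (g • y) = β x y) → ∀ P : Sylow p D,
    ¬ (P : Subgroup D).Normal → ∀ n : ℕ, Nat.card X = 2 ^ n → 2 * p ≤ n

/-- existence of the numerical data -/
def ExistsNum : Prop := ∀ (L U F : Type u) [Group L] [Finite L] [AddCommGroup U] [Finite U] [Nontrivial U]
    [DistribMulAction L U] [Field F] [Finite F] [Module F U] (D : Prim L U F),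
    ∃ (Q : Finset ℕ) (m : ℕ → ℕ), D.Num Q m

/-- bound for a group of automorphisms of `S / A` -/
def RelIndexLe : Prop := ∀ (L U F : Type u) [Group L] [Finite L] [AddCommGroup U] [Finite U] [Nontrivial U]
    [DistribMulAction L U] [Field F] [Finite F] [Module F U] (D : Prim L U F) (Q : Finset ℕ) (m : ℕ → ℕ),
    D.Num Q m → ∀ E : Subgroup L, E ≤ Subgroup.centralizer (D.A : Set L) → ∀ I : Finset ℕ, I ⊆ Q →
    (∀ q ∈ Q, q ∉ I → ∀ x ∈ E, D.Triv q x) → D.S.relIndex E ≤ ∏ q ∈ I, q ^ (4 * m q ^ 2)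

/-- dimension bounds for the parts on which `[M, P]` is nontrivial -/
def DimBound : Prop := ∀ (L U F : Type u) [Group L] [Finite L] [Group.IsSolvable L] [AddCommGroup U] [Finite U]
    [Nontrivial U] [DistribMulAction L U] [Field F] [Finite F] [Module F U] (D : Prim L U F) (Q : Finset ℕ)
    (m : ℕ → ℕ), D.Num Q m → ∀ M H : Subgroup L, Split M H → ∀ p : ℕ, p.Prime → p ≠ 2 → p ∣ Nat.card H →
    ∀ (P : Sylow p L) (q : ℕ), q ∈ Q → (¬ ∀ x ∈ ⁅M, (P : Subgroup L)⁆, D.Triv q x) →
    q ≠ p ∧ (q = 2 → p ≤ m 2) ∧ (q ≠ 2 → p ≤ 2 * m q + 1 ∧ (p = 7 → 4 ≤ m q))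

end Cfsg.Agent.H822.Cls
end

-- part: H822/Cls/PrimAux_mg
section
prune_inst 0x1520314504c0020000040510d000408525000190004084008ca4074402004220090020000c80051100088a000001000800000030800000000000000000010120802a46043340000c26009f800084000000000000000000000000000000010004000000000
set_option linter.all false
open scoped Cfsg.Agent.FastGrp

-- part: H822/Cls/PrimAux
section
/-!
# Counting in the primitive case
-/

set_option autoImplicit false
set_option linter.unusedSectionVars false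

namespace Cfsg.Agent.H822.Cls

open scoped Pointwise commutatorElement

universe u

theorem ringEquiv_comm {F : Type*} [Field F] [Finite F] (σ τ : F ≃+* F) : σ * τ = τ * σ := by
  obtain ⟨p, hpc⟩ := CharP.exists F
  have : CharP F p := hpc
  have hp : Fact p.Prime := ⟨CharP.char_is_prime F p⟩
  let _ : Algebra (ZMod p) F := ZMod.algebra F p
  have hcomm : ∀ (ρ : F ≃+* F) (r : ZMod p), ρ (algebraMap (ZMod p) F r) = algebraMap (ZMod p) F r := by
    intro ρ r
    obtain ⟨n, rfl⟩ := ZMod.natCast_zmod_surjective r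
    rw [map_natCast, map_natCast]
  let σ' : F ≃ₐ[ZMod p] F := AlgEquiv.ofRingEquiv (f := σ) (hcomm σ)
  let τ' : F ≃ₐ[ZMod p] F := AlgEquiv.ofRingEquiv (f := τ) (hcomm τ)
  have h : σ' * τ' = τ' * σ' := by
    let _ := IsCyclic.commGroup (α := Gal(F/ZMod p))
    exact mul_comm _ _
  ext x
  exact DFunLike.congr_fun h x

section PrimFacts

variable {L U F : Type u} [Group L] [Finite L] [AddCommGroup U] [Finite U] [Nontrivial U]
  [DistribMulAction L U] [Field F] [Finite F] [Module F U] (D : Prim L U F)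

theorem Prim.commutator_le (X Y : Subgroup L) : ⁅X, Y⁆ ≤ Subgroup.centralizer (D.A : Set L) := by
  rw [Subgroup.commutator_le, ← D.σ_ker]
  intro x _ y _
  rw [MonoidHom.mem_ker, map_commutatorElement, commutatorElement_eq_one_iff_mul_comm]
  exact ringEquiv_comm _ _

theorem Prim.isNilpotent_of_le (E : Subgroup L) (hE : E ≤ D.S) : Group.IsNilpotent E := by
  have hAn := D.A_normal
  have hn : (D.A.subgroupOf E).Normal := inferInstance
  have hcomm : ∀ a b : E ⧸ D.A.subgroupOf E, a * b = b * a := by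
    intro a b
    obtain ⟨x, rfl⟩ := QuotientGroup.mk_surjective a
    obtain ⟨y, rfl⟩ := QuotientGroup.mk_surjective b
    rw [← QuotientGroup.mk_mul, ← QuotientGroup.mk_mul, eq_comm, QuotientGroup.eq, Subgroup.mem_subgroupOf]
    have h1 := D.comm_mem _ (D.S.inv_mem (hE x.2)) _ (D.S.inv_mem (hE y.2))
    have h2 : (((y * x)⁻¹ * (x * y) : E) : L) = (x : L)⁻¹ * (y : L)⁻¹ * (x : L)⁻¹⁻¹ * (y : L)⁻¹⁻¹ := by
      simp only [Subgroup.coe_mul, Subgroup.coe_inv, inv_inv]
      group
    rw [h2]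
    exact h1
  have hnil : Group.IsNilpotent (E ⧸ D.A.subgroupOf E) := by
    let _ : CommGroup (E ⧸ D.A.subgroupOf E) := { (inferInstance : Group (E ⧸ D.A.subgroupOf E)) with mul_comm := hcomm }
    infer_instance
  refine Subgroup.isNilpotent_of_ker_le_center (QuotientGroup.mk' (D.A.subgroupOf E)) ?_
  rw [QuotientGroup.ker_mk']
  intro a ha
  rw [Subgroup.mem_subgroupOf] at ha
  rw [Subgroup.mem_center_iff]
  intro g
  apply Subtype.ext
  exact (Subgroup.mem_centralizer_iff.1 (D.S_le (hE g.2)) _ ha).symm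

/-- The commutator `[E, P]` lies in `S` when `P` acts trivially on `S / A`. -/
theorem Prim.commutator_le_S (E P : Subgroup L) (hE : E ≤ Subgroup.centralizer (D.A : Set L))
    (hEn : E.Normal)
    (hP : ∀ g ∈ P, ∀ s ∈ D.S, g * s * g⁻¹ * s⁻¹ ∈ D.A) : ⁅E, P⁆ ≤ D.S := by
  have hAn := D.A_normal
  have hSn := D.S_normal
  rw [Subgroup.commutator_le]
  intro e he g hg
  apply D.dual
  · exact Subgroup.commutator_le_left E P (Subgroup.commutator_mem_commutator he hg) |> fun h => hE h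
  · intro s hs
    rw [commutatorElement_def]
    -- `e g e⁻¹ g⁻¹ s g e g⁻¹ e⁻¹ s⁻¹ ∈ A`
    have key : ∀ x ∈ P, ∀ t ∈ D.S, ∃ a ∈ D.A, x * t * x⁻¹ = a * t := by
      intro x hx t ht
      refine ⟨_, hP x hx t ht, ?_⟩
      group
    -- conjugation by `g⁻¹`, `e⁻¹`, `g`, `e`
    obtain ⟨a1, ha1, h1⟩ := key g⁻¹ (P.inv_mem hg) s hs
    have hs2 : e⁻¹ * s * e ∈ D.S := by
      have := hSn.conj_mem s hs e⁻¹
      rwa [inv_inv] at this
    obtain ⟨a2, ha2, h2⟩ := key g hg (e⁻¹ * s * e) hs2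
    rw [inv_inv] at h1
    have e1 : e * g * e⁻¹ * g⁻¹ * s * (e * g * e⁻¹ * g⁻¹)⁻¹ * s⁻¹ =
        e * (g * (e⁻¹ * (g⁻¹ * s * g) * e) * g⁻¹) * e⁻¹ * s⁻¹ := by group
    rw [e1, h1]
    have ha1' : e⁻¹ * a1 * e = a1 := by
      have := Subgroup.mem_centralizer_iff.1 (hE he) a1 ha1
      rw [mul_assoc, this, inv_mul_cancel_left]
    have e2 : g * (e⁻¹ * (a1 * s) * e) * g⁻¹ = (g * a1 * g⁻¹) * (g * (e⁻¹ * s * e) * g⁻¹) := by
      have : e⁻¹ * (a1 * s) * e = (e⁻¹ * a1 * e) * (e⁻¹ * s * e) := by group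
      rw [this, ha1']
      group
    rw [e2, h2]
    have h3 : g * a1 * g⁻¹ ∈ D.A := hAn.conj_mem _ ha1 g
    have e3 : e * (g * a1 * g⁻¹ * (a2 * (e⁻¹ * s * e))) * e⁻¹ * s⁻¹ = e * (g * a1 * g⁻¹ * a2) * e⁻¹ := by group
    rw [e3]
    exact hAn.conj_mem _ (D.A.mul_mem h3 ha2) e

/-- The Sylow subgroups are conjugate under `[M, P]`. -/
theorem sylow_conj_E {M H : Subgroup L} (hS : Split M H) {p : ℕ} (hp : p.Prime) (hpH : p ∣ Nat.card H)
    (P Q : Sylow p L) : ∃ e ∈ ⁅M, (P : Subgroup L)⁆, e • P = Q := by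
  have : Fact p.Prime := ⟨hp⟩
  have hMn := hS.normal
  obtain ⟨P0, hP0⟩ := hS.exists_sylow hp hpH
  have hpM : ¬ p ∣ Nat.card M := fun h => hp.one_lt.ne' (Nat.eq_one_of_dvd_coprimes hS.cop h hpH)
  -- every Sylow is `[M, P0]`-conjugate to `P0`
  have key : ∀ Q : Sylow p L, ∃ e ∈ ⁅M, (P0 : Subgroup L)⁆, e • P0 = Q := by
    intro Q
    obtain ⟨k, hk, hkQ⟩ := hS.sylow_conj hp P0 Q hP0
    obtain ⟨m, hm, c, hc, rfl⟩ := Lib.CoprimeCommutator.exists_commutator_mul_fixed_of_isPGroup p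
      (P0 : Subgroup L) M P0.isPGroup' (by rw [Subgroup.normalizer_eq_top]; exact le_top) hpM k hk
    refine ⟨m, hm, ?_⟩
    have hcc := Subgroup.mem_centralizer_iff.1 (Subgroup.mem_inf.1 hc).2
    apply Sylow.ext
    ext y
    rw [Sylow.coe_subgroup_smul, Subgroup.mem_pointwise_smul_iff_inv_smul_mem]
    simp only [MulAut.smul_def, MulAut.inv_def]
    rw [MulAut.conj_symm_apply]
    have h1 := hkQ y
    have h2 : (m * c)⁻¹ * y * (m * c) = c⁻¹ * (m⁻¹ * y * m) * c := by group
    rw [h2] at h1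
    change m⁻¹ * y * m ∈ P0 ↔ y ∈ Q
    constructor
    · intro h
      apply h1.2
      have h3 := hcc _ h
      rw [mul_assoc, h3, inv_mul_cancel_left]
      exact h
    · intro h
      have h4 := h1.1 h
      have h5 := hcc _ h4
      have h6 : m⁻¹ * y * m = c * (c⁻¹ * (m⁻¹ * y * m) * c) * c⁻¹ := by group
      rw [h6, ← h5, mul_inv_cancel_right]
      exact h4
  have hE := hS.commutator_eq' hp hpH P0 P
  rw [hE]
  obtain ⟨e1, he1, h1⟩ := key P
  obtain ⟨e2, he2, h2⟩ := key Q
  refine ⟨e2 * e1⁻¹, Subgroup.mul_mem _ he2 (Subgroup.inv_mem _ he1), ?_⟩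
  rw [← h1, mul_smul, inv_smul_smul, h2]

/-- The number of Sylow subgroups. -/
theorem card_sylow_le {M H : Subgroup L} (hS : Split M H) {p : ℕ} (hp : p.Prime) (hpH : p ∣ Nat.card H)
    (P : Sylow p L) (c : ℕ)
    (hc : ((P : Subgroup L) ≤ Subgroup.centralizer (D.A : Set L) ∧ c = 1) ∨ c = Nat.card F) :
    Nat.card (Sylow p L) ≤ c * (D.A.relIndex D.S * D.S.relIndex ⁅M, (P : Subgroup L)⁆) := by
  have : Fact p.Prime := ⟨hp⟩
  set E := ⁅M, (P : Subgroup L)⁆ with hE
  have h1 : MulAction.orbit E P = Set.univ := by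
    rw [Set.eq_univ_iff_forall]
    intro Q
    obtain ⟨e, he, h⟩ := sylow_conj_E hS hp hpH P Q
    exact ⟨⟨e, he⟩, h⟩
  have h2 : Nat.card (Sylow p L) = (MulAction.stabilizer E P).index := by
    rw [MulAction.index_stabilizer, h1, Set.ncard_univ]
  have h3 : D.A.relIndex E ≤ D.A.relIndex D.S * D.S.relIndex E := by
    have h4 := Subgroup.relIndex_inf_mul_relIndex D.A D.S E
    rw [inf_eq_left.2 D.A_le] at h4
    rw [← h4]
    refine Nat.mul_le_mul_right _ ?_
    exact Subgroup.relIndex_le_of_le_right inf_le_left Subgroup.FiniteIndex.index_ne_zero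
  rcases hc with ⟨hPA, rfl⟩ | rfl
  · rw [one_mul, h2]
    refine le_trans ?_ h3
    refine Nat.le_of_dvd (Nat.pos_of_ne_zero Subgroup.index_ne_zero_of_finite) (Subgroup.index_dvd_of_le ?_)
    intro a ha
    rw [Subgroup.mem_subgroupOf] at ha
    rw [MulAction.mem_stabilizer_iff]
    change (a : L) • P = P
    apply Sylow.ext
    ext y
    rw [Sylow.coe_subgroup_smul, Subgroup.mem_pointwise_smul_iff_inv_smul_mem]
    simp only [MulAut.smul_def, MulAut.inv_def]
    rw [MulAut.conj_symm_apply]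
    have hcomm : ∀ y ∈ P, (a : L) * y = y * a := fun y hy => Subgroup.mem_centralizer_iff.1 (hPA hy) a ha
    change (a : L)⁻¹ * y * a ∈ P ↔ y ∈ P
    constructor
    · intro h
      have h5 := hcomm _ h
      have h6 : y = a * ((a : L)⁻¹ * y * a) * (a : L)⁻¹ := by group
      rw [h6, h5, mul_inv_cancel_right]
      exact h
    · intro h
      rw [mul_assoc, ← hcomm y h, inv_mul_cancel_left]
      exact h
  · rw [h2]
    have h4 : (MulAction.stabilizer E P).index ≤ Nat.card E :=
      Nat.le_of_dvd Nat.card_pos (Subgroup.index_dvd_card _)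
    have h5 : Nat.card E = Nat.card (D.A.subgroupOf E) * D.A.relIndex E := (Subgroup.card_mul_index _).symm
    have h6 : Nat.card (D.A.subgroupOf E) ≤ Nat.card F := by
      have h7 : Nat.card (D.A.subgroupOf E) ≤ Nat.card D.A := by
        refine Nat.card_le_card_of_injective (fun a : D.A.subgroupOf E => (⟨(a : E), a.2⟩ : D.A)) ?_
        intro a b hab
        have h : ((a : E) : L) = ((b : E) : L) := congrArg (fun z : D.A => (z : L)) hab
        exact Subtype.ext (Subtype.ext h)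
      have h8 : Nat.card D.A ≤ Nat.card Fˣ := Nat.card_le_card_of_injective _ D.ι_inj
      have h9 : Nat.card Fˣ ≤ Nat.card F := Nat.card_le_card_of_injective _ Units.val_injective
      omega
    calc _ ≤ Nat.card E := h4
      _ = Nat.card (D.A.subgroupOf E) * D.A.relIndex E := h5
      _ ≤ Nat.card F * (D.A.relIndex D.S * D.S.relIndex E) := Nat.mul_le_mul h6 h3

/-- The number of unmoved vectors. -/
theorem card_unmoved_le {p : ℕ} (hp : p.Prime) (P : Sylow p L) (g : L) (hg : g ∈ P) :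
    Nat.card {u : U // ¬ p ∣ (MulAction.stabilizer L u).index} ≤
      Nat.card (Sylow p L) * Nat.card {u : U // g • u = u} := by
  have : Fact p.Prime := ⟨hp⟩
  have key : ∀ u : {u : U // ¬ p ∣ (MulAction.stabilizer L u).index},
      ∃ Q : Sylow p L, (Q : Subgroup L) ≤ MulAction.stabilizer L u.1 :=
    fun u => S4149.exists_sylow_le_centralizer p _ u.2
  choose Q hQ using key
  have key2 : ∀ Q : Sylow p L, ∃ x : L, x • P = Q := fun Q => MulAction.exists_smul_eq L P Q
  choose x hx using key2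
  let f : {u : U // ¬ p ∣ (MulAction.stabilizer L u).index} → Sylow p L × {u : U // g • u = u} :=
    fun u => ⟨Q u, ⟨(x (Q u))⁻¹ • u.1, by
      have h1 : x (Q u) * g * (x (Q u))⁻¹ ∈ ((Q u : Sylow p L) : Subgroup L) := by
        have h0 : ((Q u : Sylow p L) : Subgroup L) = MulAut.conj (x (Q u)) • (P : Subgroup L) := by
          rw [← Sylow.coe_subgroup_smul]
          exact congrArg _ (hx (Q u)).symm
        rw [h0]
        have h2 := Subgroup.smul_mem_pointwise_smul g (MulAut.conj (x (Q u))) (P : Subgroup L) hg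
        simpa only [_root_.MulAut.smul_def, _root_.MulAut.conj_apply] using h2
      have h3 := hQ u h1
      rw [MulAction.mem_stabilizer_iff, mul_smul, mul_smul] at h3
      rw [eq_inv_smul_iff]
      exact h3⟩⟩
  have hf : Function.Injective f := by
    intro a b hab
    have h1 : Q a = Q b := congrArg Prod.fst hab
    have h2 : (x (Q a))⁻¹ • a.1 = (x (Q b))⁻¹ • b.1 :=
      congrArg (fun z : Sylow p L × {u : U // g • u = u} => (z.2 : U)) hab
    rw [h1] at h2
    exact Subtype.ext (smul_left_cancel _ h2)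
  have := Nat.card_le_card_of_injective f hf
  rwa [Nat.card_prod] at this

end PrimFacts

end Cfsg.Agent.H822.Cls
end

-- part: H822/Cls/Linear
section
/-!
# The linear theorem from its primitive (faithful) and imprimitive steps
-/

set_option autoImplicit false

namespace Cfsg.Agent.H822.Cls

open scoped Pointwise commutatorElement

universe u

/-- the faithful primitive case -/
def PrimStep : Prop :=
  ∀ (L U : Type u) [Group L] [Finite L] [Group.IsSolvable L] [AddCommGroup U] [Finite U] [Nontrivial U]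
    [DistribMulAction L U] (M H : Subgroup L) (r n : ℕ), Split M H → r.Prime →
    (∀ u : U, r • u = 0) → ¬ r ∣ Nat.card H → Irr L U → (∀ q : ℕ, q.Prime → q ∣ Nat.card M → q ∣ n) → r ∣ n →
    (∀ g : L, (∀ u : U, g • u = u) → g = 1) → ¬ Imprim L U → Concl M H U n

/-- the imprimitive case -/
def ImprimStep : Prop :=
  ∀ (L U : Type u) [Group L] [Finite L] [Group.IsSolvable L] [AddCommGroup U] [Finite U] [Nontrivial U]
    [DistribMulAction L U] (M H : Subgroup L) (r n : ℕ), Split M H → r.Prime →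
    (∀ u : U, r • u = 0) → ¬ r ∣ Nat.card H → Irr L U → (∀ q : ℕ, q.Prime → q ∣ Nat.card M → q ∣ n) → r ∣ n →
    LinearStmt.{u} (Nat.card U) → Imprim L U → Concl M H U n

section Range

variable {L U : Type u} [Group L] [AddCommGroup U] [DistribMulAction L U]

/-- the acting group -/
abbrev rng (L U : Type u) [Group L] [AddCommGroup U] [DistribMulAction L U] : Subgroup (Equiv.Perm U) :=
  (MulAction.toPermHom L U).range

/-- the projection to the acting group -/
abbrev pr (L U : Type u) [Group L] [AddCommGroup U] [DistribMulAction L U] : L →* rng L U :=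
  (MulAction.toPermHom L U).rangeRestrict

theorem pr_surjective : Function.Surjective (pr L U) := (MulAction.toPermHom L U).rangeRestrict_surjective

theorem pr_smul' (g : L) (u : U) : pr L U g • u = g • u := rfl

/-- the action of the acting group -/
instance rngAct : DistribMulAction (rng L U) U where
  smul_zero := by
    intro g
    obtain ⟨x, rfl⟩ := pr_surjective g
    rw [pr_smul', smul_zero]
  smul_add := by
    intro g u v
    obtain ⟨x, rfl⟩ := pr_surjective g
    rw [pr_smul', pr_smul', pr_smul', smul_add]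

theorem pr_smul (g : L) (u : U) : pr L U g • u = g • u := rfl

theorem toAddAut_comp : (DistribMulAction.toAddAut (rng L U) U).comp (pr L U) = DistribMulAction.toAddAut L U :=
  rfl

theorem split_range {M H : Subgroup L} (hS : Split M H) : Split (M.map (pr L U)) (H.map (pr L U)) := by
  have := hS.normal
  refine ⟨this.map _ pr_surjective, ?_, ?_, ?_⟩
  · rintro _ ⟨a, ha, rfl⟩ _ ⟨b, hb, rfl⟩
    rw [← map_mul, hS.comm a ha b hb, map_mul]
  · exact Nat.Coprime.coprime_dvd_left (Subgroup.card_map_dvd _ _)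
      (Nat.Coprime.coprime_dvd_right (Subgroup.card_map_dvd _ _) hS.cop)
  · rw [← Subgroup.map_sup, hS.compl, ← MonoidHom.range_eq_map, MonoidHom.range_eq_top]
    exact pr_surjective

theorem stabilizer_index (u : U) :
    (MulAction.stabilizer (rng L U) u).index = (MulAction.stabilizer L u).index := by
  have h : MulAction.stabilizer L u = (MulAction.stabilizer (rng L U) u).comap (pr L U) := by
    ext g
    rw [MulAction.mem_stabilizer_iff, Subgroup.mem_comap, MulAction.mem_stabilizer_iff, pr_smul]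
  rw [h, Subgroup.index_comap_of_surjective _ pr_surjective]

variable [Finite L]

theorem Concl.of_range {M H : Subgroup L} (hS : Split M H) {n : ℕ}
    (h : Concl (M.map (pr L U)) (H.map (pr L U)) U n) : Concl M H U n := by
  obtain ⟨u, hu, hc⟩ := h
  refine ⟨u, hu, fun p hp hpH hgood P hnil => ?_⟩
  have : Fact p.Prime := ⟨hp⟩
  have hfin : Finite (rng L U) := Finite.of_surjective _ pr_surjective
  have hSr := split_range (U := U) hS
  let P' : Sylow p (rng L U) := P.mapSurjective pr_surjective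
  have hP' : (P' : Subgroup (rng L U)) = (P : Subgroup L).map (pr L U) := rfl
  have e1 : (⁅M.map (pr L U), (P' : Subgroup (rng L U))⁆ : Subgroup (rng L U)).map
      (DistribMulAction.toAddAut (rng L U) U) = (⁅M, (P : Subgroup L)⁆).map (DistribMulAction.toAddAut L U) := by
    rw [hP', ← Subgroup.map_commutator, Subgroup.map_map, toAddAut_comp]
  have hpH' : p ∣ Nat.card (H.map (pr L U)) := by
    by_contra hcon
    have hK : ¬ p ∣ Nat.card (M.map (pr L U)) := by
      intro h1
      exact hp.one_lt.ne' (Nat.eq_one_of_dvd_coprimes hS.cop (h1.trans (Subgroup.card_map_dvd _ _)) hpH)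
    have h2 : ¬ p ∣ Nat.card (rng L U) := by
      rw [hSr.card, hp.dvd_mul, not_or]
      exact ⟨hK, hcon⟩
    have h3 : (P' : Subgroup (rng L U)) = ⊥ := by
      rw [← Subgroup.card_eq_one, P'.card_eq_multiplicity,
        Nat.factorization_eq_zero_of_not_dvd h2, pow_zero]
    apply hnil
    rw [← e1, h3, Subgroup.commutator_bot_right, Subgroup.map_bot]
    infer_instance
  have := hc p hp hpH' hgood P' (by rw [e1]; exact hnil)
  rwa [stabilizer_index] at this

end Range

/-- The linear theorem. -/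
theorem linear (h1 : PrimStep.{u}) (h2 : ImprimStep.{u}) (N : ℕ) : LinearStmt.{u} N := by
  induction N with
  | zero =>
    intro L U _ _ _ _ _ _ _ M H r n hN
    omega
  | succ N ih =>
    intro L U _ _ _ _ _ _ _ M H r n hN hS hr hrU hrH hirr hM hrn
    have ih' : LinearStmt.{u} (Nat.card U) := by
      intro L' U' _ _ _ _ _ _ _ M' H' r' n' hN'
      exact ih L' U' M' H' r' n' (by omega)
    by_cases hI : Imprim L U
    · exact h2 L U M H r n hS hr hrU hrH hirr hM hrn ih' hI
    · refine Concl.of_range hS ?_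
      have hfin : Finite (rng L U) := Finite.of_surjective _ pr_surjective
      have hsol : Group.IsSolvable (rng L U) := Group.isSolvable_of_surjective pr_surjective
      refine h1 (rng L U) U _ _ r n (split_range hS) hr hrU ?_ ?_ ?_ hrn ?_ ?_
      · exact fun h => hrH (h.trans (Subgroup.card_map_dvd _ _))
      · intro W hW
        exact hirr W fun g w hw => hW (pr L U g) w hw
      · exact fun q hq hqM => hM q hq (hqM.trans (Subgroup.card_map_dvd _ _))
      · intro g hg
        apply Subtype.ext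
        apply Equiv.ext
        intro u
        exact hg u
      · rintro ⟨𝒟, ha, hb, hc, hd, he⟩
        exact hI ⟨𝒟, ha, hb, hc, fun g D hD => hd (pr L U g) D hD, he⟩

end Cfsg.Agent.H822.Cls
end

-- part: H158/Cls7
section
/-!
# S4148, part T7: the imprimitive step of the linear theorem
-/

set_option autoImplicit false

namespace Cfsg.Agent.H158.Cls7

open scoped Pointwise commutatorElement
open Cfsg.Agent.H822.Cls

universe u

/-- A system of imprimitivity given by its projections. -/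
structure Sys (L U Ω : Type*) [Group L] [AddCommGroup U] [DistribMulAction L U] [Fintype Ω] [MulAction L Ω] where
  π : Ω → U →+ U
  proj : ∀ i u, π i (π i u) = π i u
  orth : ∀ i j u, i ≠ j → π i (π j u) = 0
  sum : ∀ u, ∑ i, π i u = u
  eqv : ∀ (g : L) i u, g • π i u = π (g • i) (g • u)

namespace Sys

section

variable {L U Ω : Type*} [Group L] [AddCommGroup U] [DistribMulAction L U] [Fintype Ω] [MulAction L Ω]

theorem ne_zero [Nontrivial U] [MulAction.IsPretransitive L Ω] (S : Sys L U Ω) (i : Ω) : ∃ u, S.π i u ≠ 0 := by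
  by_contra! h
  obtain ⟨u, hu⟩ := exists_ne (0 : U)
  apply hu
  rw [← S.sum u]
  apply Finset.sum_eq_zero
  intro j _
  obtain ⟨g, hg⟩ := MulAction.exists_smul_eq L i j
  have h1 := S.eqv g i (g⁻¹ • u)
  rw [h, smul_zero, hg, smul_inv_smul] at h1
  exact h1.symm

/-- the coarser system -/
noncomputable def coarse {Ω' : Type*} [Fintype Ω'] [DecidableEq Ω'] [MulAction L Ω'] (S : Sys L U Ω) (f : Ω → Ω')
    (hf : ∀ (g : L) i, f (g • i) = g • f i) : Sys L U Ω' where
  π j := ∑ i with f i = j, S.π i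
  proj j u := by
    classical
    simp only [AddMonoidHom.finsetSum_apply, map_sum]
    apply Finset.sum_congr rfl
    intro i hi
    rw [Finset.sum_eq_single i]
    · exact S.proj i u
    · intro k _ hk
      exact S.orth k i u hk
    · intro h; exact absurd hi h
  orth j k u hjk := by
    simp only [AddMonoidHom.finsetSum_apply, map_sum]
    apply Finset.sum_eq_zero
    intro i hi
    apply Finset.sum_eq_zero
    intro l hl
    apply S.orth
    rintro rfl
    simp only [Finset.mem_filter, Finset.mem_univ, true_and] at hi hl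
    exact hjk (hl.symm.trans hi)
  sum u := by
    simp only [AddMonoidHom.finsetSum_apply]
    rw [Finset.sum_fiberwise]
    exact S.sum u
  eqv g j u := by
    simp only [AddMonoidHom.finsetSum_apply, Finset.smul_sum, S.eqv]
    apply Finset.sum_bij (fun i _ => g • i)
    · intro i hi
      simp only [Finset.mem_filter, Finset.mem_univ, true_and] at hi ⊢
      rw [hf, hi]
    · intro a _ b _ h
      exact MulAction.injective g h
    · intro b hb
      simp only [Finset.mem_filter, Finset.mem_univ, true_and] at hb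
      refine ⟨g⁻¹ • b, ?_, smul_inv_smul g b⟩
      simp only [Finset.mem_filter, Finset.mem_univ, true_and]
      rw [hf, hb, inv_smul_smul]
    · intro a _
      rfl

end

section

variable {L U Ω : Type*} [Group L] [AddCommGroup U] [DistribMulAction L U] [Fintype Ω] [DecidableEq Ω] [MulAction L Ω]

omit [Fintype Ω] in
theorem bij_of_indep (V : Ω → AddSubgroup U) (hi : iSupIndep V) (hs : iSup V = ⊤) :
    Function.Bijective (DFinsupp.sumAddHom fun i => (V i).subtype) := by
  refine ⟨hi.dfinsuppSumAddHom_injective, ?_⟩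
  rw [← AddMonoidHom.range_eq_top, eq_top_iff, ← hs, iSup_le_iff]
  intro i v hv
  refine ⟨DFinsupp.single i ⟨v, hv⟩, ?_⟩
  rw [DFinsupp.sumAddHom_single]
  rfl

/-- the projection -/
noncomputable def prj (V : Ω → AddSubgroup U) (hi : iSupIndep V) (hs : iSup V = ⊤) (i : Ω) : U →+ U :=
  ((V i).subtype.comp (DFinsupp.evalAddMonoidHom i)).comp
    (AddEquiv.ofBijective _ (bij_of_indep V hi hs)).symm.toAddMonoidHom

omit [Fintype Ω] in
theorem prj_mem (V : Ω → AddSubgroup U) (hi : iSupIndep V) (hs : iSup V = ⊤) (i : Ω) (u : U) :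
    prj V hi hs i u ∈ V i :=
  ((AddEquiv.ofBijective _ (bij_of_indep V hi hs)).symm u i).2

omit [Fintype Ω] in
theorem prj_of_mem (V : Ω → AddSubgroup U) (hi : iSupIndep V) (hs : iSup V = ⊤) (i j : Ω) (v : U) (hv : v ∈ V i) :
    prj V hi hs j v = if i = j then v else 0 := by
  have h1 : (AddEquiv.ofBijective _ (bij_of_indep V hi hs)).symm v = DFinsupp.single i ⟨v, hv⟩ := by
    rw [AddEquiv.symm_apply_eq, AddEquiv.ofBijective_apply, DFinsupp.sumAddHom_single]
    rfl
  show (((AddEquiv.ofBijective _ (bij_of_indep V hi hs)).symm v) j : U) = _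
  rw [h1]
  split_ifs with h
  · subst h
    rw [DFinsupp.single_eq_same]
  · rw [DFinsupp.single_eq_of_ne (Ne.symm h)]
    rfl

theorem sum_prj (V : Ω → AddSubgroup U) (hi : iSupIndep V) (hs : iSup V = ⊤) (u : U) :
    ∑ i, prj V hi hs i u = u := by
  classical
  obtain ⟨f, rfl⟩ := (AddEquiv.ofBijective _ (bij_of_indep V hi hs)).surjective u
  have h1 : ∀ i, prj V hi hs i ((AddEquiv.ofBijective _ (bij_of_indep V hi hs)) f) = f i := by
    intro i
    show (((AddEquiv.ofBijective _ (bij_of_indep V hi hs)).symm _) i : U) = _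
    rw [AddEquiv.symm_apply_apply]
  simp only [h1]
  rw [AddEquiv.ofBijective_apply, DFinsupp.sumAddHom_apply, DFinsupp.sum_eq_sum_fintype]
  · rfl
  · intro i; rfl

/-- a system from an independent family -/
noncomputable def ofIndep (V : Ω → AddSubgroup U) (hi : iSupIndep V) (hs : iSup V = ⊤)
    (hV : ∀ (g : L) (i : Ω) (v : U), v ∈ V i → g • v ∈ V (g • i)) : Sys L U Ω where
  π := prj V hi hs
  proj i u := by rw [prj_of_mem V hi hs i i _ (prj_mem V hi hs i u), if_pos rfl]
  orth i j u hij := by rw [prj_of_mem V hi hs j i _ (prj_mem V hi hs j u), if_neg hij.symm]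
  sum := sum_prj V hi hs
  eqv g i u := by
    conv_rhs => rw [← sum_prj V hi hs u, Finset.smul_sum, map_sum]
    rw [Finset.sum_eq_single i]
    · rw [prj_of_mem V hi hs (g • i) (g • i) _ (hV g i _ (prj_mem V hi hs i u)), if_pos rfl]
    · intro j _ hj
      rw [prj_of_mem V hi hs (g • j) (g • i) _ (hV g j _ (prj_mem V hi hs j u)), if_neg]
      intro h
      exact hj (MulAction.injective g h)
    · intro h; exact absurd (Finset.mem_univ i) h

end

end Sys

section

variable {L U : Type*} [Group L] [Finite L] [AddCommGroup U] [DistribMulAction L U]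

omit [Finite L] in
theorem exists_sys (hirr : Irr L U) (hI : Imprim L U) :
    ∃ X : Subgroup L, X ≠ ⊤ ∧ ∀ (_ : Fintype (L ⧸ X)), Nonempty (Sys L U (L ⧸ X)) := by
  classical
  obtain ⟨𝒟, hfin, h2, hne, hinv, hind, hsup⟩ := hI
  have hn : 𝒟.Nonempty := by
    rw [Set.nonempty_iff_ne_empty]
    rintro rfl
    simp at h2
  obtain ⟨D, hD⟩ := hn
  let X : Subgroup L := MulAction.stabilizer L D
  let V : L ⧸ X → AddSubgroup U := MulAction.ofQuotientStabilizer L D
  have hV : ∀ (g : L) (i : L ⧸ X), V (g • i) = g • V i := fun g i => MulAction.ofQuotientStabilizer_smul L D g i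
  have hV1 : ∀ g : L, V (g : L ⧸ X) = g • D := fun g => rfl
  have hmem : ∀ i, V i ∈ 𝒟 := by
    intro i
    induction i using QuotientGroup.induction_on with
    | H g => rw [hV1]; exact hinv g D hD
  have hinj : Function.Injective V := MulAction.injective_ofQuotientStabilizer L D
  have hi : iSupIndep V := by
    have h1 := (sSupIndep_iff 𝒟).1 hind
    exact h1.comp (f := fun i => ⟨V i, hmem i⟩) (fun a b h => hinj (congrArg Subtype.val h))
  have hW : ∀ (g : L) (w : U), w ∈ iSup V → g • w ∈ iSup V := by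
    intro g
    have h1 : iSup V ≤ (iSup V).comap (DistribSMul.toAddMonoidHom U g) := by
      apply iSup_le
      intro i v hv
      rw [AddSubgroup.mem_comap]
      apply le_iSup V (g • i)
      rw [hV]
      exact AddSubgroup.smul_mem_pointwise_smul v g (V i) hv
    exact h1
  have hDW : D ≤ iSup V := by
    have h1 := le_iSup V ((1 : L) : L ⧸ X)
    rwa [hV1, one_smul] at h1
  have htop : iSup V = ⊤ := by
    rcases hirr (iSup V) hW with h | h
    · exfalso
      rw [h] at hDW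
      exact hne D hD (le_bot_iff.1 hDW)
    · exact h
  refine ⟨X, ?_, ?_⟩
  · intro hX
    have h1 : iSup V ≤ D := by
      apply iSup_le
      intro i
      induction i using QuotientGroup.induction_on with
      | H g =>
        rw [hV1]
        have h3 : g ∈ X := by rw [hX]; trivial
        exact (MulAction.mem_stabilizer_iff.1 h3).le
    have h2' : D = ⊤ := top_le_iff.1 (htop ▸ h1)
    obtain ⟨D', hD', hne'⟩ := Set.exists_ne_of_one_lt_ncard (by omega : 1 < 𝒟.ncard) D
    have h3 : Disjoint D' D := hind.pairwiseDisjoint hD' hD hne'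
    rw [h2', disjoint_top] at h3
    exact hne D' hD' h3
  · intro _
    exact ⟨Sys.ofIndep V hi htop (fun g i v hv => by
      rw [hV]
      exact AddSubgroup.smul_mem_pointwise_smul v g (V i) hv)⟩

theorem exists_coatom_sys (hirr : Irr L U) (hI : Imprim L U) :
    ∃ X : Subgroup L, IsCoatom X ∧ ∀ (_ : Fintype (L ⧸ X)), Nonempty (Sys L U (L ⧸ X)) := by
  classical
  let 𝒳 : Set (Subgroup L) := {X | X ≠ ⊤ ∧ ∀ (_ : Fintype (L ⧸ X)), Nonempty (Sys L U (L ⧸ X))}
  have hne : 𝒳.Nonempty := exists_sys hirr hI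
  obtain ⟨X, hX⟩ := (Set.toFinite 𝒳).exists_maximal hne
  refine ⟨X, ⟨hX.prop.1, fun Y hXY => ?_⟩, hX.prop.2⟩
  by_contra hY
  have hmem : Y ∈ 𝒳 := by
    refine ⟨hY, fun inst => ?_⟩
    let _ : Fintype (L ⧸ X) := Fintype.ofFinite _
    obtain ⟨S⟩ := hX.prop.2 inferInstance
    refine ⟨S.coarse (Subgroup.quotientMapOfLE hXY.le) ?_⟩
    intro g i
    induction i using QuotientGroup.induction_on with
    | H x => rfl
  exact absurd (hX.le_of_ge hmem hXY.le) (not_le_of_gt hXY)

end

theorem nilp_of_ker_le {E A B : Type*} [Group E] [Group A] [Group B] (f : E →* A) (g : E →* B) (h : f.ker ≤ g.ker)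
    (hn : Group.IsNilpotent A) : Group.IsNilpotent g.range := by
  have h1 : Group.IsNilpotent (E ⧸ f.ker) := Subgroup.isNilpotent_of_ker_le_center (QuotientGroup.kerLift f) (by
    rw [(MonoidHom.ker_eq_bot_iff _).2 (QuotientGroup.kerLift_injective f)]
    exact bot_le)
  have h2 : ∀ x ∈ f.ker, g.rangeRestrict x = 1 := by
    intro x hx
    apply Subtype.ext
    exact h hx
  apply Group.nilpotent_of_surjective (QuotientGroup.lift f.ker g.rangeRestrict h2)
  intro y
  obtain ⟨x, hx⟩ := g.rangeRestrict_surjective y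
  exact ⟨x, hx⟩

namespace Sys

section

variable {L U : Type*} [Group L] [AddCommGroup U] [DistribMulAction L U] {X : Subgroup L} [Fintype (L ⧸ X)]

/-- the first component -/
def V (S : Sys L U (L ⧸ X)) : AddSubgroup U := (S.π ((1 : L) : L ⧸ X)).range

omit [Fintype (L ⧸ X)] in
theorem smul_one_coe {x : L} (hx : x ∈ X) : x • ((1 : L) : L ⧸ X) = ((1 : L) : L ⧸ X) := by
  show ((x * 1 : L) : L ⧸ X) = _
  rw [mul_one, QuotientGroup.eq]
  simpa using hx

omit [Fintype (L ⧸ X)] in
theorem mem_of_smul_one {x : L} (hx : x • ((1 : L) : L ⧸ X) = ((1 : L) : L ⧸ X)) : x ∈ X := by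
  have h1 : ((x * 1 : L) : L ⧸ X) = ((1 : L) : L ⧸ X) := hx
  rw [mul_one, QuotientGroup.eq] at h1
  simpa using h1

theorem mem_V_iff (S : Sys L U (L ⧸ X)) (v : U) : v ∈ S.V ↔ S.π ((1 : L) : L ⧸ X) v = v := by
  constructor
  · rintro ⟨w, rfl⟩
    exact S.proj _ w
  · intro h
    exact ⟨v, h⟩

theorem smul_mem (S : Sys L U (L ⧸ X)) {x : L} (hx : x ∈ X) {v : U} (hv : v ∈ S.V) : x • v ∈ S.V := by
  obtain ⟨w, rfl⟩ := hv
  rw [S.eqv, smul_one_coe hx]
  exact ⟨_, rfl⟩

/-- an element fixing a nonzero vector of the first component lies in the stabiliser -/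
theorem mem_of_fix (S : Sys L U (L ⧸ X)) {g : L} {v : U} (hv : v ∈ S.V) (hv0 : v ≠ 0) (h : g • v = v) : g ∈ X := by
  by_contra hg
  have h1 := S.eqv g ((1 : L) : L ⧸ X) v
  rw [(S.mem_V_iff v).1 hv, h] at h1
  apply hv0
  rw [h1]
  conv_lhs => rw [← (S.mem_V_iff v).1 hv]
  apply S.orth
  intro h2
  exact hg (mem_of_smul_one h2)

/-- the action of the stabiliser on the first component -/
@[reducible] def act (S : Sys L U (L ⧸ X)) : DistribMulAction X S.V where
  smul x v := ⟨(x : L) • (v : U), S.smul_mem x.2 v.2⟩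
  one_smul v := Subtype.ext (one_smul L (v : U))
  mul_smul x y v := Subtype.ext (mul_smul (x : L) (y : L) (v : U))
  smul_zero x := Subtype.ext (smul_zero (x : L))
  smul_add x v w := Subtype.ext (smul_add (x : L) (v : U) (w : U))

theorem out_inv_smul_mem (S : Sys L U (L ⧸ X)) (i : L ⧸ X) (u : U) : (i.out)⁻¹ • S.π i u ∈ S.V := by
  rw [S.eqv]
  have h1 : (i.out)⁻¹ • i = ((1 : L) : L ⧸ X) := by
    rw [inv_smul_eq_iff]
    show i = ((i.out * 1 : L) : L ⧸ X)
    rw [mul_one]
    exact (QuotientGroup.out_eq' i).symm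
  rw [h1]
  exact ⟨_, rfl⟩

theorem irr (S : Sys L U (L ⧸ X)) (hirr : Irr L U) : @Irr X S.V _ _ S.act := by
  let _ := S.act
  intro W hW
  let W' : AddSubgroup U := {
    carrier := {u | ∀ i : L ⧸ X, (⟨(i.out)⁻¹ • S.π i u, S.out_inv_smul_mem i u⟩ : S.V) ∈ W}
    zero_mem' := by
      intro i
      have h1 : (⟨(i.out)⁻¹ • S.π i 0, S.out_inv_smul_mem i 0⟩ : S.V) = 0 := by
        apply Subtype.ext
        show (i.out)⁻¹ • S.π i 0 = 0
        rw [map_zero, smul_zero]
      rw [h1]
      exact zero_mem _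
    add_mem' := by
      intro a b ha hb i
      have h1 : (⟨(i.out)⁻¹ • S.π i (a + b), S.out_inv_smul_mem i (a + b)⟩ : S.V) =
          ⟨(i.out)⁻¹ • S.π i a, S.out_inv_smul_mem i a⟩ + ⟨(i.out)⁻¹ • S.π i b, S.out_inv_smul_mem i b⟩ := by
        apply Subtype.ext
        show (i.out)⁻¹ • S.π i (a + b) = (i.out)⁻¹ • S.π i a + (i.out)⁻¹ • S.π i b
        rw [map_add, smul_add]
      rw [h1]
      exact add_mem (ha i) (hb i)
    neg_mem' := by
      intro a ha i
      have h1 : (⟨(i.out)⁻¹ • S.π i (-a), S.out_inv_smul_mem i (-a)⟩ : S.V) =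
          -⟨(i.out)⁻¹ • S.π i a, S.out_inv_smul_mem i a⟩ := by
        apply Subtype.ext
        show (i.out)⁻¹ • S.π i (-a) = -((i.out)⁻¹ • S.π i a)
        rw [map_neg, smul_neg]
      rw [h1]
      exact neg_mem (ha i) }
  have hinv : ∀ g : L, ∀ w ∈ W', g • w ∈ W' := by
    intro g w hw j
    have hx : (j.out)⁻¹ * g * (g⁻¹ • j).out ∈ X := by
      have h1 : ((j.out : L) : L ⧸ X) = ((g * (g⁻¹ • j).out : L) : L ⧸ X) := by
        rw [QuotientGroup.out_eq']
        show j = g • (((g⁻¹ • j).out : L) : L ⧸ X)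
        rw [QuotientGroup.out_eq', smul_inv_smul]
      rw [QuotientGroup.eq] at h1
      rwa [mul_assoc]
    have h2 := hW ⟨_, hx⟩ _ (hw (g⁻¹ • j))
    convert h2 using 1
    apply Subtype.ext
    show (j.out)⁻¹ • S.π j (g • w) = ((j.out)⁻¹ * g * (g⁻¹ • j).out) • ((g⁻¹ • j).out)⁻¹ • S.π (g⁻¹ • j) w
    rw [← mul_smul, mul_assoc, mul_assoc, mul_inv_cancel, mul_one, mul_smul, S.eqv g, smul_inv_smul]
  have hmem : ∀ v : S.V, (v : U) ∈ W' → v ∈ W := by
    intro v hv
    have h1 := hv ((1 : L) : L ⧸ X)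
    have hx : (((1 : L) : L ⧸ X).out : L) ∈ X := by
      have h2 := QuotientGroup.out_eq' ((1 : L) : L ⧸ X)
      rw [QuotientGroup.eq] at h2
      simpa using h2
    have h2 := hW ⟨_, hx⟩ _ h1
    convert h2 using 1
    apply Subtype.ext
    show (v : U) = (((1 : L) : L ⧸ X).out : L) • (((1 : L) : L ⧸ X).out : L)⁻¹ • S.π ((1 : L) : L ⧸ X) (v : U)
    rw [smul_inv_smul, (S.mem_V_iff _).1 v.2]
  have hmem' : ∀ v ∈ W, (v : U) ∈ W' := by
    intro v hv i
    by_cases hi : i = ((1 : L) : L ⧸ X)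
    · subst hi
      have hx : (((1 : L) : L ⧸ X).out : L)⁻¹ ∈ X := by
        have h2 := QuotientGroup.out_eq' ((1 : L) : L ⧸ X)
        rw [QuotientGroup.eq] at h2
        simpa using h2
      have h2 := hW ⟨_, hx⟩ _ hv
      convert h2 using 1
      apply Subtype.ext
      show (((1 : L) : L ⧸ X).out : L)⁻¹ • S.π ((1 : L) : L ⧸ X) (v : U) = (((1 : L) : L ⧸ X).out : L)⁻¹ • (v : U)
      rw [(S.mem_V_iff _).1 v.2]
    · have h1 : (⟨(i.out)⁻¹ • S.π i (v : U), S.out_inv_smul_mem i (v : U)⟩ : S.V) = 0 := by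
        apply Subtype.ext
        show (i.out)⁻¹ • S.π i (v : U) = 0
        rw [← (S.mem_V_iff _).1 v.2, S.orth _ _ _ hi, smul_zero]
      rw [h1]
      exact zero_mem _
  rcases hirr W' hinv with h | h
  · left
    rw [eq_bot_iff]
    intro v hv
    have h1 := hmem' v hv
    rw [h, AddSubgroup.mem_bot] at h1
    rw [AddSubgroup.mem_bot]
    exact Subtype.ext h1
  · right
    rw [eq_top_iff]
    intro v _
    apply hmem
    rw [h]
    trivial

theorem nilp [Finite L] (S : Sys L U (L ⧸ X)) (E : Subgroup L) (hE : E.Normal) (hEX : E ≤ X)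
    (hn : Group.IsNilpotent ((E.subgroupOf X).map (letI := S.act; DistribMulAction.toAddAut X S.V))) :
    Group.IsNilpotent (E.map (DistribMulAction.toAddAut L U)) := by
  let _ := S.act
  let f₁ : E →* Multiplicative (AddAut S.V) := (DistribMulAction.toAddAut X S.V).comp (Subgroup.inclusion hEX)
  have hr1 : f₁.range = (E.subgroupOf X).map (DistribMulAction.toAddAut X S.V) := by
    ext a
    constructor
    · rintro ⟨e, rfl⟩
      exact ⟨Subgroup.inclusion hEX e, e.2, rfl⟩
    · rintro ⟨x, hx, rfl⟩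
      exact ⟨⟨x, hx⟩, rfl⟩
  have hn1 : Group.IsNilpotent f₁.range := by rw [hr1]; exact hn
  let F : E →* (L → f₁.range) := MonoidHom.pi fun g =>
    f₁.rangeRestrict.comp (MulAut.conjNormal g⁻¹ : MulAut E).toMonoidHom
  have hr2 : ((DistribMulAction.toAddAut L U).comp E.subtype).range = E.map (DistribMulAction.toAddAut L U) := by
    rw [MonoidHom.range_comp, Subgroup.range_subtype]
  rw [← hr2]
  apply nilp_of_ker_le F _ ?_ inferInstance
  intro e he
  rw [MonoidHom.mem_ker] at he ⊢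
  have h1 : ∀ (g : L) (w : U), w ∈ S.V → (g⁻¹ * e * g) • w = w := by
    intro g w hw
    have h2 : F e g = 1 := by rw [he]; rfl
    have h3 : f₁ ((MulAut.conjNormal g⁻¹ : MulAut E) e) = 1 := congrArg Subtype.val h2
    have h4 := congrArg Subtype.val (DFunLike.congr_fun (congrArg Multiplicative.toAdd h3) (⟨w, hw⟩ : S.V))
    have h5 : (((MulAut.conjNormal g⁻¹ : MulAut E) e : E) : L) • w = w := h4
    rw [MulAut.conjNormal_apply, inv_inv] at h5
    exact h5
  ext u
  show (e : L) • u = u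
  conv_lhs => rw [← S.sum u, Finset.smul_sum]
  conv_rhs => rw [← S.sum u]
  apply Finset.sum_congr rfl
  intro i _
  have h2 := h1 i.out _ (S.out_inv_smul_mem i u)
  rw [mul_smul, smul_inv_smul, mul_smul] at h2
  exact (smul_left_cancel _ h2)

end

end Sys

/-! ### group theory of `Split` -/

section

variable {L : Type*} [Group L] [Finite L]

omit [Finite L] in
theorem commutator_le {M H : Subgroup L} (hS : Split M H) : _root_.commutator L ≤ M := by
  have hM := hS.normal
  rw [_root_.commutator_def, Subgroup.commutator_le]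
  have h1 : ∀ x : L, ∃ m ∈ M, ∃ h ∈ H, x = m * h := by
    intro x
    have h2 : x ∈ M ⊔ H := by rw [hS.compl]; trivial
    rw [Subgroup.mem_sup_of_normal_left] at h2
    obtain ⟨m, hm, h, hh, e⟩ := h2
    exact ⟨m, hm, h, hh, e.symm⟩
  intro x _ y _
  obtain ⟨m, hm, h, hh, rfl⟩ := h1 x
  obtain ⟨m', hm', h', hh', rfl⟩ := h1 y
  rw [← QuotientGroup.eq_one_iff]
  have e1 : ((m * h : L) : L ⧸ M) = ((h : L) : L ⧸ M) := by
    rw [QuotientGroup.mk_mul, (QuotientGroup.eq_one_iff m).2 hm, one_mul]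
  have e2 : ((m' * h' : L) : L ⧸ M) = ((h' : L) : L ⧸ M) := by
    rw [QuotientGroup.mk_mul, (QuotientGroup.eq_one_iff m').2 hm', one_mul]
  have e3 : ((⁅m * h, m' * h'⁆ : L) : L ⧸ M) = ⁅((m * h : L) : L ⧸ M), ((m' * h' : L) : L ⧸ M)⁆ := rfl
  rw [e3, e1, e2]
  have e4 : (⁅((h : L) : L ⧸ M), ((h' : L) : L ⧸ M)⁆) = ((⁅h, h'⁆ : L) : L ⧸ M) := rfl
  rw [e4, commutatorElement_def, hS.comm h hh h' hh', mul_assoc, mul_assoc, ← mul_assoc h h⁻¹, mul_inv_cancel, one_mul,
    mul_inv_cancel]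
  rfl

omit [Finite L] in
theorem isCompl {M H : Subgroup L} (hS : Split M H) : Subgroup.IsComplement' M H := by
  have hM := hS.normal
  apply Subgroup.isComplement'_of_disjoint_and_mul_eq_univ (Subgroup.disjoint_of_coprime_natCard hS.cop)
  rw [← Subgroup.normal_mul, hS.compl]
  rfl

omit [Finite L] in
theorem card_mul {M H : Subgroup L} (hS : Split M H) : Nat.card M * Nat.card H = Nat.card L :=
  (isCompl hS).card_mul_card

theorem index_eq {M H : Subgroup L} (hS : Split M H) : M.index = Nat.card H := by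
  have h1 := card_mul hS
  have h2 := M.card_mul_index
  rw [← h1] at h2
  exact Nat.eq_of_mul_eq_mul_left Nat.card_pos h2

theorem split_sub {M H : Subgroup L} (hS : Split M H) (X : Subgroup L) :
    ∃ H1 : Subgroup X, Split (M.subgroupOf X) H1 ∧ Nat.card H1 ∣ Nat.card H := by
  have hM := hS.normal
  have h1 : (M.subgroupOf X).index ∣ Nat.card H := by
    rw [← index_eq hS]
    exact Subgroup.relIndex_dvd_index_of_normal M X
  have h2 : Nat.card (M.subgroupOf X) ∣ Nat.card M := by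
    have h3 : Nat.card (M.subgroupOf X) = Nat.card (M ⊓ X : Subgroup L) := by
      rw [← Subgroup.subgroupOf_map_subtype]
      exact (Nat.card_congr ((M.subgroupOf X).equivMapOfInjective X.subtype X.subtype_injective).toEquiv)
    rw [h3]
    exact Subgroup.card_dvd_of_le inf_le_left
  have hcop : (Nat.card (M.subgroupOf X)).Coprime (M.subgroupOf X).index :=
    Nat.Coprime.coprime_dvd_left h2 (Nat.Coprime.coprime_dvd_right h1 hS.cop)
  obtain ⟨H1, hH1⟩ := Subgroup.exists_right_complement'_of_coprime hcop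
  have hidx : (M.subgroupOf X).index = Nat.card H1 := hH1.symm.index_eq_card
  refine ⟨H1, ⟨inferInstance, ?_, hidx ▸ hcop, hH1.sup_eq_top⟩, hidx ▸ h1⟩
  intro a ha b hb
  have h3 : ⁅a, b⁆ ∈ M.subgroupOf X := by
    rw [Subgroup.mem_subgroupOf]
    exact commutator_le hS (Subgroup.commutator_mem_commutator (Subgroup.mem_top (a : L)) (Subgroup.mem_top (b : L)))
  have h4 : ⁅a, b⁆ ∈ H1 := by
    rw [commutatorElement_def]
    exact mul_mem (mul_mem (mul_mem ha hb) (inv_mem ha)) (inv_mem hb)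
  have h5 : ⁅a, b⁆ = 1 := Subgroup.disjoint_def.1 hH1.disjoint h3 h4
  exact commutatorElement_eq_one_iff_mul_comm.1 h5

omit [Finite L] in
theorem comm_smul_le {M : Subgroup L} {p : ℕ} (P : Sylow p L) {m : L} (hm : m ∈ M) :
    ⁅M, ((m • P : Sylow p L) : Subgroup L)⁆ ≤ ⁅M, (P : Subgroup L)⁆ := by
  rw [Subgroup.commutator_le]
  intro k hk b hb
  rw [Sylow.coe_subgroup_smul, Subgroup.mem_pointwise_smul_iff_inv_smul_mem] at hb
  have hb' : m⁻¹ * b * m ∈ (P : Subgroup L) := by simpa only [MulAut.smul_def, mul_assoc, _root_.MulAut.inv_apply, _root_.MulAut.conj_symm_apply] using hb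
  have h1 : ⁅m⁻¹ * k * m, m⁻¹ * b * m⁆ ∈ ⁅M, (P : Subgroup L)⁆ :=
    Subgroup.commutator_mem_commutator (mul_mem (mul_mem (inv_mem hm) hk) hm) hb'
  have h2 := (Subgroup.mem_normalizer_iff.1
    (Lib.CoprimeCommutator.left_le_normalizer_commutator M (P : Subgroup L) hm) _).1 h1
  have h3 : ⁅k, b⁆ = m * ⁅m⁻¹ * k * m, m⁻¹ * b * m⁆ * m⁻¹ := by
    simp only [commutatorElement_def]; group
  rw [h3]
  exact h2

theorem comm_smul {M H : Subgroup L} (hS : Split M H) {p : ℕ} [Fact p.Prime] (P : Sylow p L) (g : L) :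
    ⁅M, ((g • P : Sylow p L) : Subgroup L)⁆ = ⁅M, (P : Subgroup L)⁆ := by
  have hM := hS.normal
  let N : Subgroup L := M ⊔ (P : Subgroup L)
  have hN : N.Normal := by
    apply Subgroup.Normal.of_commutator_le
    exact (commutator_le hS).trans le_sup_left
  have hP : (P : Subgroup L) ≤ N := le_sup_right
  have hgP : ((g • P : Sylow p L) : Subgroup L) ≤ N := by
    intro x hx
    rw [Sylow.coe_subgroup_smul, Subgroup.mem_pointwise_smul_iff_inv_smul_mem] at hx
    have h1 := hN.conj_mem _ (hP hx) g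
    simpa only [MulAut.smul_def, mul_assoc, _root_.MulAut.inv_apply, _root_.MulAut.conj_symm_apply, _root_.mul_inv_cancel_left, _root_.mul_inv_cancel, _root_.mul_one] using h1
  obtain ⟨x, hx⟩ := MulAction.exists_smul_eq N (P.subtype hP) ((g • P).subtype hgP)
  have hx2 : ((x : L) • P : Sylow p L) = g • P := by
    have h2 := congrArg (fun Q : Sylow p N => (Q : Subgroup N).map N.subtype) hx
    apply Sylow.ext
    simp only [Sylow.coe_subtype, Subgroup.subgroupOf_map_subtype] at h2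
    rw [inf_of_le_left hgP] at h2
    rw [← h2]
    ext y
    simp only [Sylow.coe_subgroup_smul, Subgroup.mem_map, Subgroup.mem_pointwise_smul_iff_inv_smul_mem]
    constructor
    · intro hy
      have hyN : y ∈ N := by
        have h3 := hN.conj_mem _ (hP hy) (x : L)
        simpa only [MulAut.smul_def, mul_assoc, _root_.MulAut.inv_apply, _root_.MulAut.conj_symm_apply, _root_.mul_inv_cancel_left, _root_.mul_inv_cancel, _root_.mul_one] using h3
      exact ⟨⟨y, hyN⟩, hy, rfl⟩
    · rintro ⟨z, hz, rfl⟩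
      exact hz
  rw [← hx2]
  have h3 : (x : L) ∈ M ⊔ (P : Subgroup L) := x.2
  rw [Subgroup.mem_sup_of_normal_left] at h3
  obtain ⟨m, hm, a, ha, e⟩ := h3
  have h4 : ((x : L) • P : Sylow p L) = m • P := by
    rw [← e, mul_smul]
    congr 1
    exact Sylow.smul_eq_iff_mem_normalizer.2 (Subgroup.le_normalizer ha)
  rw [h4]
  apply le_antisymm (comm_smul_le P hm)
  have h5 := comm_smul_le (m • P) (inv_mem hm)
  rwa [inv_smul_smul] at h5

theorem comm_normal {M H : Subgroup L} (hS : Split M H) {p : ℕ} [Fact p.Prime] (P : Sylow p L) :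
    (⁅M, (P : Subgroup L)⁆).Normal := by
  have hM := hS.normal
  constructor
  intro n hn g
  have h1 : g * n * g⁻¹ ∈ (⁅M, (P : Subgroup L)⁆).map (MulAut.conj g).toMonoidHom := ⟨n, hn, rfl⟩
  rw [Subgroup.map_commutator] at h1
  rw [← comm_smul hS P g]
  refine Subgroup.commutator_mono ?_ ?_ h1
  · rintro _ ⟨m, hm, rfl⟩
    exact hM.conj_mem m hm g
  · rintro _ ⟨a, ha, rfl⟩
    rw [Sylow.coe_subgroup_smul]
    exact ⟨a, ha, rfl⟩

theorem exists_sylow_le {S : Subgroup L} {p : ℕ} [Fact p.Prime] (h : ¬ p ∣ S.index) :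
    ∃ Q : Sylow p L, (Q : Subgroup L) ≤ S := by
  obtain ⟨Q'⟩ := (inferInstance : Nonempty (Sylow p S))
  have h1 : IsPGroup p ((Q' : Subgroup S).map S.subtype) := Q'.isPGroup'.map S.subtype
  have h2 : ¬ p ∣ ((Q' : Subgroup S).map S.subtype).index := by
    rw [Subgroup.index_map_subtype]
    exact (Fact.out : p.Prime).not_dvd_mul Q'.not_dvd_index h
  exact ⟨h1.toSylow h2, by
    rintro _ ⟨x, _, rfl⟩
    exact x.2⟩

theorem not_dvd_of_sylow_le {S : Subgroup L} {p : ℕ} [Fact p.Prime] (Q : Sylow p L) (h : (Q : Subgroup L) ≤ S) :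
    ¬ p ∣ S.index := fun h' => Q.not_dvd_index (h'.trans (Subgroup.index_dvd_of_le h))

end

theorem nilp_mono {A : Type*} [Group A] {B C : Subgroup A} (h : B ≤ C) (hn : Group.IsNilpotent C) :
    Group.IsNilpotent B :=
  Subgroup.isNilpotent_of_ker_le_center (Subgroup.inclusion h) (by
    rw [(MonoidHom.ker_eq_bot_iff _).2 (Subgroup.inclusion_injective h)]
    exact bot_le)

theorem key {L U : Type u} [Group L] [Finite L] [Group.IsSolvable L] [AddCommGroup U]
    [Finite U] [Nontrivial U] [DistribMulAction L U] (M H : Subgroup L) (r n : ℕ) (hS : Split M H) (hr : r.Prime)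
    (hrU : ∀ u : U, r • u = 0) (hrH : ¬ r ∣ Nat.card H) (hirr : Irr L U)
    (hM : ∀ q : ℕ, q.Prime → q ∣ Nat.card M → q ∣ n) (hrn : r ∣ n) (IH : LinearStmt.{u} (Nat.card U))
    (X : Subgroup L) (hX : X ≠ ⊤) [Fintype (L ⧸ X)] (S : Sys L U (L ⧸ X)) :
    ∃ u₁ : U, u₁ ∈ S.V ∧ u₁ ≠ 0 ∧ ∀ p : ℕ, p.Prime → p ∣ Nat.card H → Good p n → ∀ Q : Sylow p L,
      (Q : Subgroup L) ≤ X → (∀ g ∈ Q, g • u₁ = u₁) → ⁅M, (Q : Subgroup L)⁆ ≤ ⁅M ⊓ X, (Q : Subgroup L)⁆ →
      Group.IsNilpotent ((⁅M, (Q : Subgroup L)⁆).map (DistribMulAction.toAddAut L U)) := by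
  classical
  let _ := S.act
  have hMn := hS.normal
  obtain ⟨H1, hS1, hH1⟩ := split_sub hS X
  have hMX : Nat.card (M.subgroupOf X) ∣ Nat.card M := by
    have h3 : Nat.card (M.subgroupOf X) = Nat.card (M ⊓ X : Subgroup L) := by
      rw [← Subgroup.subgroupOf_map_subtype]
      exact (Nat.card_congr ((M.subgroupOf X).equivMapOfInjective X.subtype X.subtype_injective).toEquiv)
    rw [h3]
    exact Subgroup.card_dvd_of_le inf_le_left
  -- the first component
  have hVne : ∃ w : U, S.π ((1 : L) : L ⧸ X) w ≠ 0 := S.ne_zero _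
  have hnt : Nontrivial S.V := by
    obtain ⟨w, hw⟩ := hVne
    exact ⟨⟨⟨_, ⟨w, rfl⟩⟩, 0, fun h => hw (congrArg Subtype.val h)⟩⟩
  have hlt : Nat.card S.V < Nat.card U := by
    have h1 : ∃ g : L, g ∉ X := by
      by_contra! h
      exact hX (eq_top_iff.2 fun g _ => h g)
    obtain ⟨g, hg⟩ := h1
    obtain ⟨w, hw⟩ := S.ne_zero ((g : L) : L ⧸ X)
    have h2 : S.V ≠ ⊤ := by
      intro h
      have h3 : S.π ((g : L) : L ⧸ X) w ∈ S.V := by rw [h]; trivial
      rw [S.mem_V_iff, S.orth] at h3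
      · exact hw h3.symm
      · intro h4
        rw [QuotientGroup.eq] at h4
        exact hg (by simpa using h4)
    have h3 : (S.V : Set U) ≠ Set.univ := by
      intro h
      exact h2 (SetLike.coe_injective h)
    have h4 : (S.V : Set U) ⊂ Set.univ := Set.ssubset_univ_iff.2 h3
    have h5 := Set.ncard_lt_ncard h4 (Set.toFinite _)
    rw [Set.ncard_univ] at h5
    exact h5
  have hrV : ∀ v : S.V, r • v = 0 := fun v => Subtype.ext (hrU v)
  have hMX' : ∀ q : ℕ, q.Prime → q ∣ Nat.card (M.subgroupOf X) → q ∣ n := fun q hq h => hM q hq (h.trans hMX)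
  obtain ⟨⟨u₁, hu₁⟩, hne, hconcl⟩ := IH X S.V (M.subgroupOf X) H1 r n hlt hS1 hr hrV (fun h => hrH (h.trans hH1))
    (S.irr hirr) hMX' hrn
  refine ⟨u₁, hu₁, fun h => hne (Subtype.ext h), ?_⟩
  intro p hp hpH hgood Q hQX hfix hle
  have : Fact p.Prime := ⟨hp⟩
  by_contra hnil
  have hpM : ¬ p ∣ Nat.card M := fun h => hp.one_lt.ne' (Nat.dvd_one.1 (hS.cop ▸ Nat.dvd_gcd h hpH))
  have hpL : p ∣ Nat.card L := (card_mul hS) ▸ (hpH.mul_left _)
  have hpQ : p ∣ Nat.card Q := Q.dvd_card_of_dvd_card hpL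
  have hpX : p ∣ Nat.card X := hpQ.trans (Subgroup.card_dvd_of_le hQX)
  have hpH1 : p ∣ Nat.card H1 := by
    rw [← card_mul hS1] at hpX
    exact (hp.dvd_mul.1 hpX).resolve_left fun h => hpM (h.trans hMX)
  have hEX : ⁅M, (Q : Subgroup L)⁆ ≤ X :=
    hle.trans ((Subgroup.commutator_mono inf_le_right hQX).trans (Subgroup.commutator_le_self X))
  have hdvd := hconcl p hp hpH1 hgood (Q.subtype hQX) (by
    intro hn
    apply hnil
    apply S.nilp _ (comm_normal hS Q) hEX
    refine nilp_mono (Subgroup.map_mono ?_) hn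
    have h1 : ((⁅M, (Q : Subgroup L)⁆).subgroupOf X).map X.subtype ≤
        (⁅M.subgroupOf X, ((Q.subtype hQX : Sylow p X) : Subgroup X)⁆).map X.subtype := by
      rw [Subgroup.map_commutator, Subgroup.subgroupOf_map_subtype, Sylow.coe_subtype, Subgroup.subgroupOf_map_subtype,
        Subgroup.subgroupOf_map_subtype, inf_of_le_left hQX]
      exact inf_le_left.trans hle
    exact (Subgroup.map_le_map_iff_of_injective X.subtype_injective).1 h1)
  refine not_dvd_of_sylow_le (Q.subtype hQX) ?_ hdvd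
  intro x hx
  rw [MulAction.mem_stabilizer_iff]
  apply Subtype.ext
  exact hfix (x : L) hx

theorem exists_eq_of_orderOf {Ω : Type*} [Finite Ω] {p : ℕ} [Fact p.Prime] {L : Type*} [Group L] [Finite L] [MulAction L Ω]
    (Q : Sylow p L) (h : ∀ g ∈ Q, orderOf (MulAction.toPermHom L Ω g) ≠ p) : ∀ g ∈ Q, ∀ i : Ω, g • i = i := by
  intro g hg i
  have h0 : MulAction.toPermHom L Ω g = 1 := by
    by_contra hne
    obtain ⟨k, hk⟩ := Q.isPGroup' ⟨g, hg⟩
    have hk' : g ^ p ^ k = 1 := congrArg Subtype.val hk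
    have h1 : orderOf (MulAction.toPermHom L Ω g) ∣ p ^ k := orderOf_dvd_of_pow_eq_one (by
      rw [← map_pow, hk', map_one])
    obtain ⟨m, _, hm⟩ := (Nat.dvd_prime_pow Fact.out).1 h1
    have hm0 : m ≠ 0 := by
      rintro rfl
      rw [pow_zero, orderOf_eq_one_iff] at hm
      exact hne hm
    obtain ⟨m', rfl⟩ := Nat.exists_eq_succ_of_ne_zero hm0
    apply h (g ^ p ^ m') (pow_mem hg _)
    rw [map_pow, orderOf_pow_of_dvd (pow_ne_zero _ (Fact.out : p.Prime).ne_zero), hm, pow_succ, Nat.mul_div_cancel_left]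
    · exact pow_pos (Fact.out : p.Prime).pos _
    · rw [hm]; exact pow_dvd_pow p (Nat.le_succ m')
  have h1 := congrArg (fun σ : Equiv.Perm Ω => σ i) h0
  exact h1

theorem imprim_step (hY : SetLemma.{u}) {L U : Type u} [Group L] [Finite L] [Group.IsSolvable L] [AddCommGroup U]
    [Finite U] [Nontrivial U] [DistribMulAction L U] (M H : Subgroup L) (r n : ℕ) (hS : Split M H) (hr : r.Prime)
    (hrU : ∀ u : U, r • u = 0) (hrH : ¬ r ∣ Nat.card H) (hirr : Irr L U)
    (hM : ∀ q : ℕ, q.Prime → q ∣ Nat.card M → q ∣ n) (hrn : r ∣ n) (IH : LinearStmt.{u} (Nat.card U))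
    (hI : Imprim L U) : Concl M H U n := by
  classical
  obtain ⟨X, hXc, hX⟩ := exists_coatom_sys hirr hI
  let _ : Fintype (L ⧸ X) := Fintype.ofFinite _
  obtain ⟨S⟩ := hX inferInstance
  have hMn := hS.normal
  obtain ⟨u₁, hu₁, hne, hkey⟩ := key M H r n hS hr hrU hrH hirr hM hrn IH X hXc.1 S
  by_cases hMX : M ≤ X
  · refine ⟨u₁, hne, ?_⟩
    intro p hp hpH hgood P hnil
    have : Fact p.Prime := ⟨hp⟩
    by_contra hdvd
    obtain ⟨Q, hQ⟩ := exists_sylow_le hdvd
    apply hnil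
    obtain ⟨g, hg⟩ := MulAction.exists_smul_eq L P Q
    rw [← comm_smul hS P g, hg]
    apply hkey p hp hpH hgood Q
    · intro x hx
      exact S.mem_of_fix hu₁ hne (hQ hx)
    · intro x hx
      exact hQ hx
    · rw [inf_of_le_left hMX]
  · -- `M X = L`
    have hsup : X ⊔ M = ⊤ := by
      have h1 : X < X ⊔ M := lt_of_le_of_ne le_sup_left fun h => hMX (h ▸ le_sup_right)
      exact hXc.2 _ h1
    have hcard : X.index ∣ Nat.card M := by
      have h1 : M.relIndex X = M.index := by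
        rw [← Subgroup.relIndex_sup_right, hsup, Subgroup.relIndex_top_right]
      have h2 : Nat.card (M.subgroupOf X) * M.relIndex X = Nat.card X := (M.subgroupOf X).card_mul_index
      have h3 := X.card_mul_index
      have h4 := M.card_mul_index
      rw [← h4, ← h2, h1] at h3
      have h5 : 0 < M.index := Nat.pos_of_ne_zero Subgroup.index_ne_zero_of_finite
      refine ⟨Nat.card (M.subgroupOf X), ?_⟩
      apply Nat.eq_of_mul_eq_mul_right h5
      rw [← h3]
      ring
    have hntX : Nontrivial (L ⧸ X) := by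
      have h1 : ∃ g : L, g ∉ X := by
        by_contra! h
        exact hXc.1 (eq_top_iff.2 fun g _ => h g)
      obtain ⟨g, hg⟩ := h1
      refine ⟨⟨((g : L) : L ⧸ X), ((1 : L) : L ⧸ X), fun h4 => ?_⟩⟩
      rw [QuotientGroup.eq] at h4
      exact hg (by simpa using h4)
    have hprim : MulAction.IsPreprimitive L (L ⧸ X) := by
      rw [← MulAction.isCoatom_stabilizer_iff_preprimitive L ((1 : L) : L ⧸ X), MulAction.stabilizer_quotient]
      exact hXc
    let G := (MulAction.toPermHom L (L ⧸ X)).range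
    have hprimG : MulAction.IsPreprimitive G (L ⧸ X) := by
      let f : (L ⧸ X) →ₑ[(MulAction.toPermHom L (L ⧸ X)).rangeRestrict] (L ⧸ X) := {
        toFun := id
        map_smul' := fun g i => rfl }
      exact MulAction.IsPreprimitive.of_surjective (f := f) Function.surjective_id
    have hsol : Group.IsSolvable G := Group.isSolvable_of_surjective (MulAction.toPermHom L (L ⧸ X)).rangeRestrict_surjective
    obtain ⟨Γ, hΓ, hΓ2⟩ := hY G (L ⧸ X) hprimG {p | p.Prime ∧ p ∣ Nat.card H ∧ Good p n} (by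
      rintro p ⟨hp, hpH, hg⟩
      refine ⟨hp, hg.1, fun h => ?_⟩
      exact hp.one_lt.ne' (Nat.dvd_one.1 (hS.cop ▸ Nat.dvd_gcd (h.trans hcard) hpH))) (by
      rintro ⟨_, _, hg⟩
      exact ⟨fun h => (hg.2.1 rfl).1 (hM 2 Nat.prime_two (h.trans hcard)),
        fun h => (hg.2.1 rfl).2 (hM 3 Nat.prime_three (h.trans hcard))⟩)
    let u : U := ∑ i with i ∈ Γ, i.out • u₁
    have hπ : ∀ i j : L ⧸ X, S.π j (i.out • u₁) = if j = i then i.out • u₁ else 0 := by
      intro i j
      have h1 : i.out • u₁ = S.π i (i.out • u₁) := by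
        conv_lhs => rw [← (S.mem_V_iff u₁).1 hu₁, S.eqv]
        congr 2
        show ((i.out * 1 : L) : L ⧸ X) = i
        rw [mul_one]
        exact QuotientGroup.out_eq' i
      split_ifs with h
      · rw [h, ← h1]
      · rw [h1, S.orth _ _ _ h]
    have hu : ∀ j, S.π j u = if j ∈ Γ then j.out • u₁ else 0 := by
      intro j
      show S.π j (∑ i with i ∈ Γ, i.out • u₁) = _
      rw [map_sum]
      simp only [hπ]
      rw [Finset.sum_ite_eq]
      simp
    have hmem : ∀ j, j ∈ Γ ↔ S.π j u ≠ 0 := by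
      intro j
      rw [hu]
      by_cases hj : j ∈ Γ
      · rw [if_pos hj]
        simp only [hj, true_iff]
        intro h
        apply hne
        rwa [smul_eq_zero_iff_eq] at h
      · rw [if_neg hj]
        simp [hj]
    refine ⟨u, ?_, ?_⟩
    · intro h
      obtain ⟨j, hj⟩ := hΓ
      apply (hmem j).1 hj
      rw [h, map_zero]
    · intro p hp hpH hgood P hnil
      have : Fact p.Prime := ⟨hp⟩
      by_contra hdvd
      obtain ⟨Q, hQ⟩ := exists_sylow_le hdvd
      have hQu : ∀ g ∈ Q, g • u = u := fun g hg => hQ hg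
      have hQπ : ∀ g ∈ Q, ∀ i, g • S.π i u = S.π (g • i) u := by
        intro g hg i
        rw [S.eqv, hQu g hg]
      have hQΓ : ∀ g ∈ Q, ∀ i, i ∈ Γ ↔ g • i ∈ Γ := by
        intro g hg i
        rw [hmem, hmem, ← hQπ g hg]
        rw [not_iff_not, smul_eq_zero_iff_eq]
      have htriv : ∀ g ∈ Q, ∀ i : L ⧸ X, g • i = i := by
        apply exists_eq_of_orderOf
        intro g hg hord
        apply hΓ2 ((MulAction.toPermHom L (L ⧸ X)).rangeRestrict g) p ⟨hp, hpH, hgood⟩
        · rw [← hord]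
          exact Subgroup.orderOf_mk _ _
        · ext i
          rw [Set.mem_smul_set_iff_inv_smul_mem]
          have h1 : ((MulAction.toPermHom L (L ⧸ X)).rangeRestrict g)⁻¹ • i = g⁻¹ • i := by
            rw [← map_inv]
            rfl
          rw [h1]
          have h2 := hQΓ g hg (g⁻¹ • i)
          rwa [smul_inv_smul] at h2
      obtain ⟨i, hi⟩ := hΓ
      apply hnil
      obtain ⟨g, hg⟩ := MulAction.exists_smul_eq L P ((i.out)⁻¹ • Q)
      rw [← comm_smul hS P g, hg]
      have hconj : ∀ x ∈ (i.out)⁻¹ • Q, i.out * x * (i.out)⁻¹ ∈ Q := by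
        intro x hx
        have h1 : x ∈ (((i.out)⁻¹ • Q : Sylow p L) : Subgroup L) := hx
        rw [Sylow.coe_subgroup_smul, Subgroup.mem_pointwise_smul_iff_inv_smul_mem] at h1
        have h2 : i.out * x * (i.out)⁻¹ ∈ (Q : Subgroup L) := by
          simpa only [MulAut.smul_def, mul_assoc, _root_.map_inv, _root_.inv_inv, _root_.MulAut.conj_apply] using h1
        exact h2
      have hcore : (((i.out)⁻¹ • Q : Sylow p L) : Subgroup L) ≤ X.normalCore := by
        intro x hx b
        have h1 := htriv _ (hconj x hx) (i.out • (b⁻¹ : L) • ((1 : L) : L ⧸ X))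
        rw [mul_smul, mul_smul, inv_smul_smul] at h1
        have h2 := smul_left_cancel _ h1
        apply Sys.mem_of_smul_one
        rw [mul_smul, mul_smul, h2, smul_inv_smul]
      apply hkey p hp hpH hgood ((i.out)⁻¹ • Q)
      · exact hcore.trans X.normalCore_le
      · intro x hx
        have h1 := hQπ _ (hconj x hx) i
        rw [htriv _ (hconj x hx) i, hu, if_pos hi, mul_smul, mul_smul, inv_smul_smul] at h1
        exact smul_left_cancel _ h1
      · have hpM : ¬ p ∣ Nat.card M := fun h => hp.one_lt.ne' (Nat.dvd_one.1 (hS.cop ▸ Nat.dvd_gcd h hpH))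
        have h1 := Lib.CoprimeCommutator.commutator_commutator_eq (((i.out)⁻¹ • Q : Sylow p L) : Subgroup L) M
          (by rw [Subgroup.normalizer_eq_top]; exact le_top) (by
            obtain ⟨k, hk⟩ := (((i.out)⁻¹ • Q : Sylow p L)).isPGroup'.exists_card_eq
            rw [hk]
            exact Nat.Coprime.pow_left _ ((Nat.Prime.coprime_iff_not_dvd hp).2 hpM))
        conv_lhs => rw [← h1]
        refine Subgroup.commutator_mono (le_inf ?_ ?_) le_rfl
        · exact Subgroup.commutator_le_left _ _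
        · exact ((Subgroup.commutator_mono le_rfl hcore).trans (Subgroup.commutator_le_right _ _)).trans X.normalCore_le

end Cfsg.Agent.H158.Cls7
end

-- part: H463/Cls/Basic
section
/-!
# Basic facts on `Split` groups for T8b of S4148
-/

set_option autoImplicit false

namespace Cfsg.Agent.H463.Cls

open scoped Pointwise commutatorElement
open Cfsg.Agent.H822.Cls Subgroup

universe u

variable {L : Type u} [Group L]

theorem card_eq [Finite L] {R H : Subgroup L} (hS : Split R H) : Nat.card L = Nat.card R * Nat.card H := by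
  have hR := hS.normal
  have h1 : R.index ∣ Nat.card H := by
    have h2 : R.index = R.relIndex H := by
      rw [← relIndex_top_right, ← hS.compl, sup_comm, relIndex_sup_right]
    rw [h2]
    exact R.relIndex_dvd_card H
  have h3 := R.card_mul_index
  refine Nat.dvd_antisymm ?_ ?_
  · rw [← h3]
    exact Nat.mul_dvd_mul_left _ h1
  · exact Nat.Coprime.mul_dvd_of_dvd_of_dvd hS.cop (Subgroup.card_subgroup_dvd_card R)
      (Subgroup.card_subgroup_dvd_card H)

theorem index_right [Finite L] {R H : Subgroup L} (hS : Split R H) : H.index = Nat.card R := by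
  have h1 := card_eq hS
  have h2 := H.card_mul_index
  rw [h1, mul_comm] at h2
  exact Nat.eq_of_mul_eq_mul_right Nat.card_pos h2

theorem not_dvd_left [Finite L] {R H : Subgroup L} (hS : Split R H) {p : ℕ} (hp : p.Prime) (hpH : p ∣ Nat.card H) :
    ¬ p ∣ Nat.card R := fun h => hp.one_lt.ne' (Nat.dvd_one.1 (hS.cop ▸ Nat.dvd_gcd h hpH))

theorem exists_sylow_le [Finite L] {R H : Subgroup L} (hS : Split R H) {p : ℕ} [hp : Fact p.Prime]
    (hpH : p ∣ Nat.card H) : ∃ P₀ : Sylow p L, (P₀ : Subgroup L) ≤ H := by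
  let Q : Sylow p H := default
  have h1 : IsPGroup p ((Q : Subgroup H).map H.subtype) := Q.isPGroup'.map _
  have h2 : ¬ p ∣ ((Q : Subgroup H).map H.subtype).index := by
    rw [index_map_subtype, index_right hS, hp.out.dvd_mul]
    exact fun h => h.elim Q.not_dvd_index (not_dvd_left hS hp.out hpH)
  refine ⟨h1.toSylow h2, ?_⟩
  rintro _ ⟨x, -, rfl⟩
  exact x.2

theorem exists_mul {R H : Subgroup L} (hS : Split R H) (g : L) : ∃ r ∈ R, ∃ h ∈ H, g = r * h := by
  have hR := hS.normal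
  have h1 : g ∈ R ⊔ H := hS.compl ▸ mem_top g
  rw [mem_sup_of_normal_left] at h1
  obtain ⟨r, hr, h, hh, e⟩ := h1
  exact ⟨r, hr, h, hh, e.symm⟩

/-- all Sylow `p`-subgroups are conjugate under `R` -/
theorem exists_conj [Finite L] {R H : Subgroup L} (hS : Split R H) {p : ℕ} [hp : Fact p.Prime] {P₀ : Sylow p L}
    (hP₀ : (P₀ : Subgroup L) ≤ H) (P : Sylow p L) : ∃ r ∈ R, (P : Subgroup L) = (P₀ : Subgroup L).map
      (MulAut.conj r).toMonoidHom := by
  obtain ⟨g, hg⟩ := MulAction.exists_smul_eq L P₀ P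
  obtain ⟨r, hr, h, hh, rfl⟩ := exists_mul hS g
  refine ⟨r, hr, ?_⟩
  rw [← hg]
  ext x
  constructor
  · intro hx
    have h3 := (Subgroup.mem_pointwise_smul_iff_inv_smul_mem).1
      (show x ∈ MulAut.conj (r * h) • (P₀ : Subgroup L) from hx)
    have h4 : (r * h)⁻¹ * x * (r * h) ∈ (P₀ : Subgroup L) := by
      simpa [MulAut.smul_def, MulAut.conj_inv_apply, mul_assoc] using h3
    have h5 : h * ((r * h)⁻¹ * x * (r * h)) = ((r * h)⁻¹ * x * (r * h)) * h := hS.comm _ hh _ (hP₀ h4)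
    refine ⟨_, h4, ?_⟩
    show r * ((r * h)⁻¹ * x * (r * h)) * r⁻¹ = x
    have h6 : (r * h)⁻¹ * x * (r * h) = h * ((r * h)⁻¹ * x * (r * h)) * h⁻¹ := by
      rw [h5]; group
    rw [h6]
    group
  · rintro ⟨y, hy, rfl⟩
    show _ ∈ MulAut.conj (r * h) • (P₀ : Subgroup L)
    rw [Subgroup.mem_pointwise_smul_iff_inv_smul_mem]
    have h5 : h * y = y * h := hS.comm _ hh _ (hP₀ hy)
    have h6 : (MulAut.conj (r * h))⁻¹ • ((MulAut.conj r).toMonoidHom y) = y := by
      show (MulAut.conj (r * h))⁻¹ (r * y * r⁻¹) = y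
      rw [MulAut.conj_inv_apply]
      have : (r * h)⁻¹ * (r * y * r⁻¹) * (r * h) = h⁻¹ * (y * h) := by group
      rw [this, ← h5]
      group
    rw [h6]
    exact hy

theorem mem_normalizer_of_le {A : Subgroup L} {g : L} (h : A.map (MulAut.conj g).toMonoidHom = A) :
    g ∈ normalizer (A : Set L) := by
  rw [mem_normalizer_iff]
  intro x
  constructor
  · intro hx
    rw [← h]
    exact ⟨x, hx, rfl⟩
  · intro hx
    rw [← h] at hx
    obtain ⟨y, hy, hyx⟩ := hx
    have h1 : y = x := (MulAut.conj g).injective hyx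
    rwa [← h1]

theorem map_conj_eq {A : Subgroup L} {g : L} (h : g ∈ normalizer (A : Set L)) :
    A.map (MulAut.conj g).toMonoidHom = A := by
  ext x
  constructor
  · rintro ⟨y, hy, rfl⟩
    exact (mem_normalizer_iff.1 h y).1 hy
  · intro hx
    have h1 := (mem_normalizer_iff.1 (inv_mem h) x).1 hx
    refine ⟨_, h1, ?_⟩
    show g * (g⁻¹ * x * g⁻¹⁻¹) * g⁻¹ = x
    group

theorem comm_eq [Finite L] {R H : Subgroup L} (hS : Split R H) {p : ℕ} [hp : Fact p.Prime] {P₀ : Sylow p L}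
    (hP₀ : (P₀ : Subgroup L) ≤ H) (P : Sylow p L) : ⁅R, (P : Subgroup L)⁆ = ⁅R, (P₀ : Subgroup L)⁆ := by
  obtain ⟨r, hr, h1⟩ := exists_conj hS hP₀ P
  have h2 : R.map (MulAut.conj r).toMonoidHom = R := map_conj_eq (le_normalizer hr)
  have h3 := map_conj_eq (Lib.CoprimeCommutator.left_le_normalizer_commutator R (P₀ : Subgroup L) hr)
  rw [map_commutator, h2, ← h1] at h3
  exact h3

theorem comm_normal [Finite L] {R H : Subgroup L} (hS : Split R H) {p : ℕ} [hp : Fact p.Prime] {P₀ : Sylow p L}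
    (hP₀ : (P₀ : Subgroup L) ≤ H) : (⁅R, (P₀ : Subgroup L)⁆).Normal := by
  have hR := hS.normal
  rw [← normalizer_eq_top_iff, ← top_le_iff, ← hS.compl]
  refine sup_le (Lib.CoprimeCommutator.left_le_normalizer_commutator R _) fun h hh => ?_
  refine mem_normalizer_of_le ?_
  rw [map_commutator]
  have h1 : R.map (MulAut.conj h).toMonoidHom = R := map_conj_eq (by rw [normalizer_eq_top R]; exact mem_top h)
  have h2 : (P₀ : Subgroup L).map (MulAut.conj h).toMonoidHom = P₀ := by
    refine map_conj_eq ?_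
    rw [mem_normalizer_iff]
    intro y
    constructor
    · intro hy
      rwa [hS.comm _ hh _ (hP₀ hy), mul_inv_cancel_right]
    · intro hy
      have h3 := hS.comm _ (H.inv_mem hh) _ (hP₀ hy)
      have h4 : y = h * y * h⁻¹ := by
        have h5 : h⁻¹ * (h * y * h⁻¹) * h = y := by group
        rw [h3, inv_mul_cancel_right] at h5
        exact h5.symm
      rwa [h4]
  rw [h1, h2]

theorem comm_le [Finite L] {R H : Subgroup L} (hS : Split R H) (P : Subgroup L) : ⁅R, P⁆ ≤ R := by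
  have hR := hS.normal
  exact commutator_le_left R P

/-! ### Quotients -/

theorem Moved.of_map {Q : Type*} [Group Q] [Finite L] (f : L →* Q) (hf : Function.Surjective f) {p : ℕ} {x : L}
    (h : Moved p (f x)) : Moved p x := by
  refine h.trans (dvd_trans ?_ (index_map_dvd (centralizer ({x} : Set L)) hf))
  refine index_dvd_of_le ?_
  rintro _ ⟨y, hy, rfl⟩
  rw [mem_centralizer_singleton_iff]
  rw [SetLike.mem_coe, mem_centralizer_singleton_iff] at hy
  rw [← map_mul, ← map_mul, hy]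

theorem Split.map {Q : Type*} [Group Q] [Finite L] {R H : Subgroup L} (hS : Split R H) (f : L →* Q)
    (hf : Function.Surjective f) : Split (R.map f) (H.map f) where
  normal := hS.normal.map f hf
  comm := by
    rintro _ ⟨a, ha, rfl⟩ _ ⟨b, hb, rfl⟩
    rw [← map_mul, ← map_mul, hS.comm a ha b hb]
  cop := by
    have h1 : Nat.card (R.map f) ∣ Nat.card R := card_map_dvd R f
    have h2 : Nat.card (H.map f) ∣ Nat.card H := card_map_dvd H f
    exact Nat.Coprime.coprime_dvd_left h1 (Nat.Coprime.coprime_dvd_right h2 hS.cop)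
  compl := by
    rw [← Subgroup.map_sup, hS.compl, ← MonoidHom.range_eq_map, MonoidHom.range_eq_top.2 hf]

theorem dvd_map [Finite L] {R H : Subgroup L} (hS : Split R H) (N : Subgroup L) [N.Normal] (hN : N ≤ R) {p : ℕ}
    (hp : p.Prime) (hpH : p ∣ Nat.card H) : p ∣ Nat.card (H.map (QuotientGroup.mk' N)) := by
  have h1 : p ∣ Nat.card L := hpH.trans (card_subgroup_dvd_card H)
  rw [← N.card_mul_index, hp.dvd_mul] at h1
  have h2 : ¬ p ∣ Nat.card N := fun h => not_dvd_left hS hp hpH (h.trans (card_dvd_of_le hN))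
  have h3 := h1.resolve_left h2
  rw [index_eq_card, card_eq (Split.map hS (QuotientGroup.mk' N) (QuotientGroup.mk'_surjective N)), hp.dvd_mul] at h3
  exact h3.resolve_left fun h => not_dvd_left hS hp hpH (h.trans (card_map_dvd R _))

end Cfsg.Agent.H463.Cls
end

-- part: H463/Cls/Decomp
section
/-!
# T8a of S4148 : the largest nilpotent normal subgroup inside `R` when `Φ(L) ∩ R = 1`
-/

set_option autoImplicit false

namespace Cfsg.Agent.H463.Cls

open scoped Pointwise commutatorElement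
open Cfsg.Agent.H822.Cls Subgroup
open Cfsg.Agent.SolvableStructure.FrattiniTrivial Cfsg.Agent.SolvableStructure.AbelianSocle

universe u

variable {L : Type u} [Group L]

theorem sSup_comm {𝒩 : Set (Subgroup L)} (h : ∀ A ∈ 𝒩, ∀ B ∈ 𝒩, A ≤ centralizer (B : Set L)) :
    sSup 𝒩 ≤ centralizer ((sSup 𝒩 : Subgroup L) : Set L) := by
  refine sSup_le fun A hA => ?_
  rw [le_centralizer_iff]
  exact sSup_le fun B hB => h B hB A hA

theorem comm_iff_le_centralizer {A : Subgroup L} : IsMulCommutative A ↔ A ≤ centralizer (A : Set L) := by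
  constructor
  · intro h a ha
    rw [mem_centralizer_iff]
    intro b hb
    exact setLike_mul_comm hb ha
  · intro h
    exact IsMulCommutative.of_setLike_mul_comm fun a ha b hb => (mem_centralizer_iff.1 (h hb) a ha)

/-- a subgroup whose commutator subgroup is centralised by it is nilpotent -/
theorem isNilpotent_of_commutator_le {K : Subgroup L} (h : ⁅K, K⁆ ≤ centralizer (K : Set L)) :
    Group.IsNilpotent K := by
  rw [isNilpotent_iff_lowerCentralSeries]
  refine ⟨2, ?_⟩
  show ⁅⁅K, K⁆, K⁆ = ⊥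
  rw [commutator_eq_bot_iff_le_centralizer]
  exact h

theorem exists_decomp [Finite L] [Group.IsSolvable L] (R : Subgroup L) (hR : R.Normal)
    (h : frattini L ⊓ R = ⊥) : ∃ 𝒩 : Set (Subgroup L), (∀ N ∈ 𝒩, N.Normal ∧ N ≤ R ∧ N ≠ ⊥ ∧ IsMulCommutative N ∧
      ∀ N' : Subgroup L, N'.Normal → N' ≤ N → N' = ⊥ ∨ N' = N) ∧ sSupIndep 𝒩 ∧ IsMulCommutative (sSup 𝒩 : Subgroup L) ∧
      R ⊓ Subgroup.centralizer ((sSup 𝒩 : Subgroup L) : Set L) ≤ sSup 𝒩 ∧
      ∀ N : Subgroup L, N.Normal → N ≤ R → Group.IsNilpotent N → N ≤ sSup 𝒩 := by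
  classical
  let 𝒜 : Set (Subgroup L) := {N | N.Normal ∧ N ≤ R ∧ N ≠ ⊥ ∧ IsMulCommutative N ∧
      ∀ N' : Subgroup L, N'.Normal → N' ≤ N → N' = ⊥ ∨ N' = N}
  obtain ⟨𝒩, h𝒩⟩ := (Set.toFinite {S : Set (Subgroup L) | S ⊆ 𝒜 ∧ sSupIndep S}).exists_maximal
    ⟨∅, Set.empty_subset _, sSupIndep_empty⟩
  have hsub : 𝒩 ⊆ 𝒜 := h𝒩.1.1
  have hind : sSupIndep 𝒩 := h𝒩.1.2
  have hnorm : ∀ S : Set (Subgroup L), S ⊆ 𝒜 → (sSup S).Normal := fun S hS =>
    Subgroup.sSup_normal _ fun N hN => (hS hN).1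
  have hFn : (sSup 𝒩).Normal := hnorm 𝒩 hsub
  have hFR : sSup 𝒩 ≤ R := sSup_le fun N hN => (hsub hN).2.1
  have hFc : sSup 𝒩 ≤ centralizer ((sSup 𝒩 : Subgroup L) : Set L) := by
    refine sSup_comm fun A hA B hB => ?_
    by_cases hAB : A = B
    · subst hAB
      exact comm_iff_le_centralizer.1 (hsub hA).2.2.2.1
    · have hAn := (hsub hA).1
      have hBn := (hsub hB).1
      have hd : Disjoint A B := hind.pairwiseDisjoint hA hB hAB
      intro a ha
      rw [mem_centralizer_iff]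
      intro b hb
      exact (Subgroup.commute_of_normal_of_disjoint A B hAn hBn hd a b ha hb).eq.symm
  -- nilpotent normal subgroups
  have hnil : ∀ N : Subgroup L, N.Normal → N ≤ R → Group.IsNilpotent N → N ≤ sSup 𝒩 := by
    intro N hN hNR hNn
    have hNc : IsMulCommutative N := by
      have h1 : ⁅N, N⁆ = ⊥ := by
        rw [eq_bot_iff, ← h]
        exact le_inf (commutator_le_frattini N) ((commutator_le_left N N).trans hNR)
      rw [commutator_eq_bot_iff_le_centralizer] at h1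
      exact comm_iff_le_centralizer.2 h1
    have hAn : (sSup 𝒩 ⊓ N).Normal := inferInstance
    have hAc : IsMulCommutative (sSup 𝒩 ⊓ N : Subgroup L) :=
      IsMulCommutative.of_setLike_mul_comm fun a ha b hb => setLike_mul_comm ha.2 hb.2
    obtain ⟨H, hH⟩ := exists_isComplement' (sSup 𝒩 ⊓ N) (fun K _ hK hK1 => by
      by_contra hcon
      push Not at hcon
      apply hK1
      rw [eq_bot_iff, ← h]
      refine le_inf ?_ (hK.trans (inf_le_right.trans hNR))
      rw [frattini, Order.radical]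
      exact le_iInf₂ fun M hM => hcon M hM)
    have hAH := hH.sup_eq_top
    have hNH : N ⊔ H = ⊤ := by
      rw [eq_top_iff, ← hAH]
      exact sup_le_sup_right inf_le_right H
    have hn : (N ⊓ H).Normal := inf_normal_of_sup_eq_top hNH
    have hdis : (sSup 𝒩 ⊓ N) ⊓ H = ⊥ := hH.disjoint.eq_bot
    have hbot : N ⊓ H = ⊥ := by
      by_contra hne
      obtain ⟨K, hKn, hK1, hKN, hKm⟩ := exists_minimal_normal_le hn hne
      have hKA : K ∈ 𝒜 := by
        refine ⟨hKn, (hKN.trans inf_le_left).trans hNR, hK1, ?_, hKm⟩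
        exact IsMulCommutative.of_setLike_mul_comm fun a ha b hb =>
          setLike_mul_comm (hKN ha).1 (hKN hb).1
      have hKF : K ⊓ sSup 𝒩 = ⊥ := by
        rcases hKm (K ⊓ sSup 𝒩) inferInstance inf_le_left with h1 | h1
        · exact h1
        · exfalso
          apply hK1
          rw [eq_bot_iff, ← hdis]
          have h2 : K ≤ sSup 𝒩 := inf_eq_left.1 h1
          exact le_inf (le_inf h2 (hKN.trans inf_le_left)) (hKN.trans inf_le_right)
      have hKnot : K ∉ 𝒩 := fun hK => hK1 (by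
        rw [eq_bot_iff, ← hKF]
        exact le_inf le_rfl (le_sSup hK))
      have hins : sSupIndep (insert K 𝒩) := by
        intro A hA
        rcases Set.mem_insert_iff.1 hA with rfl | hA
        · rw [Set.insert_sdiff_of_mem _ (Set.mem_singleton A), disjoint_iff, eq_bot_iff, ← hKF]
          exact inf_le_inf_left _ (sSup_le_sSup Set.sdiff_subset)
        · have hAK : A ≠ K := fun h1 => hKnot (h1 ▸ hA)
          have h1 : insert K 𝒩 \ {A} = insert K (𝒩 \ {A}) :=
            Set.insert_sdiff_of_notMem _ (by simpa using Ne.symm hAK)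
          rw [h1, sSup_insert, disjoint_def]
          intro x hxA hx
          rw [mem_sup_of_normal_left] at hx
          obtain ⟨k, hk, s, hs, rfl⟩ := hx
          have hsF : s ∈ sSup 𝒩 := sSup_le_sSup (Set.sdiff_subset : 𝒩 \ {A} ⊆ 𝒩) hs
          have hxF : k * s ∈ sSup 𝒩 := le_sSup hA hxA
          have hkF : k ∈ sSup 𝒩 := by
            have := mul_mem hxF (inv_mem hsF)
            rwa [mul_inv_cancel_right] at this
          have hk1 : k = 1 := by
            have : k ∈ K ⊓ sSup 𝒩 := mem_inf.2 ⟨hk, hkF⟩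
            rwa [hKF, mem_bot] at this
          subst hk1
          rw [one_mul] at hxA ⊢
          exact disjoint_def.1 (hind hA) hxA hs
      have hle := h𝒩.2 ⟨Set.insert_subset hKA hsub, hins⟩ (Set.subset_insert K 𝒩)
      exact hKnot (hle (Set.mem_insert K 𝒩))
    intro x hx
    have h1 : x ∈ sSup 𝒩 ⊓ N ⊔ H := hAH ▸ mem_top x
    rw [mem_sup_of_normal_left] at h1
    obtain ⟨a, ha, b, hb, rfl⟩ := h1
    have hbN : b ∈ N := by
      have := N.mul_mem (N.inv_mem (mem_inf.1 ha).2) hx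
      rwa [inv_mul_cancel_left] at this
    have hb1 : b ∈ N ⊓ H := mem_inf.2 ⟨hbN, hb⟩
    rw [hbot, mem_bot] at hb1
    rw [hb1, mul_one]
    exact ha.1
  refine ⟨𝒩, fun N hN => hsub hN, hind, comm_iff_le_centralizer.2 hFc, ?_, hnil⟩
  -- the centraliser
  have key : ∀ n : ℕ, ∀ K : Subgroup L, Nat.card K = n → K.Normal → K ≤ R →
      K ≤ centralizer ((sSup 𝒩 : Subgroup L) : Set L) → K ≤ sSup 𝒩 := by
    intro n
    induction n using Nat.strong_induction_on with
    | _ n ih =>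
      intro K hKn hK hKR hKC
      by_cases hK1 : K = ⊥
      · rw [hK1]; exact bot_le
      have hlt : ⁅K, K⁆ < K := by
        refine lt_of_le_of_ne (commutator_le_left K K) fun h1 => ?_
        have hnt : Nontrivial K := (Subgroup.nontrivial_iff_ne_bot K).2 hK1
        have h2 := Group.IsSolvable.commutator_lt_top_of_nontrivial K
        apply h2.ne
        have h3 : (commutator K).map K.subtype = ⁅K, K⁆ := by
          rw [_root_.commutator_def, map_commutator, ← MonoidHom.range_eq_map, range_subtype]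
        apply Subgroup.map_injective K.subtype_injective
        rw [h3, h1, ← MonoidHom.range_eq_map, range_subtype]
      have hcard : Nat.card (⁅K, K⁆ : Subgroup L) < n := by
        rw [← hKn]
        exact Set.ncard_lt_ncard (by exact_mod_cast hlt) (Set.toFinite _)
      have h1 := ih _ hcard ⁅K, K⁆ rfl inferInstance (hlt.le.trans hKR) (hlt.le.trans hKC)
      refine hnil K hK hKR (isNilpotent_of_commutator_le ?_)
      refine h1.trans ?_
      rw [le_centralizer_iff]
      exact hKC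
  exact key _ _ rfl inferInstance inf_le_left inf_le_right

end Cfsg.Agent.H463.Cls
end

-- part: H463/Cls/Lin
section
/-!
# The modules of T8b of S4148
-/

set_option autoImplicit false

namespace Cfsg.Agent.H463.Cls

open scoped Pointwise commutatorElement
open Cfsg.Agent.H822.Cls Subgroup

universe u

variable {L : Type u} [Group L]

/-- a minimal normal abelian subgroup has prime exponent -/
theorem exists_prime_exp [Finite L] {N : Subgroup L} (hN : N.Normal) (hN1 : N ≠ ⊥) (hNc : IsMulCommutative N)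
    (hmin : ∀ N' : Subgroup L, N'.Normal → N' ≤ N → N' = ⊥ ∨ N' = N) :
    ∃ r : ℕ, r.Prime ∧ r ∣ Nat.card N ∧ ∀ x ∈ N, x ^ r = 1 := by
  have h1 : Nat.card N ≠ 1 := fun h => hN1 (eq_bot_of_card_eq N h)
  obtain ⟨r, hr, hd⟩ := Nat.exists_prime_and_dvd h1
  have : Fact r.Prime := ⟨hr⟩
  refine ⟨r, hr, hd, ?_⟩
  let K : Subgroup L :=
    { carrier := {x | x ∈ N ∧ x ^ r = 1}
      one_mem' := ⟨N.one_mem, one_pow r⟩
      mul_mem' := by
        rintro a b ⟨ha, ha'⟩ ⟨hb, hb'⟩
        have hc : Commute a b := setLike_mul_comm ha hb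
        exact ⟨N.mul_mem ha hb, by rw [hc.mul_pow, ha', hb', one_mul]⟩
      inv_mem' := by
        rintro a ⟨ha, ha'⟩
        exact ⟨N.inv_mem ha, by rw [inv_pow, ha', inv_one]⟩ }
  have hK : K.Normal := ⟨by
    rintro x ⟨hx, hx'⟩ g
    exact ⟨hN.conj_mem x hx g, by rw [conj_pow, hx', mul_one, mul_inv_cancel]⟩⟩
  rcases hmin K hK (fun x hx => hx.1) with h2 | h2
  · exfalso
    obtain ⟨x, hx⟩ := exists_prime_orderOf_dvd_card' (G := N) r hd
    have h3 : (x : L) ∈ K := ⟨x.2, by
      have := pow_orderOf_eq_one x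
      rw [hx] at this
      exact congrArg Subtype.val this⟩
    rw [h2, mem_bot] at h3
    have h4 : x = 1 := Subtype.ext h3
    rw [h4, orderOf_one] at hx
    exact hr.one_lt.ne hx
  · intro x hx
    rw [← h2] at hx
    exact hx.2

theorem exists_elt [Finite L] [Group.IsSolvable L] (hX : ∀ N, LinearStmt.{u} N) {R H : Subgroup L} (hS : Split R H)
    (N : Subgroup L) (hN : N.Normal) (hNR : N ≤ R) (hN1 : N ≠ ⊥) (hNc : IsMulCommutative N)
    (hmin : ∀ N' : Subgroup L, N'.Normal → N' ≤ N → N' = ⊥ ∨ N' = N) :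
    ∃ x ∈ N, x ≠ 1 ∧ ∀ p : ℕ, p.Prime → p ∣ Nat.card H → Good p (Nat.card R) → ∀ P : Sylow p L,
      (∀ n, ¬ (⁅R, (P : Subgroup L)⁆).lowerCentralSeries n ≤ centralizer (N : Set L)) → Moved p x := by
  classical
  obtain ⟨r, hr, hrN, hexp⟩ := exists_prime_exp hN hN1 hNc hmin
  letI cg : CommGroup N := { (inferInstance : Group N) with mul_comm := fun a b => hNc.is_comm.comm a b }
  letI act : DistribMulAction L (Additive N) :=
    { smul := fun g a => Additive.ofMul (MulAut.conjNormal g a.toMul)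
      one_smul := fun a => by
        show Additive.ofMul (MulAut.conjNormal (1 : L) a.toMul) = a
        rw [map_one]; rfl
      mul_smul := fun g h a => by
        show Additive.ofMul (MulAut.conjNormal (g * h) a.toMul) = _
        rw [map_mul]; rfl
      smul_zero := fun g => by
        show Additive.ofMul (MulAut.conjNormal g (1 : N)) = 0
        rw [map_one]; rfl
      smul_add := fun g a b => by
        show Additive.ofMul (MulAut.conjNormal g (a.toMul * b.toMul)) = _
        rw [map_mul]; rfl }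
  have hsm : ∀ (g : L) (a : Additive N), (((g • a).toMul : N) : L) = g * (a.toMul : N) * g⁻¹ :=
    fun g a => MulAut.conjNormal_apply g a.toMul
  have hnt : Nontrivial (Additive N) := by
    have := (Subgroup.nontrivial_iff_ne_bot N).2 hN1
    infer_instance
  have hirr : Irr L (Additive N) := by
    intro W hW
    let K : Subgroup L := (AddSubgroup.toSubgroup' W).map N.subtype
    have hKmem : ∀ x : N, (x : L) ∈ K ↔ Additive.ofMul x ∈ W := by
      intro x
      constructor
      · rintro ⟨y, hy, hyx⟩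
        have h1 : y = x := Subtype.ext hyx
        rw [← h1]
        exact hy
      · intro hx
        exact ⟨x, hx, rfl⟩
    have hKN : K ≤ N := by
      rintro _ ⟨y, -, rfl⟩
      exact y.2
    have hK : K.Normal := ⟨by
      intro x hx g
      have hxN := hKN hx
      have h1 := hW g _ ((hKmem ⟨x, hxN⟩).1 hx)
      have h2 := (hKmem (MulAut.conjNormal g ⟨x, hxN⟩)).2 h1
      rwa [MulAut.conjNormal_apply] at h2⟩
    rcases hmin K hK hKN with h1 | h1
    · left
      rw [eq_bot_iff]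
      intro w hw
      have h2 := (hKmem w.toMul).2 hw
      rw [h1, mem_bot] at h2
      have h3 : w.toMul = 1 := Subtype.ext h2
      exact h3
    · right
      rw [eq_top_iff]
      intro w _
      have h2 : ((w.toMul : N) : L) ∈ K := by
        rw [h1]
        exact (w.toMul).2
      exact (hKmem w.toMul).1 h2
  have hrR : r ∣ Nat.card R := hrN.trans (card_dvd_of_le hNR)
  have hrH : ¬ r ∣ Nat.card H := fun h => not_dvd_left hS hr h hrR
  obtain ⟨v, hv, hv'⟩ := hX (Nat.card (Additive N) + 1) L (Additive N) R H r (Nat.card R) (Nat.lt_succ_self _) hS hr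
    (by
      intro w
      have h1 : w.toMul ^ r = 1 := Subtype.ext (hexp _ (w.toMul).2)
      exact h1)
    hrH hirr (fun _ _ h => h) hrR
  refine ⟨((v.toMul : N) : L), (v.toMul).2, fun h1 => hv (by
    have h2 : v.toMul = 1 := Subtype.ext h1
    exact h2), ?_⟩
  intro p hp hpH hg P hP
  have h1 := hv' p hp hpH hg P (by
    rw [isNilpotent_iff_lowerCentralSeries]
    rintro ⟨n, hn⟩
    refine hP n fun x hx => ?_
    have h2 : DistribMulAction.toAddAut L (Additive N) x ∈
        ((⁅R, (P : Subgroup L)⁆).map (DistribMulAction.toAddAut L (Additive N))).lowerCentralSeries n := by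
      rw [← map_lowerCentralSeries]
      exact mem_map_of_mem _ hx
    rw [hn, mem_bot] at h2
    rw [mem_centralizer_iff]
    intro y hy
    have h3 : x • (Additive.ofMul (⟨y, hy⟩ : N)) = Additive.ofMul (⟨y, hy⟩ : N) := by
      have h4 := congrArg (fun f : Multiplicative (AddAut (Additive N)) => (Multiplicative.toAdd f) (Additive.ofMul (⟨y, hy⟩ : N))) h2
      exact h4
    have h5 := hsm x (Additive.ofMul (⟨y, hy⟩ : N))
    rw [h3] at h5
    have h6 : y = x * y * x⁻¹ := h5
    rw [eq_mul_inv_iff_mul_eq] at h6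
    exact h6)
  have h2 : MulAction.stabilizer L v = centralizer ({((v.toMul : N) : L)} : Set L) := by
    ext g
    rw [MulAction.mem_stabilizer_iff, mem_centralizer_singleton_iff]
    constructor
    · intro h3
      have h5 := hsm g v
      rw [h3] at h5
      rw [eq_mul_inv_iff_mul_eq] at h5
      exact h5.symm
    · intro h3
      have h5 := hsm g v
      have h6 : g * ((v.toMul : N) : L) * g⁻¹ = ((v.toMul : N) : L) := by
        rw [h3, mul_inv_cancel_right]
      rw [h6] at h5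
      exact congrArg Additive.ofMul (Subtype.ext h5 : (g • v).toMul = v.toMul)
  rw [h2] at h1
  exact h1

end Cfsg.Agent.H463.Cls
end

-- part: H463/Cls/Two
section
/-!
# T8b of S4148 : two objects
-/

set_option autoImplicit false

namespace Cfsg.Agent.H463.Cls

open scoped Pointwise commutatorElement
open Cfsg.Agent.H822.Cls Subgroup

universe u

variable {L : Type u} [Group L]

/-- a product of elements of independent normal subgroups is centralised by the common centraliser only -/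
theorem exists_prod (𝒩 : Finset (Subgroup L)) (hn : ∀ N ∈ 𝒩, N.Normal) (hind : sSupIndep (𝒩 : Set (Subgroup L)))
    (f : Subgroup L → L) (hf : ∀ N ∈ 𝒩, f N ∈ N) :
    ∃ x ∈ sSup (𝒩 : Set (Subgroup L)), ∀ N ∈ 𝒩, centralizer ({x} : Set L) ≤ centralizer ({f N} : Set L) := by
  classical
  induction 𝒩 using Finset.induction_on with
  | empty => exact ⟨1, one_mem _, by simp⟩
  | insert N 𝒩 hN ih =>
    have hsub : (𝒩 : Set (Subgroup L)) ⊆ ((insert N 𝒩 : Finset (Subgroup L)) : Set (Subgroup L)) := by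
      intro A hA
      simpa using Or.inr hA
    obtain ⟨y, hy, hy'⟩ := ih (fun A hA => hn A (Finset.mem_insert_of_mem hA)) (hind.mono hsub)
      (fun A hA => hf A (Finset.mem_insert_of_mem hA))
    have hNn := hn N (Finset.mem_insert_self N 𝒩)
    have hSn : (sSup (𝒩 : Set (Subgroup L))).Normal :=
      Subgroup.sSup_normal _ fun A hA => hn A (Finset.mem_insert_of_mem hA)
    have hfN := hf N (Finset.mem_insert_self N 𝒩)
    have hdis : Disjoint N (sSup (𝒩 : Set (Subgroup L))) := by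
      have h1 := hind (show N ∈ ((insert N 𝒩 : Finset (Subgroup L)) : Set (Subgroup L)) by simp)
      refine h1.mono_right (sSup_le_sSup ?_)
      intro A hA
      refine ⟨hsub hA, ?_⟩
      rintro rfl
      exact hN hA
    refine ⟨f N * y, ?_, ?_⟩
    · refine mul_mem (le_sSup (show N ∈ _ by simp) hfN) (sSup_le_sSup hsub hy)
    · have key : ∀ g ∈ centralizer ({f N * y} : Set L), g ∈ centralizer ({f N} : Set L) ∧
          g ∈ centralizer ({y} : Set L) := by
        intro g hg
        rw [mem_centralizer_singleton_iff] at hg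
        rw [mem_centralizer_singleton_iff, mem_centralizer_singleton_iff]
        have h1 : (f N)⁻¹ * (g * f N * g⁻¹) = y * (g * y * g⁻¹)⁻¹ := by
          have h2 : g * (f N * y) * g⁻¹ = f N * y := by rw [hg, mul_inv_cancel_right]
          have h3 : (g * f N * g⁻¹) * (g * y * g⁻¹) = f N * y := by
            rw [← h2]; group
          rw [inv_mul_eq_iff_eq_mul, ← mul_assoc, eq_mul_inv_iff_mul_eq]
          exact h3
        have h4 : (f N)⁻¹ * (g * f N * g⁻¹) ∈ N := N.mul_mem (N.inv_mem hfN) (hNn.conj_mem _ hfN g)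
        have h5 : y * (g * y * g⁻¹)⁻¹ ∈ sSup (𝒩 : Set (Subgroup L)) :=
          mul_mem hy (inv_mem (hSn.conj_mem _ hy g))
        have h6 : (f N)⁻¹ * (g * f N * g⁻¹) = 1 := disjoint_def.1 hdis h4 (h1 ▸ h5)
        have h7 : y * (g * y * g⁻¹)⁻¹ = 1 := h1 ▸ h6
        rw [inv_mul_eq_one] at h6
        rw [mul_inv_eq_one] at h7
        constructor
        · rw [eq_mul_inv_iff_mul_eq] at h6
          exact h6.symm
        · rw [eq_mul_inv_iff_mul_eq] at h7
          exact h7.symm
      intro A hA g hg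
      rcases Finset.mem_insert.1 hA with rfl | hA
      · exact (key g hg).1
      · exact hy' A hA (key g hg).2

/-- the statement O1 -/
def O1 (L : Type u) [Group L] (R H : Subgroup L) : Prop :=
  ∃ x ∈ R, ∀ p : ℕ, p.Prime → p ∣ Nat.card H → ∀ P : Sylow p L,
    (Group.IsNilpotent (⁅R, (P : Subgroup L)⁆ : Subgroup L) → ⁅R, (P : Subgroup L)⁆ ≠ ⊥ → Moved p x) ∧
    (Good p (Nat.card R) → (∀ K : Subgroup L, K.Normal → K ≤ R → Group.IsNilpotent K →
      ∀ n, ¬ (⁅R, (P : Subgroup L)⁆).lowerCentralSeries n ≤ K) → Moved p x)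

theorem O1_of_trivial [Finite L] [Group.IsSolvable L] (hX : ∀ N, LinearStmt.{u} N) {R H : Subgroup L}
    (hS : Split R H) (hΦ : frattini L ⊓ R = ⊥) : O1 L R H := by
  classical
  have hR := hS.normal
  obtain ⟨𝒩, h𝒩, hind, hFc, hcent, hnil⟩ := exists_decomp R hR hΦ
  have hfin : 𝒩.Finite := Set.toFinite _
  have hFR : sSup 𝒩 ≤ R := sSup_le fun N hN => (h𝒩 N hN).2.1
  have hFn : (sSup 𝒩).Normal := Subgroup.sSup_normal _ fun N hN => (h𝒩 N hN).1
  have hch : ∀ N : Subgroup L, ∃ x : L, N ∈ 𝒩 → (x ∈ N ∧ x ≠ 1 ∧ ∀ p : ℕ, p.Prime → p ∣ Nat.card H →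
      Good p (Nat.card R) → ∀ P : Sylow p L,
      (∀ n, ¬ (⁅R, (P : Subgroup L)⁆).lowerCentralSeries n ≤ centralizer (N : Set L)) → Moved p x) := by
    intro N
    by_cases hN : N ∈ 𝒩
    · obtain ⟨h1, h2, h3, h4, h5⟩ := h𝒩 N hN
      obtain ⟨x, hx, hx1, hx2⟩ := exists_elt hX hS N h1 h2 h3 h4 h5
      exact ⟨x, fun _ => ⟨hx, hx1, hx2⟩⟩
    · exact ⟨1, fun h => absurd h hN⟩
  choose f hf using hch
  obtain ⟨x, hx, hx'⟩ := exists_prod hfin.toFinset (fun N hN => (h𝒩 N (hfin.mem_toFinset.1 hN)).1)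
    (by rwa [hfin.coe_toFinset]) f (fun N hN => (hf N (hfin.mem_toFinset.1 hN)).1)
  rw [hfin.coe_toFinset] at hx
  have hmv : ∀ p : ℕ, ∀ N ∈ 𝒩, Moved p (f N) → Moved p x := fun p N hN h =>
    h.trans (index_dvd_of_le (hx' N (hfin.mem_toFinset.2 hN)))
  refine ⟨x, hFR hx, fun p hp hpH P => ?_⟩
  have : Fact p.Prime := ⟨hp⟩
  obtain ⟨P₀, hP₀⟩ := exists_sylow_le hS hpH
  have hXn := comm_normal hS hP₀
  have hXR := comm_le hS (P₀ : Subgroup L)
  rw [comm_eq hS hP₀ P]
  refine ⟨fun hXnil hX1 => ?_, fun hg hK => ?_⟩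
  · have hXF := hnil _ hXn hXR hXnil
    obtain ⟨N, hN, hNP⟩ : ∃ N ∈ 𝒩, ¬ N ≤ centralizer ((P₀ : Subgroup L) : Set L) := by
      by_contra hcon
      push Not at hcon
      apply hX1
      have h1 : sSup 𝒩 ≤ centralizer ((P₀ : Subgroup L) : Set L) := sSup_le hcon
      have h2 : ⁅⁅R, (P₀ : Subgroup L)⁆, (P₀ : Subgroup L)⁆ = ⊥ := by
        rw [commutator_eq_bot_iff_le_centralizer]
        exact hXF.trans h1
      rw [Lib.CoprimeCommutator.commutator_commutator_eq (P₀ : Subgroup L) R (by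
        rw [normalizer_eq_top R]; exact le_top)
        (Nat.Coprime.symm (Nat.Coprime.coprime_dvd_right (card_dvd_of_le hP₀) hS.cop))] at h2
      exact h2
    obtain ⟨hNn, hNR, hN1, hNc, hmin⟩ := h𝒩 N hN
    have hNF : N ≤ sSup 𝒩 := le_sSup hN
    have hC : (N ⊓ centralizer ((P₀ : Subgroup L) : Set L)).Normal := by
      rw [← normalizer_eq_top_iff, ← top_le_iff, ← hS.compl]
      have hstep : ∀ g : L, (∀ y ∈ (P₀ : Subgroup L), ∃ c ∈ sSup 𝒩, g⁻¹ * y * g = y * c) →
          ∀ c ∈ N ⊓ centralizer ((P₀ : Subgroup L) : Set L),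
            g * c * g⁻¹ ∈ N ⊓ centralizer ((P₀ : Subgroup L) : Set L) := by
        intro g hg c hc
        refine mem_inf.2 ⟨hNn.conj_mem c (mem_inf.1 hc).1 g, mem_centralizer_iff.2 fun y hy => ?_⟩
        obtain ⟨d, hd, hyd⟩ := hg y hy
        have h1 : y * c = c * y := mem_centralizer_iff.1 (mem_inf.1 hc).2 y hy
        have h2 : c * d = d * c := setLike_mul_comm (hNF (mem_inf.1 hc).1) hd
        have h3 : (g⁻¹ * y * g) * c = c * (g⁻¹ * y * g) := by
          rw [hyd, mul_assoc, ← h2, ← mul_assoc, h1, mul_assoc]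
        calc y * (g * c * g⁻¹) = g * ((g⁻¹ * y * g) * c) * g⁻¹ := by group
          _ = g * (c * (g⁻¹ * y * g)) * g⁻¹ := by rw [h3]
          _ = (g * c * g⁻¹) * y := by group
      have hRs : ∀ g ∈ R, ∀ y ∈ (P₀ : Subgroup L), ∃ c ∈ sSup 𝒩, g⁻¹ * y * g = y * c := by
        intro g hg y hy
        refine ⟨y⁻¹ * g⁻¹ * y * g, hXF ?_, by group⟩
        rw [commutator_comm]
        have h1 : ⁅y⁻¹, g⁻¹⁆ ∈ ⁅(P₀ : Subgroup L), R⁆ := commutator_mem_commutator (inv_mem hy) (inv_mem hg)
        rwa [commutatorElement_def, inv_inv, inv_inv] at h1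
      have hHs : ∀ g ∈ H, ∀ y ∈ (P₀ : Subgroup L), ∃ c ∈ sSup 𝒩, g⁻¹ * y * g = y * c := by
        intro g hg y hy
        refine ⟨1, one_mem _, ?_⟩
        rw [mul_assoc, ← hS.comm _ hg _ (hP₀ hy), inv_mul_cancel_left, mul_one]
      have hgen : ∀ g : L, (∀ c ∈ N ⊓ centralizer ((P₀ : Subgroup L) : Set L),
            g * c * g⁻¹ ∈ N ⊓ centralizer ((P₀ : Subgroup L) : Set L)) →
          (∀ c ∈ N ⊓ centralizer ((P₀ : Subgroup L) : Set L),
            g⁻¹ * c * g⁻¹⁻¹ ∈ N ⊓ centralizer ((P₀ : Subgroup L) : Set L)) →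
          g ∈ normalizer ((N ⊓ centralizer ((P₀ : Subgroup L) : Set L) : Subgroup L) : Set L) := by
        intro g h1 h2
        rw [mem_normalizer_iff]
        intro c
        refine ⟨h1 c, fun h3 => ?_⟩
        have h4 := h2 _ h3
        have h5 : g⁻¹ * (g * c * g⁻¹) * g⁻¹⁻¹ = c := by group
        rwa [h5] at h4
      refine sup_le (fun g hg => ?_) (fun g hg => ?_)
      · exact hgen g (hstep g (hRs g hg)) (hstep g⁻¹ (hRs g⁻¹ (R.inv_mem hg)))
      · exact hgen g (hstep g (hHs g hg)) (hstep g⁻¹ (hHs g⁻¹ (H.inv_mem hg)))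
    have hCbot : N ⊓ centralizer ((P₀ : Subgroup L) : Set L) = ⊥ := by
      rcases hmin _ hC inf_le_left with h1 | h1
      · exact h1
      · exact absurd (inf_eq_left.1 h1) hNP
    refine hmv p N hN ?_
    obtain ⟨hfN, hf1, -⟩ := hf N hN
    by_contra hnot
    -- a Sylow subgroup centralising `f N`
    let C : Subgroup L := centralizer ({f N} : Set L)
    let Q : Sylow p C := default
    have h1 : IsPGroup p ((Q : Subgroup C).map C.subtype) := Q.isPGroup'.map _
    have h2 : ¬ p ∣ ((Q : Subgroup C).map C.subtype).index := by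
      rw [index_map_subtype, hp.dvd_mul]
      exact fun h => h.elim Q.not_dvd_index hnot
    obtain ⟨r, hr, hrP⟩ := exists_conj hS hP₀ (h1.toSylow h2)
    have h3 : ∀ y ∈ (P₀ : Subgroup L), r * y * r⁻¹ ∈ C := by
      intro y hy
      have h4 : r * y * r⁻¹ ∈ (h1.toSylow h2 : Subgroup L) := by
        rw [hrP]
        exact ⟨y, hy, rfl⟩
      have h5 : r * y * r⁻¹ ∈ (Q : Subgroup C).map C.subtype := h4
      obtain ⟨z, -, hz⟩ := h5
      rw [← hz]
      exact z.2
    have h4 : r⁻¹ * f N * r ∈ N ⊓ centralizer ((P₀ : Subgroup L) : Set L) := by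
      refine mem_inf.2 ⟨?_, mem_centralizer_iff.2 fun y hy => ?_⟩
      · have := hNn.conj_mem _ hfN r⁻¹
        rwa [inv_inv] at this
      · have h5 : (r * y * r⁻¹) * f N = f N * (r * y * r⁻¹) := mem_centralizer_singleton_iff.1 (h3 y hy)
        calc y * (r⁻¹ * f N * r) = r⁻¹ * ((r * y * r⁻¹) * f N) * r := by group
          _ = r⁻¹ * (f N * (r * y * r⁻¹)) * r := by rw [h5]
          _ = (r⁻¹ * f N * r) * y := by group
    rw [hCbot, mem_bot] at h4
    apply hf1
    have h5 : f N = r * (r⁻¹ * f N * r) * r⁻¹ := by group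
    rw [h5, h4, mul_one, mul_inv_cancel]
  · -- good primes
    by_contra hnot
    have h1 : ∀ N ∈ 𝒩, ∃ n, (⁅R, (P₀ : Subgroup L)⁆).lowerCentralSeries n ≤ centralizer (N : Set L) := by
      intro N hN
      by_contra hcon
      push Not at hcon
      exact hnot (hmv p N hN ((hf N hN).2.2 p hp hpH hg P₀ hcon))
    have h2 : ∃ n, ∀ N ∈ 𝒩, (⁅R, (P₀ : Subgroup L)⁆).lowerCentralSeries n ≤ centralizer (N : Set L) := by
      choose! n hn using h1
      refine ⟨hfin.toFinset.sup n, fun N hN => ?_⟩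
      exact ((⁅R, (P₀ : Subgroup L)⁆).lowerCentralSeries_antitone
        (Finset.le_sup (hfin.mem_toFinset.2 hN))).trans (hn N hN)
    obtain ⟨n, hn⟩ := h2
    refine hK (sSup 𝒩) hFn hFR ?_ n ?_
    · exact isNilpotent_of_commutator_le (by
        have h3 := comm_iff_le_centralizer.1 hFc
        exact (commutator_le_left _ _).trans h3)
    · refine le_trans ?_ hcent
      refine le_inf ((lowerCentralSeries_le_self _ n).trans hXR) ?_
      rw [le_centralizer_iff]
      refine sSup_le fun N hN => ?_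
      rw [le_centralizer_iff]
      exact hn N hN

theorem comm_eq_bot [Finite L] {R H : Subgroup L} (hS : Split R H) {p : ℕ} [hp : Fact p.Prime]
    (hpH : p ∣ Nat.card H) (P : Sylow p L) (h : ⁅R, (P : Subgroup L)⁆ ≤ frattini L) :
    ⁅R, (P : Subgroup L)⁆ = ⊥ := by
  have hR := hS.normal
  obtain ⟨P₀, hP₀⟩ := exists_sylow_le hS hpH
  rw [comm_eq hS hP₀ P] at h ⊢
  obtain ⟨N, hN⟩ : ∃ N : Subgroup L, N = ⁅R, (P₀ : Subgroup L)⁆ := ⟨_, rfl⟩
  have hNn : N.Normal := hN ▸ comm_normal hS hP₀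
  rw [← hN] at h ⊢
  have hM : (N ⊔ (P₀ : Subgroup L)).Normal := by
    rw [← normalizer_eq_top_iff, ← top_le_iff, ← hS.compl]
    have hstep : ∀ g : L, (∀ y ∈ (P₀ : Subgroup L), g * y * g⁻¹ ∈ N ⊔ (P₀ : Subgroup L)) →
        ∀ c ∈ N ⊔ (P₀ : Subgroup L), g * c * g⁻¹ ∈ N ⊔ (P₀ : Subgroup L) := by
      intro g hg
      have h1 : N ⊔ (P₀ : Subgroup L) ≤ (N ⊔ (P₀ : Subgroup L)).comap (MulAut.conj g).toMonoidHom :=
        sup_le (fun c hc => mem_sup_left (hNn.conj_mem c hc g)) hg
      exact fun c hc => h1 hc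
    have hRs : ∀ g ∈ R, ∀ y ∈ (P₀ : Subgroup L), g * y * g⁻¹ ∈ N ⊔ (P₀ : Subgroup L) := by
      intro g hg y hy
      have h1 : g * y * g⁻¹ = (g * y * g⁻¹ * y⁻¹) * y := by group
      rw [h1]
      refine mul_mem (mem_sup_left ?_) (mem_sup_right hy)
      rw [hN]
      exact commutator_mem_commutator hg hy
    have hHs : ∀ g ∈ H, ∀ y ∈ (P₀ : Subgroup L), g * y * g⁻¹ ∈ N ⊔ (P₀ : Subgroup L) := by
      intro g hg y hy
      rw [hS.comm _ hg _ (hP₀ hy), mul_inv_cancel_right]
      exact mem_sup_right hy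
    have hgen : ∀ g : L, (∀ c ∈ N ⊔ (P₀ : Subgroup L), g * c * g⁻¹ ∈ N ⊔ (P₀ : Subgroup L)) →
        (∀ c ∈ N ⊔ (P₀ : Subgroup L), g⁻¹ * c * g⁻¹⁻¹ ∈ N ⊔ (P₀ : Subgroup L)) →
        g ∈ normalizer ((N ⊔ (P₀ : Subgroup L) : Subgroup L) : Set L) := by
      intro g h1 h2
      rw [mem_normalizer_iff]
      intro c
      refine ⟨h1 c, fun h3 => ?_⟩
      have h4 := h2 _ h3
      have h5 : g⁻¹ * (g * c * g⁻¹) * g⁻¹⁻¹ = c := by group
      rwa [h5] at h4
    refine sup_le (fun g hg => ?_) (fun g hg => ?_)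
    · exact hgen g (hstep g (hRs g hg)) (hstep g⁻¹ (hRs g⁻¹ (R.inv_mem hg)))
    · exact hgen g (hstep g (hHs g hg)) (hstep g⁻¹ (hHs g⁻¹ (H.inv_mem hg)))
  have h1 := Sylow.normalizer_sup_eq_top' P₀ (le_sup_right : (P₀ : Subgroup L) ≤ N ⊔ (P₀ : Subgroup L))
  have h2 : normalizer ((P₀ : Subgroup L) : Set L) ⊔ frattini L = ⊤ := by
    rw [← top_le_iff, ← h1]
    refine sup_le le_sup_left (sup_le (h.trans le_sup_right) (le_normalizer.trans le_sup_left))
  have h3 := frattini_nongenerating h2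
  have h4 : (P₀ : Subgroup L).Normal := normalizer_eq_top_iff.1 h3
  rw [eq_bot_iff, hN]
  have h5 : R ⊓ (P₀ : Subgroup L) = ⊥ := by
    exact (disjoint_of_coprime_natCard (Nat.Coprime.coprime_dvd_right (card_dvd_of_le hP₀) hS.cop)).eq_bot
  rw [← h5]
  exact commutator_le_inf R (P₀ : Subgroup L)

theorem isNilpotent_map {Q : Type*} [Group Q] (f : L →* Q) {X : Subgroup L} (h : Group.IsNilpotent X) :
    Group.IsNilpotent (X.map f) := by
  rw [isNilpotent_iff_lowerCentralSeries] at h ⊢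
  obtain ⟨n, hn⟩ := h
  exact ⟨n, by rw [← map_lowerCentralSeries, hn, Subgroup.map_bot]⟩

theorem O1_all (hX : ∀ N, LinearStmt.{u} N) : ∀ (n : ℕ) (L : Type u) [Group L] [Finite L] [Group.IsSolvable L]
    (R H : Subgroup L), Nat.card R = n → Split R H → O1 L R H := by
  intro n
  induction n using Nat.strong_induction_on with
  | _ n ih =>
  intro L _ _ _ R H hn hS
  by_cases hΦ : frattini L ⊓ R = ⊥
  · exact O1_of_trivial hX hS hΦ
  have hR := hS.normal
  obtain ⟨N, hNdef⟩ : ∃ N : Subgroup L, N = frattini L ⊓ R := ⟨_, rfl⟩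
  rw [← hNdef] at hΦ
  have hNn : N.Normal := hNdef ▸ inferInstance
  have hNR : N ≤ R := hNdef ▸ inf_le_right
  have hNF : N ≤ frattini L := hNdef ▸ inf_le_left
  let π := QuotientGroup.mk' N
  have hπ : Function.Surjective π := QuotientGroup.mk'_surjective N
  have hker : π.ker = N := QuotientGroup.ker_mk' N
  have hlt : Nat.card (R.map π) < n := by
    have h1 : (R.map π).index = R.index := by
      rw [index_map, hker, sup_eq_left.2 hNR, MonoidHom.range_eq_top.2 hπ, index_top, mul_one]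
    have h2 := (R.map π).card_mul_index
    have h3 := R.card_mul_index
    rw [h1, ← index_eq_card] at h2
    have h4 := N.card_mul_index
    have h5 : 1 < Nat.card N := by
      rw [Subgroup.one_lt_card_iff_ne_bot]; exact hΦ
    have h6 : 0 < N.index := Nat.pos_of_ne_zero index_ne_zero_of_finite
    rw [← hn]
    by_contra hle
    push Not at hle
    have h7 : Nat.card R * R.index ≤ Nat.card (R.map π) * R.index := Nat.mul_le_mul_right _ hle
    rw [h2, h3, ← h4] at h7
    nlinarith only [h5, h6, h7]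
  obtain ⟨xb, ⟨x, hxR, rfl⟩, hall⟩ := ih _ hlt (L ⧸ N) (R.map π) (H.map π) rfl (Split.map hS π hπ)
  refine ⟨x, hxR, fun p hp hpH P => ?_⟩
  have : Fact p.Prime := ⟨hp⟩
  obtain ⟨ha, hb⟩ := hall p hp (dvd_map hS N hNR hp hpH) (P.mapSurjective hπ)
  have hcomm : ⁅R.map π, ((P.mapSurjective hπ : Sylow p (L ⧸ N)) : Subgroup (L ⧸ N))⁆ =
      (⁅R, (P : Subgroup L)⁆).map π := by
    rw [Sylow.coe_mapSurjective, map_commutator]
  rw [hcomm] at ha hb
  constructor
  · intro hnil hne
    refine Moved.of_map π hπ (ha (isNilpotent_map π hnil) fun hbot => hne ?_)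
    rw [Subgroup.map_eq_bot_iff, hker] at hbot
    exact comm_eq_bot hS hpH P (hbot.trans hNF)
  · intro hg hK
    refine Moved.of_map π hπ (hb (hg.mono fun q _ hqd => hqd.trans (card_map_dvd R π)) ?_)
    intro K hKn hKR hKnil m hm
    have hle : K.comap π ≤ R := by
      have h1 : K.comap π ≤ (R.map π).comap π := comap_mono hKR
      rwa [comap_map_eq, hker, sup_eq_left.2 hNR] at h1
    refine hK (K.comap π) (hKn.comap π) hle ?_ m ?_
    · have hKc : (K.comap π).Normal := hKn.comap π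
      refine Lib.FrattiniBasic.isNilpotent_of_map_isNilpotent (K.comap π) N hNF ?_
      have h1 : (K.comap π).map (QuotientGroup.mk' N) = K := map_comap_eq_self_of_surjective hπ K
      rw [h1]
      exact hKnil
    · rw [← map_le_iff_le_comap, map_lowerCentralSeries]
      exact hm

/-- **T8b.** -/
theorem two_objects (hX : ∀ N, LinearStmt.{u} N) : TwoObjects.{u} := by
  intro L _ _ _ R H hS
  have hR := hS.normal
  obtain ⟨F, hF⟩ : ∃ F : Subgroup L, F = fittingSubgroup L ⊓ R := ⟨_, rfl⟩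
  have hFn : F.Normal := hF ▸ inferInstance
  have hFR : F ≤ R := hF ▸ inf_le_right
  have hFnil : Group.IsNilpotent F := (Lib.Cores.le_fittingSubgroup_iff hFn).1 (hF ▸ inf_le_left)
  have hmax : ∀ K : Subgroup L, K.Normal → K ≤ R → Group.IsNilpotent K → K ≤ F := fun K hK hKR hKn =>
    hF ▸ le_inf (Lib.Cores.le_fittingSubgroup hK hKn) hKR
  obtain ⟨x₁, hx₁, h₁⟩ := O1_all hX _ L R H rfl hS
  let π := QuotientGroup.mk' F
  have hπ : Function.Surjective π := QuotientGroup.mk'_surjective F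
  have hker : π.ker = F := QuotientGroup.ker_mk' F
  obtain ⟨_, ⟨x₂, hx₂, rfl⟩, h₂⟩ := O1_all hX _ (L ⧸ F) (R.map π) (H.map π) rfl (Split.map hS π hπ)
  refine ⟨x₁, hx₁, x₂, hx₂, fun p hp hpH hg P hne => ?_⟩
  have : Fact p.Prime := ⟨hp⟩
  obtain ⟨ha, hb⟩ := h₁ p hp hpH P
  by_cases hnil : Group.IsNilpotent (⁅R, (P : Subgroup L)⁆ : Subgroup L)
  · exact Or.inl (ha hnil hne)
  by_cases hK : ∀ K : Subgroup L, K.Normal → K ≤ R → Group.IsNilpotent K →
      ∀ n, ¬ (⁅R, (P : Subgroup L)⁆).lowerCentralSeries n ≤ K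
  · exact Or.inl (hb hg hK)
  right
  push Not at hK
  obtain ⟨K, hKn, hKR, hKnil, n, hn⟩ := hK
  have hcomm : ⁅R.map π, ((P.mapSurjective hπ : Sylow p (L ⧸ F)) : Subgroup (L ⧸ F))⁆ =
      (⁅R, (P : Subgroup L)⁆).map π := by
    rw [Sylow.coe_mapSurjective, map_commutator]
  refine Moved.of_map π hπ ((h₂ p hp (dvd_map hS F hFR hp hpH) (P.mapSurjective hπ)).1 ?_ ?_)
  · rw [hcomm, isNilpotent_iff_lowerCentralSeries]
    refine ⟨n, ?_⟩
    rw [← map_lowerCentralSeries, Subgroup.map_eq_bot_iff, hker]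
    exact hn.trans (hmax K hKn hKR hKnil)
  · rw [hcomm]
    intro hbot
    rw [Subgroup.map_eq_bot_iff, hker] at hbot
    apply hnil
    rw [isNilpotent_iff_lowerCentralSeries] at hFnil ⊢
    obtain ⟨m, hm⟩ := hFnil
    exact ⟨m, le_bot_iff.1 (hm ▸ lowerCentralSeries_mono m hbot)⟩

end Cfsg.Agent.H463.Cls
end

private theorem dce_b5670340f824 : _root_.True := by
  try have : _root_.True := by simp only [_root_.Cfsg.Agent.H158.Cls7.Sys.prj.congr_simp]
  exact _root_.True.intro
end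

-- part: H308/ClsNum
section
prune_inst 0x10000000000000
set_option linter.all false
open scoped Cfsg.Agent.FastGrp

/-!
# S4148, T4a: existence of the numerical data
-/

set_option autoImplicit false
set_option linter.unusedSectionVars false
set_option linter.style.haveILetI false

namespace Cfsg.Agent.H308.ClsNum

open scoped Pointwise commutatorElement
open Cfsg.Agent.H822.Cls

universe u

section

variable {L U F : Type*} [Group L] [Finite L] [AddCommGroup U] [Finite U] [Nontrivial U]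
  [DistribMulAction L U] [Field F] [Finite F] [Module F U] (D : Prim L U F)

theorem comm_SA {x a : L} (hx : x ∈ D.S) (ha : a ∈ D.A) : x * a = a * x :=
  ((Subgroup.mem_centralizer_iff.1 (D.S_le hx)) a ha).symm

/-- the commutator is multiplicative in the second variable -/
theorem comm_pow {x y : L} (hx : x ∈ D.S) (hy : y ∈ D.S) (n : ℕ) :
    x * y ^ n * x⁻¹ * (y ^ n)⁻¹ = (x * y * x⁻¹ * y⁻¹) ^ n := by
  set z := x * y * x⁻¹ * y⁻¹ with hz
  have hzA : z ∈ D.A := D.comm_mem x hx y hy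
  have h1 : x * y * x⁻¹ = z * y := by rw [hz]; group
  have h2 : Commute z y := (comm_SA D hy hzA).symm
  have h3 : x * y ^ n * x⁻¹ = z ^ n * y ^ n := by
    rw [← conj_pow, h1, h2.mul_pow]
  rw [h3, mul_inv_cancel_right]

theorem relIndex_le : D.A.relIndex D.S ≤ Module.finrank F U ^ 2 := by
  haveI : Module.Finite F U := Module.Finite.of_finite
  have hlin : ∀ b : L, b ∈ D.S → D.σ b = 1 := by
    intro b hb
    have h1 := D.S_le hb
    rw [← D.σ_ker] at h1
    exact h1
  let θ : D.S →* Module.End F U :=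
    { toFun := fun b =>
        { toFun := fun v => (b : L) • v
          map_add' := fun v w => smul_add (b : L) v w
          map_smul' := fun κ v => by
            rw [D.σ_spec, hlin b b.2]
            rfl }
      map_one' := by
        refine LinearMap.ext fun v => ?_
        exact one_smul L v
      map_mul' := fun b c => by
        refine LinearMap.ext fun v => ?_
        exact mul_smul (b : L) (c : L) v }
  let e := Subgroup.subgroupOfEquivOfLe D.A_le
  refine Cfsg.Agent.H348.Trans.index_le_sq θ (D.A.subgroupOf D.S) (D.ι.comp e.toMonoidHom)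
    (D.ι_inj.comp e.injective) ?_ ?_ ?_
  · intro a v
    exact D.ι_spec (e a) v
  · intro x y
    exact D.comm_mem x x.2 y y.2
  · intro a
    rw [Subgroup.mem_subgroupOf]
    constructor
    · intro ha c
      exact Subtype.ext (comm_SA D c.2 ha)
    · intro h
      apply D.cent_le
      rw [Subgroup.mem_centralizer_iff]
      intro c hc
      exact congrArg Subtype.val (h ⟨c, hc⟩)

instance normal_sub : (D.A.subgroupOf D.S).Normal := by
  have := D.A_normal
  infer_instance

theorem quot_comm (a b : D.S ⧸ D.A.subgroupOf D.S) : a * b = b * a := by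
  obtain ⟨x, rfl⟩ := QuotientGroup.mk_surjective a
  obtain ⟨y, rfl⟩ := QuotientGroup.mk_surjective b
  rw [← QuotientGroup.mk_mul, ← QuotientGroup.mk_mul, eq_comm, QuotientGroup.eq, Subgroup.mem_subgroupOf]
  have h := D.comm_mem _ (D.S.inv_mem x.2) _ (D.S.inv_mem y.2)
  have h1 : ((((y * x)⁻¹ * (x * y) : D.S)) : L) = (x : L)⁻¹ * (y : L)⁻¹ * (x : L)⁻¹⁻¹ * (y : L)⁻¹⁻¹ := by
    show ((y : L) * x)⁻¹ * ((x : L) * y) = _
    group
  rw [h1]
  exact h

noncomputable instance quotCommGroup : CommGroup (D.S ⧸ D.A.subgroupOf D.S) :=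
  { (inferInstance : Group (D.S ⧸ D.A.subgroupOf D.S)) with mul_comm := quot_comm D }

/-- the `q`-part of `S / A` -/
noncomputable def K (q : ℕ) : Subgroup (D.S ⧸ D.A.subgroupOf D.S) := (powMonoidHom q).ker

/-- its preimage -/
noncomputable def W (q : ℕ) : Subgroup L :=
  ((K D q).comap (QuotientGroup.mk' (D.A.subgroupOf D.S))).map D.S.subtype

theorem mem_W {q : ℕ} {s : L} : s ∈ W D q ↔ s ∈ D.S ∧ s ^ q ∈ D.A := by
  constructor
  · rintro ⟨t, ht, rfl⟩
    refine ⟨t.2, ?_⟩
    have h1 : ((t : D.S) : D.S ⧸ D.A.subgroupOf D.S) ^ q = 1 := ht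
    rw [← QuotientGroup.mk_pow, QuotientGroup.eq_one_iff, Subgroup.mem_subgroupOf] at h1
    exact h1
  · rintro ⟨hs, h1⟩
    refine ⟨⟨s, hs⟩, ?_, rfl⟩
    show (((⟨s, hs⟩ : D.S)) : D.S ⧸ D.A.subgroupOf D.S) ^ q = 1
    rw [← QuotientGroup.mk_pow, QuotientGroup.eq_one_iff, Subgroup.mem_subgroupOf]
    exact h1

theorem relIndex_W (q : ℕ) : D.A.relIndex (W D q) = Nat.card (K D q) := by
  have h1 : D.A = ((⊥ : Subgroup (D.S ⧸ D.A.subgroupOf D.S)).comap (QuotientGroup.mk' (D.A.subgroupOf D.S))).map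
      D.S.subtype := by
    rw [MonoidHom.comap_bot, QuotientGroup.ker_mk', Subgroup.map_subgroupOf_eq_of_le D.A_le]
  conv_lhs => rw [h1]
  unfold W
  rw [Subgroup.relIndex_map_map_of_injective _ _ D.S.subtype_injective, Subgroup.relIndex_comap,
    Subgroup.map_comap_eq_self_of_surjective (QuotientGroup.mk'_surjective _), Subgroup.relIndex_bot_left]

theorem sqf (x : D.S ⧸ D.A.subgroupOf D.S) : Squarefree (orderOf x) := by
  obtain ⟨s, rfl⟩ := QuotientGroup.mk_surjective x
  obtain ⟨N, hN, hs⟩ := D.prime_exp s s.2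
  refine hN.squarefree_of_dvd (orderOf_dvd_of_pow_eq_one ?_)
  rw [← QuotientGroup.mk_pow, QuotientGroup.eq_one_iff, Subgroup.mem_subgroupOf]
  exact hs

theorem card_K {q : ℕ} (hq : q.Prime) :
    Nat.card (K D q) = q ^ (Nat.card (D.S ⧸ D.A.subgroupOf D.S)).factorization q := by
  have : Fact q.Prime := ⟨hq⟩
  let P : Sylow q (D.S ⧸ D.A.subgroupOf D.S) := default
  rw [← P.card_eq_multiplicity]
  congr 1
  have h1 : K D q = (P : Subgroup (D.S ⧸ D.A.subgroupOf D.S)) := by
    apply le_antisymm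
    · have hKp : IsPGroup q (K D q) := by
        intro x
        refine ⟨1, ?_⟩
        apply Subtype.ext
        rw [pow_one]
        exact x.2
      obtain ⟨P', hP'⟩ := hKp.exists_le_sylow
      have hn : (P : Subgroup (D.S ⧸ D.A.subgroupOf D.S)).Normal := inferInstance
      have : P' = P := by
        have := Sylow.unique_of_normal P hn
        exact Subsingleton.elim _ _
      rwa [this] at hP'
    · intro x hx
      show x ^ q = 1
      obtain ⟨k, hk⟩ := IsPGroup.iff_orderOf.1 P.2 ⟨x, hx⟩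
      rw [Subgroup.orderOf_mk] at hk
      have h2 := sqf D x
      rw [hk] at h2
      have h3 : k ≤ 1 := by
        by_contra hcon
        push Not at hcon
        have h4 : q * q ∣ q ^ k := by
          rw [← sq]
          exact pow_dvd_pow q hcon
        exact hq.one_lt.ne' (Nat.isUnit_iff.1 (h2 q h4))
      apply orderOf_dvd_iff_pow_eq_one.1
      rw [hk]
      exact (pow_dvd_pow q h3).trans (by rw [pow_one])
  rw [h1]

theorem cop_comm {q : ℕ} (hq : q.Prime) {w s : L} (hw : w ∈ W D q) (hs : s ∈ D.S) (hc : ∀ y ∈ W D q, w * y = y * w) :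
    w * s = s * w := by
  obtain ⟨hwS, hwq⟩ := (mem_W D).1 hw
  set z := w * s * w⁻¹ * s⁻¹ with hz
  have hzq : z ^ q = 1 := by
    have h1 := comm_pow D hs hwS q
    have h2 := comm_SA D hs hwq
    rw [h2, mul_inv_cancel_right, mul_inv_cancel] at h1
    have h3 : z = (s * w * s⁻¹ * w⁻¹)⁻¹ := by rw [hz]; group
    rw [h3, inv_pow, ← h1, inv_one]
  obtain ⟨N, hN, hsN⟩ := D.prime_exp s hs
  have hfin : ∀ M : ℕ, ¬ q ∣ M → z ^ M = 1 → w * s = s * w := by
    intro M hM hzM
    have h4 : orderOf z ∣ Nat.gcd q M := Nat.dvd_gcd (orderOf_dvd_of_pow_eq_one hzq) (orderOf_dvd_of_pow_eq_one hzM)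
    rw [(hq.coprime_iff_not_dvd.2 hM : Nat.gcd q M = 1), Nat.dvd_one, orderOf_eq_one_iff] at h4
    rw [hz, mul_inv_eq_one, mul_inv_eq_iff_eq_mul] at h4
    exact h4
  by_cases hqN : q ∣ N
  · obtain ⟨M, rfl⟩ := hqN
    have hqM : ¬ q ∣ M := by
      intro h
      have := hN q (mul_dvd_mul_left q h)
      exact hq.one_lt.ne' (Nat.isUnit_iff.1 this)
    apply hfin M hqM
    rw [← comm_pow D hwS hs M]
    have h5 : s ^ M ∈ W D q := by
      rw [mem_W]
      refine ⟨D.S.pow_mem hs M, ?_⟩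
      rw [← pow_mul, mul_comm]
      exact hsN
    rw [hc _ h5, mul_inv_cancel_right, mul_inv_cancel]
  · apply hfin N hqN
    rw [← comm_pow D hwS hs N, comm_SA D hwS hsN, mul_inv_cancel_right, mul_inv_cancel]

theorem A_le_W (q : ℕ) : D.A ≤ W D q := fun a ha => (mem_W D).2 ⟨D.A_le ha, D.A.pow_mem ha q⟩

theorem W_le_S (q : ℕ) : W D q ≤ D.S := fun _ hs => ((mem_W D).1 hs).1

theorem nondeg {q : ℕ} (hq : q.Prime) : W D q ⊓ Subgroup.centralizer (W D q : Set L) ≤ D.A := by
  rintro w ⟨hw, hwc⟩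
  apply D.cent_le
  rw [Subgroup.mem_centralizer_iff]
  intro s hs
  exact (cop_comm D hq hw hs fun y hy => ((Subgroup.mem_centralizer_iff.1 hwc) y hy).symm).symm

end

theorem exists_num : ExistsNum.{u} := by
  intro L U F _ _ _ _ _ _ _ _ _ D
  classical
  set X := D.S ⧸ D.A.subgroupOf D.S with hX
  have hsq : ∀ q : ℕ, q.Prime → ∃ m : ℕ, Nat.card (K D q) = q ^ (2 * m) := by
    intro q hq
    obtain ⟨j, hj⟩ := Cfsg.Agent.H348.Trans.exists_sq D.A (W D q) (A_le_W D q) D.ι D.ι_inj
      (fun x hx y hy => D.comm_mem x (W_le_S D q hx) y (W_le_S D q hy))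
      (fun x hx a ha => comm_SA D (W_le_S D q hx) ha) (nondeg D hq)
    rw [relIndex_W] at hj
    have h1 := card_K D hq
    rw [hj] at h1
    have h2 : j ∣ q ^ (Nat.card X).factorization q := by
      rw [← h1]; exact dvd_pow_self j two_ne_zero
    obtain ⟨m, -, hm⟩ := (Nat.dvd_prime_pow hq).1 h2
    exact ⟨m, by rw [hj, hm, ← pow_mul, mul_comm]⟩
  have hsq' : ∀ q : ℕ, ∃ m : ℕ, q.Prime → Nat.card (K D q) = q ^ (2 * m) := by
    intro q
    by_cases hq : q.Prime
    · obtain ⟨m, hm⟩ := hsq q hq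
      exact ⟨m, fun _ => hm⟩
    · exact ⟨0, fun h => absurd h hq⟩
  choose m hm using hsq'
  have hX0 : Nat.card X ≠ 0 := Nat.card_pos.ne'
  have hfac : ∀ q : ℕ, q.Prime → (Nat.card X).factorization q = 2 * m q := by
    intro q hq
    have h1 := hm q hq
    rw [card_K D hq] at h1
    exact Nat.pow_right_injective hq.two_le h1
  have hcardX : D.A.relIndex D.S = Nat.card X := rfl
  have hprod : D.A.relIndex D.S = (∏ q ∈ (Nat.card X).primeFactors, q ^ m q) ^ 2 := by
    rw [hcardX, ← Finset.prod_pow]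
    conv_lhs => rw [← Nat.prod_factorization_pow_eq_self hX0]
    rw [Finsupp.prod]
    refine Finset.prod_congr (Nat.support_factorization _) ?_
    intro q hq
    have hq' := Nat.prime_of_mem_primeFactors (by rwa [← Nat.support_factorization])
    rw [hfac q hq', ← pow_mul, mul_comm]
  refine ⟨(Nat.card X).primeFactors, m, ?_⟩
  have hone : ∀ q ∈ (Nat.card X).primeFactors, 1 ≤ m q := by
    intro q hq
    have hq' := Nat.prime_of_mem_primeFactors hq
    have h1 := hq'.factorization_pos_of_dvd hX0 (Nat.dvd_of_mem_primeFactors hq)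
    rw [hfac q hq'] at h1
    omega
  refine
    { prime := fun q hq => Nat.prime_of_mem_primeFactors hq
      one_le := hone
      dvd := ?_
      triv := ?_
      card_part := ?_
      relIndex := hprod
      le_finrank := ?_ }
  · intro q hq
    have hq' := Nat.prime_of_mem_primeFactors hq
    have hnt : ¬ W D q ≤ D.A := by
      intro hle
      have h1 : D.A.relIndex (W D q) = 1 := Subgroup.relIndex_eq_one.2 hle
      rw [relIndex_W, hm q hq'] at h1
      have h2 := hone q hq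
      have h3 : 1 < q ^ (2 * m q) := Nat.one_lt_pow (by omega) hq'.one_lt
      omega
    obtain ⟨w, hw, hwA⟩ := SetLike.not_le_iff_exists.1 hnt
    have hex : ∃ y ∈ W D q, w * y ≠ y * w := by
      by_contra hcon
      push Not at hcon
      apply hwA
      apply nondeg D hq'
      refine ⟨hw, ?_⟩
      show w ∈ Subgroup.centralizer (W D q : Set L)
      rw [Subgroup.mem_centralizer_iff]
      intro y hy
      exact (hcon y hy).symm
    obtain ⟨y, hy, hwy⟩ := hex
    obtain ⟨hyS, hyq⟩ := (mem_W D).1 hy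
    have hwS := W_le_S D q hw
    have hzA := D.comm_mem w hwS y hyS
    have hzq : (w * y * w⁻¹ * y⁻¹) ^ q = 1 := by
      rw [← comm_pow D hwS hyS, comm_SA D hwS hyq, mul_inv_cancel_right, mul_inv_cancel]
    have hz1 : w * y * w⁻¹ * y⁻¹ ≠ 1 := by
      intro h
      rw [mul_inv_eq_one, mul_inv_eq_iff_eq_mul] at h
      exact hwy h
    have hord : orderOf (D.ι ⟨_, hzA⟩) = q := by
      rw [orderOf_injective D.ι D.ι_inj]
      exact orderOf_eq_prime (hp := ⟨hq'⟩) (Subtype.ext hzq) (fun h => hz1 (congrArg Subtype.val h))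
    have h4 := orderOf_dvd_natCard (D.ι ⟨_, hzA⟩)
    rw [hord] at h4
    have := Fintype.ofFinite F
    rwa [Nat.card_units] at h4
  · intro q hq hqQ s hs hsq
    by_contra hsA
    apply hqQ
    rw [Nat.mem_primeFactors]
    refine ⟨hq, ?_, hX0⟩
    have h1 : orderOf (((⟨s, hs⟩ : D.S)) : X) = q := by
      refine orderOf_eq_prime (hp := ⟨hq⟩) ?_ ?_
      · rw [← QuotientGroup.mk_pow, QuotientGroup.eq_one_iff, Subgroup.mem_subgroupOf]
        exact hsq
      · intro h
        rw [QuotientGroup.eq_one_iff, Subgroup.mem_subgroupOf] at h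
        exact hsA h
    rw [← h1]
    exact orderOf_dvd_natCard _
  · intro q hq Y hY
    have h1 : Y = W D q := by
      ext s
      rw [hY s, mem_W]
    rw [h1, relIndex_W, hm q (Nat.prime_of_mem_primeFactors hq)]
  · have h1 := relIndex_le D
    rw [hprod] at h1
    exact (Nat.pow_le_pow_iff_left two_ne_zero).1 h1

end Cfsg.Agent.H308.ClsNum

private theorem dce_337819349b5e : _root_.True := by
  try have : _root_.True := by simp only [_root_.Cfsg.Agent.H308.ClsNum.W.congr_simp]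
  exact _root_.True.intro
end

-- part: H668/Dim/NotMem
section
prune_inst 0x10000000000000
set_option linter.all false
open scoped Cfsg.Agent.FastGrp

-- part: H668/Dim/Core
section
/-!
# A coprime action of a Sylow subgroup on a solvable normal subgroup: finding a small nonnilpotent section
-/

set_option autoImplicit false

namespace Cfsg.Agent.H668.Dim

open Subgroup Cfsg
open Cfsg.Agent.Lib.Cores
open scoped commutatorElement

/-- If `E = [E, P] ≠ 1` is a solvable normal subgroup, then `P` does not centralise some `O_r(E)`. -/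
theorem exists_pCore {G : Type*} [Group G] [Finite G] [Group.IsSolvable G] (E P : Subgroup G) (hEn : E.Normal)
    (hEP : ⁅E, P⁆ = E) (hE : E ≠ ⊥) :
    ∃ r : ℕ, r.Prime ∧ ¬ P ≤ centralizer ((E ⊓ pCore r G : Subgroup G) : Set G) := by
  by_contra hcon
  push Not at hcon
  apply hE
  -- `E` centralises all `O_r(E)`
  have h1 : ∀ r : ℕ, r.Prime → E ≤ centralizer ((E ⊓ pCore r G : Subgroup G) : Set G) := by
    intro r hr
    have hn : (E ⊓ pCore r G : Subgroup G).Normal := inferInstance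
    have h2 : ⁅P, (E ⊓ pCore r G : Subgroup G)⁆ = ⊥ := by
      rw [commutator_eq_bot_iff_le_centralizer]
      exact hcon r hr
    have h3 : ⁅⁅E, P⁆, (E ⊓ pCore r G : Subgroup G)⁆ = ⊥ := by
      apply commutator_commutator_eq_bot_of_rotate
      · rw [h2, commutator_bot_left]
      · rw [eq_bot_iff]
        calc ⁅⁅(E ⊓ pCore r G : Subgroup G), E⁆, P⁆ ≤ ⁅(E ⊓ pCore r G : Subgroup G), P⁆ :=
              commutator_mono (commutator_le_left _ _) le_rfl
          _ = ⊥ := by rw [commutator_comm, h2]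
    rw [hEP, commutator_eq_bot_iff_le_centralizer] at h3
    exact h3
  -- so `E` is contained in its Fitting subgroup
  have h4 : ∀ r : ℕ, r.Prime → ∀ x : E, x ∈ centralizer (pCore r E : Set E) := by
    intro r hr x
    rw [mem_centralizer_iff]
    intro y hy
    have h5 : (y : G) ∈ (E ⊓ pCore r G : Subgroup G) := by
      rw [← map_subtype_pCore r hEn]
      exact ⟨y, hy, rfl⟩
    exact Subtype.ext (mem_centralizer_iff.1 (h1 r hr x.2) _ h5)
  have h6 : ∀ x : E, x ∈ centralizer (fittingSubgroup E : Set E) := by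
    intro x
    have h2 : fittingSubgroup E ≤ Subgroup.centralizer ({x} : Set E) := by
      rw [fittingSubgroup_eq_iSup_pCore]
      refine iSup_le fun r y hy => ?_
      rw [Subgroup.mem_centralizer_iff]
      rintro _ rfl
      exact ((Subgroup.mem_centralizer_iff.mp (h4 r r.2 _)) y hy).symm
    rw [Subgroup.mem_centralizer_iff]
    intro y hy
    exact ((Subgroup.mem_centralizer_iff.mp (h2 hy)) x rfl).symm
  have h7 : fittingSubgroup E = ⊤ := by
    rw [eq_top_iff]
    intro x _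
    exact Cfsg.Agent.S0044.centralizer_fitting_le E (fittingSubgroup_normal (G := E)) (h6 x)
  -- `P` centralises `E`
  have h8 : E ≤ centralizer (P : Set G) := by
    have h9 : (fittingSubgroup E).map E.subtype ≤ centralizer (P : Set G) := by
      rw [fittingSubgroup_eq_iSup_pCore, Subgroup.map_iSup]
      refine iSup_le fun r => ?_
      rw [map_subtype_pCore r hEn, le_centralizer_iff]
      exact hcon r r.2
    rwa [h7, ← MonoidHom.range_eq_map, Subgroup.range_subtype] at h9
  rw [← commutator_eq_bot_iff_le_centralizer] at h8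
  rw [← hEP, h8]

/-- The section `D`. -/
theorem exists_section {L G : Type*} [Group L] [Finite L] [Group.IsSolvable L] [Group G] (φ : L →* G)
    (hφ : Function.Surjective φ) {p q : ℕ} (hp : p.Prime) (hq : q.Prime) (hqp : q ≠ p) (E : Subgroup L)
    (hE : E.Normal) (P : Sylow p L) (hpE : ¬ p ∣ Nat.card E) (hEP : ⁅E, (P : Subgroup L)⁆ = E)
    (hss : ∀ E' : Subgroup L, E'.Normal → E' ≤ E → (∀ x ∈ E', ∃ k : ℕ, φ x ^ q ^ k = 1) → ∀ x ∈ E', φ x = 1)
    (hne : ¬ ∀ x ∈ E, φ x = 1) :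
    ∃ D : Subgroup G, Group.IsSolvable D ∧ ¬ q ∣ Nat.card D ∧ ∃ P' : Sylow p D, ¬ (P' : Subgroup D).Normal := by
  have hpf : Fact p.Prime := ⟨hp⟩
  have hqf : Fact q.Prime := ⟨hq⟩
  have hGf : Finite G := Finite.of_surjective φ hφ
  have hGs : Group.IsSolvable G := Group.isSolvable_of_surjective hφ
  have hEn : (E.map φ).Normal := hE.map φ hφ
  have hEP' : ⁅E.map φ, (P : Subgroup L).map φ⁆ = E.map φ := by
    rw [← map_commutator, hEP]
  have hE' : E.map φ ≠ ⊥ := by
    intro h
    apply hne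
    intro x hx
    have : φ x ∈ E.map φ := mem_map_of_mem φ hx
    rwa [h, mem_bot] at this
  obtain ⟨r, hr, hrP⟩ := exists_pCore (E.map φ) ((P : Subgroup L).map φ) hEn hEP' hE'
  have hrf : Fact r.Prime := ⟨hr⟩
  set R : Subgroup G := E.map φ ⊓ pCore r G with hR
  have hRn : R.Normal := inferInstance
  have hRr : IsPGroup r R := (pCore_isPGroup (G := G) r).to_le inf_le_right
  have hRbot : R ≠ ⊥ := by
    intro h
    rw [h] at hrP
    exact hrP (fun x _ => by
      rw [mem_centralizer_iff]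
      intro y hy
      rw [coe_bot, Set.mem_singleton_iff] at hy
      rw [hy, one_mul, mul_one])
  obtain ⟨n, hn⟩ := hRr.exists_card_eq
  have hrR : r ∣ Nat.card R := by
    rw [hn]
    refine dvd_pow_self r ?_
    rintro rfl
    rw [pow_zero, Subgroup.card_eq_one] at hn
    exact hRbot hn
  -- `r ≠ p`
  have hrp : r ≠ p := by
    rintro rfl
    apply hpE
    calc r ∣ Nat.card R := hrR
      _ ∣ Nat.card (E.map φ) := Subgroup.card_dvd_of_le inf_le_left
      _ ∣ Nat.card E := Subgroup.card_map_dvd E φ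
  -- `r ≠ q`
  have hrq : r ≠ q := by
    rintro rfl
    apply hRbot
    rw [eq_bot_iff]
    have h1 : ∀ x ∈ E ⊓ R.comap φ, φ x = 1 := by
      refine hss _ inferInstance inf_le_left ?_
      intro x hx
      obtain ⟨k, hk⟩ := hRr ⟨φ x, hx.2⟩
      exact ⟨k, congrArg Subtype.val hk⟩
    intro y hy
    obtain ⟨x, hx, rfl⟩ := hy.1
    rw [mem_bot]
    exact h1 x ⟨hx, hy⟩
  have hPp : IsPGroup p ((P : Subgroup L).map φ) := P.isPGroup'.map φ
  set P1 : Subgroup G := (P : Subgroup L).map φ with hP1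
  obtain ⟨k, hk⟩ := hPp.exists_card_eq
  have hdisj : R ⊓ P1 = ⊥ := by
    rw [eq_bot_iff]
    intro x hx
    rw [mem_bot, ← orderOf_eq_one_iff]
    refine Nat.eq_one_of_dvd_coprimes (a := r ^ n) (b := p ^ k)
      (Nat.Coprime.pow _ _ ((Nat.coprime_primes hr hp).2 hrp)) ?_ ?_
    · rw [← hn]; exact Subgroup.orderOf_dvd_natCard R hx.1
    · rw [← hk]; exact Subgroup.orderOf_dvd_natCard P1 hx.2
  have hdvd : Nat.card (R ⊔ P1 : Subgroup G) ∣ r ^ n * p ^ k := by
    have h1 := card_sup_dvd R P1 hRn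
    rwa [hn, hk] at h1
  have hidx : (P1.subgroupOf (R ⊔ P1)).index ∣ r ^ n := by
    have h1 : Nat.card (P1.subgroupOf (R ⊔ P1)) * (P1.subgroupOf (R ⊔ P1)).index = Nat.card (R ⊔ P1 : Subgroup G) :=
      Subgroup.card_mul_index _
    rw [Nat.card_congr (Subgroup.subgroupOfEquivOfLe (le_sup_right : P1 ≤ R ⊔ P1)).toEquiv, hk] at h1
    rw [← h1, mul_comm (r ^ n)] at hdvd
    exact Nat.dvd_of_mul_dvd_mul_left (pow_pos hp.pos k) hdvd
  refine ⟨R ⊔ P1, inferInstance, ?_, IsPGroup.toSylow (P := P1.subgroupOf (R ⊔ P1)) ?_ ?_, ?_⟩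
  · intro h
    have h1 := h.trans hdvd
    rcases (Nat.Prime.dvd_mul hq).1 h1 with h2 | h2
    · exact hrq.symm ((Nat.prime_dvd_prime_iff_eq hq hr).1 (hq.dvd_of_dvd_pow h2))
    · exact hqp ((Nat.prime_dvd_prime_iff_eq hq hp).1 (hq.dvd_of_dvd_pow h2))
  · exact hPp.of_equiv (Subgroup.subgroupOfEquivOfLe (le_sup_right : P1 ≤ R ⊔ P1)).symm
  · intro h
    exact hrp.symm ((Nat.prime_dvd_prime_iff_eq hp hr).1 (hp.dvd_of_dvd_pow (h.trans hidx)))
  · intro h
    have hN : (P1.subgroupOf (R ⊔ P1)).Normal := h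
    apply hrP
    rw [← commutator_eq_bot_iff_le_centralizer, commutator_comm, eq_bot_iff, ← hdisj]
    refine le_inf (commutator_le_left _ _) ?_
    rw [commutator_le]
    intro x hx y hy
    have h1 := hN.conj_mem ⟨y, (le_sup_right : P1 ≤ R ⊔ P1) hy⟩ hy ⟨x, (le_sup_left : R ≤ R ⊔ P1) hx⟩
    have h2 : x * y * x⁻¹ ∈ P1 := h1
    rw [commutatorElement_def]
    exact P1.mul_mem h2 (P1.inv_mem hy)

end Cfsg.Agent.H668.Dim
end

-- part: H668/Dim/Mod
section
/-!
# The module `X_q = {s ∈ S | s ^ q ∈ A} / A`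
-/

set_option autoImplicit false
set_option linter.unusedSectionVars false

namespace Cfsg.Agent.H668.Dim

open scoped Pointwise commutatorElement
open Cfsg.Agent.H822.Cls

universe u

section

variable {L U F : Type u} [Group L] [AddCommGroup U] [DistribMulAction L U] [Field F] [Module F U]
  (D : Prim L U F)

instance instAn : D.A.Normal := D.A_normal

instance instSn : D.S.Normal := D.S_normal

theorem A_comm {a s : L} (ha : a ∈ D.A) (hs : s ∈ D.S) : a * s = s * a :=
  (Subgroup.mem_centralizer_iff.1 (D.S_le hs)) a ha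

theorem mk_comm {x y : L} (hx : x ∈ D.S) (hy : y ∈ D.S) :
    Commute (QuotientGroup.mk' D.A x) (QuotientGroup.mk' D.A y) := by
  have h1 := D.comm_mem x hx y hy
  have h2 : QuotientGroup.mk' D.A (x * y * x⁻¹ * y⁻¹) = 1 := (QuotientGroup.eq_one_iff _).2 h1
  rw [map_mul, map_mul, map_mul, map_inv, map_inv] at h2
  rw [commute_iff_eq]
  have h3 := mul_inv_eq_one.1 h2
  exact mul_inv_eq_iff_eq_mul.1 h3

/-- `{s ∈ S | s ^ q ∈ A}` -/
def XL (q : ℕ) : Subgroup L where
  carrier := {s | s ∈ D.S ∧ s ^ q ∈ D.A}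
  one_mem' := ⟨D.S.one_mem, by rw [one_pow]; exact D.A.one_mem⟩
  mul_mem' := by
    rintro x y ⟨hx, hx'⟩ ⟨hy, hy'⟩
    refine ⟨D.S.mul_mem hx hy, ?_⟩
    have h1 := (mk_comm D hx hy).mul_pow q
    rw [← map_mul, ← map_pow, ← map_pow, ← map_pow] at h1
    have h2 : QuotientGroup.mk' D.A (x ^ q) = 1 := (QuotientGroup.eq_one_iff _).2 hx'
    have h3 : QuotientGroup.mk' D.A (y ^ q) = 1 := (QuotientGroup.eq_one_iff _).2 hy'
    rw [h2, h3, one_mul] at h1
    exact (QuotientGroup.eq_one_iff _).1 h1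
  inv_mem' := by
    rintro x ⟨hx, hx'⟩
    exact ⟨D.S.inv_mem hx, by rw [inv_pow]; exact D.A.inv_mem hx'⟩

theorem mem_XL {q : ℕ} {s : L} : s ∈ XL D q ↔ s ∈ D.S ∧ s ^ q ∈ D.A := Iff.rfl

instance XL_normal (q : ℕ) : (XL D q).Normal := by
  refine ⟨fun s hs g => ⟨D.S_normal.conj_mem s hs.1 g, ?_⟩⟩
  rw [conj_pow]
  exact D.A_normal.conj_mem _ hs.2 g

/-- the group `X_q` -/
def XQ (q : ℕ) : Subgroup (L ⧸ D.A) := (XL D q).map (QuotientGroup.mk' D.A)

instance XQ_normal (q : ℕ) : (XQ D q).Normal := (XL_normal D q).map _ (QuotientGroup.mk'_surjective _)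

instance XQ_comm (q : ℕ) : CommGroup (XQ D q) :=
  { (inferInstance : Group (XQ D q)) with
    mul_comm := by
      rintro ⟨_, x, hx, rfl⟩ ⟨_, y, hy, rfl⟩
      exact Subtype.ext (mk_comm D hx.1 hy.1) }

/-- the action of `L` on `X_q` -/
def rho (q : ℕ) : L →* MulAut (XQ D q) := (MulAut.conjNormal).comp (QuotientGroup.mk' D.A)

/-- the class of an element -/
def cl {q : ℕ} {s : L} (hs : s ∈ XL D q) : XQ D q :=
  ⟨QuotientGroup.mk' D.A s, Subgroup.mem_map_of_mem (QuotientGroup.mk' D.A) hs⟩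

theorem exists_cl {q : ℕ} (x : XQ D q) : ∃ (s : L) (hs : s ∈ XL D q), x = cl D hs := by
  obtain ⟨_, s, hs, rfl⟩ := x
  exact ⟨s, hs, rfl⟩

theorem rho_cl {q : ℕ} (g : L) {s : L} (hs : s ∈ XL D q) :
    rho D q g (cl D hs) = cl D ((XL_normal D q).conj_mem s hs g) := by
  refine Subtype.ext ?_
  show ((MulAut.conjNormal (QuotientGroup.mk' D.A g)) (cl D hs) : L ⧸ D.A) = _
  rw [MulAut.conjNormal_apply]
  rfl

theorem cl_mul {q : ℕ} {s t : L} (hs : s ∈ XL D q) (ht : t ∈ XL D q) :
    cl D hs * cl D ht = cl D ((XL D q).mul_mem hs ht) := rfl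

theorem cl_eq_iff {q : ℕ} {s t : L} (hs : s ∈ XL D q) (ht : t ∈ XL D q) :
    cl D hs = cl D ht ↔ s⁻¹ * t ∈ D.A := by
  rw [← Subtype.val_inj]
  exact QuotientGroup.eq

theorem cl_eq_one_iff {q : ℕ} {s : L} (hs : s ∈ XL D q) : cl D hs = 1 ↔ s ∈ D.A := by
  rw [cl, ← Subtype.val_inj]
  exact QuotientGroup.eq_one_iff s

theorem cl_pow (q : ℕ) (x : XQ D q) : x ^ q = 1 := by
  obtain ⟨s, hs, rfl⟩ := exists_cl D x
  refine Subtype.ext ?_
  show (QuotientGroup.mk' D.A s) ^ q = 1
  rw [← map_pow]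
  exact (QuotientGroup.eq_one_iff _).2 hs.2

theorem card_XQ {Q : Finset ℕ} {m : ℕ → ℕ} (hD : D.Num Q m) {q : ℕ} (hq : q ∈ Q) :
    Nat.card (XQ D q) = q ^ (2 * m q) := by
  rw [← hD.card_part q hq (XL D q) (fun s => mem_XL D), XQ, ← Subgroup.relIndex_ker, QuotientGroup.ker_mk']

theorem rho_eq_one_iff {q : ℕ} (g : L) : rho D q g = 1 ↔ D.Triv q g := by
  constructor
  · intro h s hs hsq
    have hs' : s ∈ XL D q := ⟨hs, hsq⟩
    have h1 := rho_cl D g hs'
    rw [h, MulAut.one_apply, eq_comm, cl_eq_iff] at h1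
    have h2 := D.A_normal.conj_mem _ h1 (g * s * g⁻¹)
    have h3 : g * s * g⁻¹ * ((g * s * g⁻¹)⁻¹ * s) * (g * s * g⁻¹)⁻¹ = (g * s * g⁻¹ * s⁻¹)⁻¹ := by group
    rw [h3] at h2
    exact (Subgroup.inv_mem_iff _).1 h2
  · intro h
    ext x
    obtain ⟨s, hs, rfl⟩ := exists_cl D x
    rw [rho_cl, MulAut.one_apply]
    congr 1
    rw [cl_eq_iff]
    have h1 := h s hs.1 hs.2
    have h2 := D.A_normal.conj_mem _ (D.A.inv_mem h1) (g * s * g⁻¹)⁻¹
    have h3 : (g * s * g⁻¹)⁻¹ * (g * s * g⁻¹ * s⁻¹)⁻¹ * ((g * s * g⁻¹)⁻¹)⁻¹ = (g * s * g⁻¹)⁻¹ * s := by group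
    rwa [h3] at h2

end

/-- an action by automorphisms on a commutative group, written additively -/
@[reducible]
def act {K Y : Type*} [Group K] [CommGroup Y] (f : K →* MulAut Y) : DistribMulAction K (Additive Y) where
  smul k y := Additive.ofMul (f k y.toMul)
  one_smul y := by
    show Additive.ofMul (f 1 y.toMul) = y
    rw [map_one]; rfl
  mul_smul a b y := by
    show Additive.ofMul (f (a * b) y.toMul) = Additive.ofMul (f a (f b y.toMul))
    rw [map_mul]; rfl
  smul_zero a := by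
    show Additive.ofMul (f a 1) = 0
    rw [map_one]; rfl
  smul_add a x y := by
    show Additive.ofMul (f a (x.toMul * y.toMul)) = Additive.ofMul (f a x.toMul) + Additive.ofMul (f a y.toMul)
    rw [map_mul]; rfl

end Cfsg.Agent.H668.Dim
end

-- part: H668/Dim/NotMem
section
/-!
# The primes dividing `|H|` do not divide `|S / A|`
-/

set_option autoImplicit false
set_option linter.unusedSectionVars false

namespace Cfsg.Agent.H668.Dim

open scoped Pointwise commutatorElement
open Cfsg.Agent.H822.Cls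

universe u

section

variable {L U F : Type u} [Group L] [AddCommGroup U] [DistribMulAction L U] [Field F] [Module F U]
  (D : Prim L U F)

theorem cm_mem {s t : L} (hs : s ∈ D.S) (ht : t ∈ D.S) : ⁅s, t⁆ ∈ D.A := D.comm_mem s hs t ht

theorem cm_mul_left {s₁ s₂ t : L} (h1 : s₁ ∈ D.S) (h2 : s₂ ∈ D.S) (ht : t ∈ D.S) :
    ⁅s₁ * s₂, t⁆ = ⁅s₁, t⁆ * ⁅s₂, t⁆ := by
  have a1 := A_comm D (cm_mem D h2 ht) h1
  have a2 := A_comm D (cm_mem D h2 ht) (D.A_le (cm_mem D h1 ht))
  have a3 : ⁅s₁ * s₂, t⁆ = s₁ * ⁅s₂, t⁆ * s₁⁻¹ * ⁅s₁, t⁆ := by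
    simp only [commutatorElement_def]
    group
  rw [a3, ← a1, mul_assoc ⁅s₂, t⁆, mul_inv_cancel, mul_one, a2]

theorem cm_mul_right {s t₁ t₂ : L} (hs : s ∈ D.S) (h1 : t₁ ∈ D.S) (h2 : t₂ ∈ D.S) :
    ⁅s, t₁ * t₂⁆ = ⁅s, t₁⁆ * ⁅s, t₂⁆ := by
  rw [← commutatorElement_inv, cm_mul_left D h1 h2 hs, mul_inv_rev, commutatorElement_inv, commutatorElement_inv]
  exact A_comm D (cm_mem D hs h2) (D.A_le (cm_mem D hs h1))

theorem cm_pow_left {s t : L} (hs : s ∈ D.S) (ht : t ∈ D.S) (k : ℕ) : ⁅s ^ k, t⁆ = ⁅s, t⁆ ^ k := by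
  induction k with
  | zero => rw [pow_zero, pow_zero, commutatorElement_one_left]
  | succ k ih => rw [pow_succ, cm_mul_left D (D.S.pow_mem hs k) hs ht, ih, pow_succ]

theorem cm_pow_right {s t : L} (hs : s ∈ D.S) (ht : t ∈ D.S) (k : ℕ) : ⁅s, t ^ k⁆ = ⁅s, t⁆ ^ k := by
  rw [← commutatorElement_inv, cm_pow_left D ht hs, ← inv_pow, commutatorElement_inv]

theorem A_cm {a s : L} (ha : a ∈ D.A) (hs : s ∈ D.S) : ⁅a, s⁆ = 1 :=
  commutatorElement_eq_one_iff_mul_comm.2 (A_comm D ha hs)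

end

theorem sylow_comm {L : Type*} [Group L] [Finite L] {M H : Subgroup L} (hS : Split M H) {p : ℕ} (hp : p.Prime)
    (hpH : p ∣ Nat.card H) {P : Subgroup L} (hP : IsPGroup p P) : ∀ x ∈ P, ∀ y ∈ P, x * y = y * x := by
  have hpf : Fact p.Prime := ⟨hp⟩
  obtain ⟨P0, hP0⟩ := hS.exists_sylow hp hpH
  obtain ⟨P1, hP1⟩ := hP.exists_le_sylow
  obtain ⟨k, hk, hkQ⟩ := hS.sylow_conj hp P0 P1 hP0
  intro x hx y hy
  have h1 := hS.comm _ (hP0 ((hkQ x).1 (hP1 hx))) _ (hP0 ((hkQ y).1 (hP1 hy)))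
  have h2 : k * (k⁻¹ * x * k * (k⁻¹ * y * k)) * k⁻¹ = k * (k⁻¹ * y * k * (k⁻¹ * x * k)) * k⁻¹ := by rw [h1]
  have h3 : k * (k⁻¹ * x * k * (k⁻¹ * y * k)) * k⁻¹ = x * y := by group
  have h4 : k * (k⁻¹ * y * k * (k⁻¹ * x * k)) * k⁻¹ = y * x := by group
  rw [← h3, h2, h4]

/-- splitting off the `p'`-part of the order -/
theorem exists_pow_eq {L : Type*} [Group L] [Finite L] (s : L) {p : ℕ} (hp : p.Prime) :
    ∃ n : ℕ, p.Coprime n ∧ ∃ k : ℕ, (s ^ n) ^ p ^ k = 1 := by
  have h0 : orderOf s ≠ 0 := (orderOf_pos s).ne'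
  refine ⟨orderOf s / p ^ (orderOf s).factorization p, ?_, (orderOf s).factorization p, ?_⟩
  · exact (Nat.coprime_ordCompl hp h0)
  · rw [← pow_mul, Nat.div_mul_cancel (Nat.ordProj_dvd _ _), pow_orderOf_eq_one]

section

variable {L U F : Type u} [Group L] [Finite L] [AddCommGroup U] [DistribMulAction L U] [Field F] [Module F U]
  (D : Prim L U F)

theorem pow_mem_iff {p n : ℕ} (hpn : p.Coprime n) {s : L} (h1 : s ^ p ∈ D.A) (h2 : s ^ n ∈ D.A) : s ∈ D.A := by
  have h := Nat.gcd_eq_gcd_ab p n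
  rw [hpn.gcd_eq_one] at h
  have h3 : s = (s ^ p) ^ (p.gcdA n) * (s ^ n) ^ (p.gcdB n) := by
    rw [← zpow_natCast s p, ← zpow_natCast s n, ← zpow_mul, ← zpow_mul, ← zpow_add, ← h, Nat.cast_one, zpow_one]
  rw [h3]
  exact D.A.mul_mem (D.A.zpow_mem h1 _) (D.A.zpow_mem h2 _)

/-- the primes dividing `|H|` do not occur in `S / A` -/
theorem not_mem_aux {M H : Subgroup L} (hS : Split M H) {p : ℕ} (hp : p.Prime)
    (hpH : p ∣ Nat.card H) {s : L} (hs : s ∈ XL D p) : s ∈ D.A := by
  have hpf : Fact p.Prime := ⟨hp⟩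
  by_contra hsA
  obtain ⟨n, hn, k, hk⟩ := exists_pow_eq s hp
  have ht : s ^ n ∉ D.A := fun h => hsA (pow_mem_iff D hn hs.2 h)
  have htS : s ^ n ∈ D.S := D.S.pow_mem hs.1 n
  -- it does not commute with all of `S`
  have h1 : ∃ s' ∈ D.S, ⁅s ^ n, s'⁆ ≠ 1 := by
    by_contra hcon
    push Not at hcon
    apply ht
    apply D.cent_le
    rw [Subgroup.mem_centralizer_iff]
    intro y hy
    exact (commutatorElement_eq_one_iff_mul_comm.1 (hcon y hy)).symm
  obtain ⟨s', hs', hne⟩ := h1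
  obtain ⟨n', hn', k', hk'⟩ := exists_pow_eq s' hp
  have h2 : ⁅s ^ n, s' ^ n'⁆ ≠ 1 := by
    intro h
    rw [cm_pow_right D htS hs'] at h
    have h3 : ⁅s ^ n, s'⁆ ^ p ^ k = 1 := by
      rw [← cm_pow_left D htS hs', hk, commutatorElement_one_left]
    apply hne
    rw [← orderOf_eq_one_iff]
    exact Nat.eq_one_of_dvd_coprimes (Nat.Coprime.pow_left k hn') (orderOf_dvd_of_pow_eq_one h3)
      (orderOf_dvd_of_pow_eq_one h)
  have ht'S : s' ^ n' ∈ D.S := D.S.pow_mem hs' n'
  have hpt : IsPGroup p (Subgroup.zpowers (⟨s ^ n, htS⟩ : D.S)) := by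
    rintro ⟨x, i, rfl⟩
    refine ⟨k, Subtype.ext (Subtype.ext ?_)⟩
    show ((s ^ n) ^ i) ^ p ^ k = 1
    rw [← zpow_natCast, ← zpow_mul, mul_comm i, zpow_mul, zpow_natCast, hk, one_zpow]
  have hpt' : IsPGroup p (Subgroup.zpowers (⟨s' ^ n', ht'S⟩ : D.S)) := by
    rintro ⟨x, i, rfl⟩
    refine ⟨k', Subtype.ext (Subtype.ext ?_)⟩
    show ((s' ^ n') ^ i) ^ p ^ k' = 1
    rw [← zpow_natCast, ← zpow_mul, mul_comm i, zpow_mul, zpow_natCast, hk', one_zpow]
  obtain ⟨T, hT⟩ := hpt.exists_le_sylow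
  obtain ⟨T', hT'⟩ := hpt'.exists_le_sylow
  obtain ⟨g, hg⟩ := MulAction.exists_smul_eq D.S T' T
  have h3 : (⟨s ^ n, htS⟩ : D.S) ∈ T := hT (Subgroup.mem_zpowers _)
  have h4 : g * (⟨s' ^ n', ht'S⟩ : D.S) * g⁻¹ ∈ T := by
    rw [← hg]
    have h5 : (⟨s' ^ n', ht'S⟩ : D.S) ∈ T' := hT' (Subgroup.mem_zpowers _)
    exact Subgroup.smul_mem_pointwise_smul _ (MulAut.conj g) _ h5
  have h6 := sylow_comm hS hp hpH (T.isPGroup'.map D.S.subtype) (s ^ n) ⟨_, h3, rfl⟩
    ((g : L) * (s' ^ n') * (g : L)⁻¹) ⟨_, h4, rfl⟩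
  apply h2
  have h7 : (g : L) * (s' ^ n') * (g : L)⁻¹ = ⁅(g : L), s' ^ n'⁆ * s' ^ n' := by
    rw [commutatorElement_def]
    group
  rw [h7] at h6
  have h8 := commutatorElement_eq_one_iff_mul_comm.2 h6
  rw [cm_mul_right D htS (D.A_le (cm_mem D g.2 ht'S)) ht'S, ← commutatorElement_inv,
    A_cm D (cm_mem D g.2 ht'S) htS, inv_one, one_mul] at h8
  exact h8

end

section

variable {L U F : Type u} [Group L] [Finite L] [AddCommGroup U] [Finite U] [Nontrivial U] [DistribMulAction L U]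
  [Field F] [Finite F] [Module F U] (D : Prim L U F)

/-- the primes dividing `|H|` do not divide `|S / A|` -/
theorem not_mem {Q : Finset ℕ} {m : ℕ → ℕ} (hD : D.Num Q m) (M H : Subgroup L) (hS : Split M H) {p : ℕ}
    (hp : p.Prime) (hpH : p ∣ Nat.card H) : p ∉ Q := by
  intro hpQ
  have h1 := card_XQ D hD hpQ
  have h2 : ∀ x : XQ D p, x = 1 := by
    intro x
    obtain ⟨s, hs, rfl⟩ := exists_cl D x
    rw [cl_eq_one_iff]
    exact not_mem_aux D hS hp hpH hs
  have h3 : Nat.card (XQ D p) = 1 := by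
    rw [Nat.card_eq_one_iff_unique]
    exact ⟨⟨fun a b => by rw [h2 a, h2 b]⟩, ⟨1⟩⟩
  rw [h1] at h3
  have h4 := hD.one_le p hpQ
  have h5 : 1 < p ^ (2 * m p) := Nat.one_lt_pow (by omega) hp.one_lt
  omega

end

end Cfsg.Agent.H668.Dim
end

private theorem dce_9394f81fcfdc : _root_.True := by
  try have : _root_.True := by simp only [_root_.Cfsg.Agent.H668.Dim.XQ.eq_1]
  try have : _root_.True := by simp only [_root_.Cfsg.Agent.H668.Dim.cl.eq_1]
  exact _root_.True.intro
end

-- part: H822/Cls/RelIx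
section
prune_inst 0x10000000000000
set_option linter.all false
open scoped Cfsg.Agent.FastGrp

/-!
# S4148: the bound for a group of automorphisms of `S / A`
-/

set_option autoImplicit false
set_option linter.unusedSectionVars false
set_option linter.style.haveILetI false

namespace Cfsg.Agent.H822.Cls

open scoped Pointwise commutatorElement
open Cfsg.Agent.H308.ClsNum

universe u

/-- the number of endomorphisms of an elementary abelian group -/
theorem card_addHom_le {q : ℕ} (hq : q.Prime) (V : Type*) [AddCommGroup V] [Finite V] [Module (ZMod q) V] (k : ℕ)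
    (hk : Nat.card V = q ^ k) : Nat.card (V →+ V) ≤ q ^ (k * k) := by
  have : Fact q.Prime := ⟨hq⟩
  let f : (V →+ V) → (V →ₗ[ZMod q] V) := fun g => AddMonoidHom.toZModLinearMap q g
  have hf : Function.Injective f := by
    intro a b hab
    ext x
    exact LinearMap.congr_fun hab x
  have hMf : Module.Finite (ZMod q) V := Module.Finite.of_finite
  have hfinr : Module.finrank (ZMod q) V = k := by
    have h1 := Module.natCard_eq_pow_finrank (K := ZMod q) (V := V)
    rw [hk, Nat.card_zmod] at h1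
    exact (Nat.pow_right_injective hq.two_le h1).symm
  have h3 : Nat.card (V →ₗ[ZMod q] V) = q ^ (k * k) := by
    rw [Module.natCard_eq_pow_finrank (K := ZMod q), Nat.card_zmod, Module.finrank_linearMap, hfinr]
  have hfin2 : Finite (V →ₗ[ZMod q] V) := DFunLike.finite _
  rw [← h3]
  exact Nat.card_le_card_of_injective f hf

/-- the multiplicative version -/
theorem card_hom_le {q : ℕ} (hq : q.Prime) (K : Type*) [CommGroup K] [Finite K] (h : ∀ x : K, x ^ q = 1) (k : ℕ)
    (hk : Nat.card K = q ^ k) : Nat.card (K →* K) ≤ q ^ (k * k) := by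
  letI : Module (ZMod q) (Additive K) := AddCommGroup.zmodModule (n := q) (fun x => by
    have := h x.toMul
    exact congrArg Additive.ofMul this)
  have e1 : (K →* K) ≃ (Additive K →+ Additive K) := MonoidHom.toAdditive
  rw [Nat.card_congr e1]
  refine card_addHom_le hq (Additive K) k ?_
  rw [← hk]
  exact Nat.card_congr Additive.toMul

section

variable {L U F : Type*} [Group L] [Finite L] [AddCommGroup U] [Finite U] [Nontrivial U]
  [DistribMulAction L U] [Field F] [Finite F] [Module F U] (D : Prim L U F)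

/-- conjugation on `S / A` -/
noncomputable def conjX (x : L) : (D.S ⧸ D.A.subgroupOf D.S) →* (D.S ⧸ D.A.subgroupOf D.S) :=
  letI := D.S_normal
  QuotientGroup.map _ _ (MulAut.conjNormal x : MulAut D.S).toMonoidHom (by
    intro a ha
    rw [Subgroup.mem_comap, Subgroup.mem_subgroupOf]
    have h1 : (((MulAut.conjNormal x : MulAut D.S).toMonoidHom a : D.S) : L) = x * a * x⁻¹ := by
      exact MulAut.conjNormal_apply x a
    rw [h1]
    exact D.A_normal.conj_mem _ ha x)

theorem conjX_mk (x : L) (s : D.S) (s' : D.S) (h : (s' : L) = x * s * x⁻¹) :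
    conjX D x (s : D.S ⧸ D.A.subgroupOf D.S) = (s' : D.S ⧸ D.A.subgroupOf D.S) := by
  letI := D.S_normal
  have h1 : conjX D x (s : D.S ⧸ D.A.subgroupOf D.S) =
      (((MulAut.conjNormal x : MulAut D.S).toMonoidHom s : D.S) : D.S ⧸ D.A.subgroupOf D.S) := rfl
  rw [h1]
  congr 1
  apply Subtype.ext
  rw [h]
  exact MulAut.conjNormal_apply x s

/-- the action on the `q`-part -/
noncomputable def conjK (q : ℕ) (x : L) : K D q →* K D q :=
  ((conjX D x).comp (K D q).subtype).codRestrict (K D q) (by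
    intro y
    show (conjX D x y) ^ q = 1
    rw [← map_pow]
    have : (y : D.S ⧸ D.A.subgroupOf D.S) ^ q = 1 := y.2
    rw [this, map_one])

theorem conjK_eq {q : ℕ} {x y : L} (h : conjK D q x = conjK D q y) {s : L} (hs : s ∈ D.S) (hq : s ^ q ∈ D.A) :
    y⁻¹ * x * s * (y⁻¹ * x)⁻¹ * s⁻¹ ∈ D.A := by
  have hsK : (((⟨s, hs⟩ : D.S)) : D.S ⧸ D.A.subgroupOf D.S) ∈ K D q := by
    show (((⟨s, hs⟩ : D.S)) : D.S ⧸ D.A.subgroupOf D.S) ^ q = 1
    rw [← QuotientGroup.mk_pow, QuotientGroup.eq_one_iff, Subgroup.mem_subgroupOf]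
    exact hq
  have h1 := DFunLike.congr_fun h ⟨_, hsK⟩
  have h2 : conjX D x (((⟨s, hs⟩ : D.S)) : D.S ⧸ D.A.subgroupOf D.S) =
      conjX D y (((⟨s, hs⟩ : D.S)) : D.S ⧸ D.A.subgroupOf D.S) := congrArg Subtype.val h1
  rw [conjX_mk D x ⟨s, hs⟩ ⟨x * s * x⁻¹, D.S_normal.conj_mem s hs x⟩ rfl,
    conjX_mk D y ⟨s, hs⟩ ⟨y * s * y⁻¹, D.S_normal.conj_mem s hs y⟩ rfl, eq_comm, QuotientGroup.eq,
    Subgroup.mem_subgroupOf] at h2
  have h3 : (y * s * y⁻¹)⁻¹ * (x * s * x⁻¹) ∈ D.A := h2
  have h4 := D.A_normal.conj_mem _ h3 (s * y⁻¹)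
  have h5 : s * y⁻¹ * ((y * s * y⁻¹)⁻¹ * (x * s * x⁻¹)) * (s * y⁻¹)⁻¹ = y⁻¹ * x * s * (y⁻¹ * x)⁻¹ * s⁻¹ := by
    group
  rwa [h5] at h4

theorem mem_of_triv {Q : Finset ℕ} {m : ℕ → ℕ} (hN : D.Num Q m) {c : L} (hc : c ∈ Subgroup.centralizer (D.A : Set L))
    (h : ∀ q ∈ Q, D.Triv q c) : c ∈ D.S := by
  apply D.dual c hc
  -- the subgroup of elements centralised modulo `A`
  let T : Subgroup L :=
    { carrier := {s | c * s * c⁻¹ * s⁻¹ ∈ D.A}
      mul_mem' := by
        intro a b ha hb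
        have ha' : c * a * c⁻¹ * a⁻¹ ∈ D.A := ha
        have hb' : c * b * c⁻¹ * b⁻¹ ∈ D.A := hb
        show c * (a * b) * c⁻¹ * (a * b)⁻¹ ∈ D.A
        have h1 : c * (a * b) * c⁻¹ * (a * b)⁻¹ = c * a * c⁻¹ * a⁻¹ * (a * (c * b * c⁻¹ * b⁻¹) * a⁻¹) := by group
        rw [h1]
        exact D.A.mul_mem ha' (D.A_normal.conj_mem _ hb' a)
      one_mem' := by
        show c * 1 * c⁻¹ * 1⁻¹ ∈ D.A
        simp
      inv_mem' := by
        intro a ha
        have ha' : c * a * c⁻¹ * a⁻¹ ∈ D.A := ha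
        show c * a⁻¹ * c⁻¹ * a⁻¹⁻¹ ∈ D.A
        have h1 : c * a⁻¹ * c⁻¹ * a⁻¹⁻¹ = a⁻¹ * (c * a * c⁻¹ * a⁻¹)⁻¹ * a⁻¹⁻¹ := by group
        rw [h1]
        exact D.A_normal.conj_mem _ (D.A.inv_mem ha') a⁻¹ }
  have hAT : ∀ a ∈ D.A, a ∈ T := by
    intro a ha
    show c * a * c⁻¹ * a⁻¹ ∈ D.A
    exact D.A.mul_mem (D.A_normal.conj_mem a ha c) (D.A.inv_mem ha)
  have hmain : ∀ N : ℕ, Squarefree N → ∀ s ∈ D.S, s ^ N ∈ D.A → s ∈ T := by
    intro N
    induction N using Nat.strong_induction_on with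
    | _ N ih =>
      intro hN0 s hs hsN
      by_cases hN1 : N = 1
      · rw [hN1, pow_one] at hsN
        exact hAT s hsN
      obtain ⟨q, hq, M, rfl⟩ := Nat.exists_prime_and_dvd hN1
      have hne : q * M ≠ 0 := hN0.ne_zero
      have hM0 : 0 < M := Nat.pos_of_ne_zero (right_ne_zero_of_mul hne)
      have hqM : ¬ q ∣ M := by
        intro h
        have := hN0 q (mul_dvd_mul_left q h)
        exact hq.one_lt.ne' (Nat.isUnit_iff.1 this)
      have hcop : Nat.Coprime q M := hq.coprime_iff_not_dvd.2 hqM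
      have h1 : s ^ q ∈ T := by
        refine ih M ?_ (hN0.squarefree_of_dvd (Dvd.intro_left q rfl)) _ (D.S.pow_mem hs q) (by rwa [← pow_mul])
        nlinarith [hq.two_le]
      have h2 : s ^ M ∈ T := by
        have h3 : (s ^ M) ^ q ∈ D.A := by rw [← pow_mul, mul_comm]; exact hsN
        by_cases hqQ : q ∈ Q
        · exact h q hqQ _ (D.S.pow_mem hs M) h3
        · exact hAT _ (hN.triv q hq hqQ _ (D.S.pow_mem hs M) h3)
      have h4 := Nat.gcd_eq_gcd_ab q M
      rw [hcop.gcd_eq_one, Nat.cast_one] at h4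
      have h5 : s = (s ^ q) ^ (Nat.gcdA q M) * (s ^ M) ^ (Nat.gcdB q M) := by
        rw [← zpow_natCast s q, ← zpow_natCast s M, ← zpow_mul, ← zpow_mul, ← zpow_add, ← h4, zpow_one]
      rw [h5]
      exact T.mul_mem (T.zpow_mem h1 _) (T.zpow_mem h2 _)
  intro s hs
  obtain ⟨N, hN, hsN⟩ := D.prime_exp s hs
  exact hmain N hN s hs hsN

end

theorem relIndexLe : RelIndexLe.{u} := by
  intro L U F _ _ _ _ _ _ _ _ _ D Q m hN E hE I hI htriv
  classical
  have hKc : ∀ q ∈ I, Nat.card (K D q) = q ^ (2 * m q) := by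
    intro q hq
    rw [← relIndex_W]
    exact hN.card_part q (hI hq) _ fun s => mem_W D
  have hprime : ∀ q ∈ I, q.Prime := fun q hq => hN.prime q (hI hq)
  have hle : ∀ q ∈ I, Nat.card (K D q →* K D q) ≤ q ^ (4 * m q ^ 2) := by
    intro q hq
    have h1 := (card_hom_le (hprime q hq) (K D q) (fun x => Subtype.ext x.2) (2 * m q) (hKc q hq))
    refine h1.trans (le_of_eq ?_)
    congr 1
    ring
  have hfin : ∀ q : ℕ, Finite (K D q →* K D q) := fun q => DFunLike.finite _
  let f : E ⧸ D.S.subgroupOf E → ∀ q : I, (K D q →* K D q) := fun x q => conjK D q (x.out : E)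
  have hf : Function.Injective f := by
    intro x y hxy
    have h1 : ((y.out : E) : L)⁻¹ * ((x.out : E) : L) ∈ D.S := by
      refine mem_of_triv D hN (hE (E.mul_mem (E.inv_mem y.out.2) x.out.2)) ?_
      intro q hq
      by_cases hqI : q ∈ I
      · intro s hs hsq
        exact conjK_eq D (congrFun hxy ⟨q, hqI⟩) hs hsq
      · exact htriv q hq hqI _ (E.mul_mem (E.inv_mem y.out.2) x.out.2)
    rw [← QuotientGroup.out_eq' x, ← QuotientGroup.out_eq' y, eq_comm, QuotientGroup.eq, Subgroup.mem_subgroupOf]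
    exact h1
  have h2 : D.S.relIndex E = Nat.card (E ⧸ D.S.subgroupOf E) := rfl
  rw [h2]
  refine (Nat.card_le_card_of_injective f hf).trans ?_
  rw [Nat.card_pi, ← Finset.prod_coe_sort I (fun q => q ^ (4 * m q ^ 2))]
  exact Finset.prod_le_prod' fun q _ => hle q q.2

end Cfsg.Agent.H822.Cls
end

-- part: H308/ClsSet
section
prune_inst 0xf5205d4175e0020000040512d00060a52500019000608400fda407460b0f5320890021004e801c03182aa2800005002002dc0060c000000000000000000105219028460433740d0c06009f803083180c00000000000000000000000000051004200000000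
set_option linter.all false
open scoped Cfsg.Agent.FastGrp

/-!
# S4148, T6: a set stabilised by no element of prime order `p ≥ 5`

`setLemma`: solvable primitive groups.
-/

set_option autoImplicit false

namespace Cfsg.Agent.H308.ClsSet

open scoped Pointwise commutatorElement
open Cfsg.Agent.H822.Cls MulAction

universe u

/-- A finite group whose order has no prime divisor `< q` is generated by `k` elements with
`q ^ k ≤ |N|`. -/
theorem exists_gen {N : Type*} [Group N] [Finite N] (q : ℕ)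
    (hq : ∀ p : ℕ, p.Prime → p ∣ Nat.card N → q ≤ p) :
    ∃ S : Finset N, Subgroup.closure (S : Set N) = ⊤ ∧ q ^ S.card ≤ Nat.card N := by
  classical
  have := Fintype.ofFinite N
  obtain ⟨S, hS, hmax⟩ := Finset.exists_max_image
    ((Finset.univ : Finset (Finset N)).filter
      fun S : Finset N => q ^ S.card ≤ Nat.card (Subgroup.closure (S : Set N)))
    (fun S : Finset N => Nat.card (Subgroup.closure (S : Set N)))
    ⟨∅, by simp only [_root_.Nat.card_eq_fintype_card, _root_.Finset.mem_filter, _root_.Finset.mem_univ, _root_.Finset.card_empty, _root_.pow_zero, _root_.Finset.coe_empty, _root_.Subgroup.closure_empty, _root_.Subgroup.mem_bot, _root_.Fintype.card_unique, _root_.Std.le_refl, _root_.and_self]⟩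
  rw [Finset.mem_filter] at hS
  refine ⟨S, ?_, hS.2.trans ?_⟩
  · by_contra hne
    obtain ⟨x, hx⟩ : ∃ x, x ∉ Subgroup.closure (S : Set N) := by
      by_contra h
      push Not at h
      exact hne (Subgroup.eq_top_iff' _ |>.2 h)
    have hxS : x ∉ S := fun h => hx (Subgroup.subset_closure h)
    have hlt : Subgroup.closure (S : Set N) < Subgroup.closure ((insert x S : Finset N) : Set N) := by
      refine lt_of_le_of_ne (Subgroup.closure_mono (by simp)) fun h => hx ?_
      rw [h]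
      exact Subgroup.subset_closure (by simp)
    set H := Subgroup.closure (S : Set N) with hH
    set K := Subgroup.closure ((insert x S : Finset N) : Set N) with hK
    have h1 : Nat.card H * H.relIndex K = Nat.card K := by
      rw [← Nat.card_congr (Subgroup.subgroupOfEquivOfLe hlt.le).toEquiv]
      exact (H.subgroupOf K).card_mul_index
    have h2 : H.relIndex K ≠ 1 := fun h => hlt.not_ge (Subgroup.relIndex_eq_one.1 h)
    have h3 : q ≤ H.relIndex K := by
      have h4 := Nat.minFac_prime h2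
      have h5 : (H.relIndex K).minFac ∣ Nat.card N :=
        (Nat.minFac_dvd _).trans ((Dvd.intro_left _ h1).trans K.card_subgroup_dvd_card)
      have h0 : 0 < H.relIndex K := Nat.pos_of_ne_zero (fun h0 => by
        rw [h0, mul_zero] at h1
        exact Nat.card_pos.ne h1)
      exact (hq _ h4 h5).trans (Nat.minFac_le h0)
    have h6 : q ^ (insert x S).card ≤ Nat.card K := by
      rw [Finset.card_insert_of_notMem hxS, pow_succ, ← h1]
      exact Nat.mul_le_mul hS.2 h3
    have h7 := hmax (insert x S) (by rw [Finset.mem_filter]; exact ⟨Finset.mem_univ _, h6⟩)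
    have h8 : Nat.card K ≤ Nat.card H := h7
    exact hlt.ne (Subgroup.eq_of_le_of_card_ge hlt.le h8)
  · exact Subgroup.card_le_card_group _

section

variable {G Ω : Type*} [Group G] [Finite G] [Finite Ω] [Nontrivial Ω] [MulAction G Ω]
  [FaithfulSMul G Ω]

omit [Finite G] [Finite Ω] in
/-- A solvable primitive group has an abelian transitive normal subgroup. -/
theorem exists_normal [Group.IsSolvable G] [IsPreprimitive G Ω] :
    ∃ N : Subgroup G, N.Normal ∧ (∀ x ∈ N, ∀ y ∈ N, x * y = y * x) ∧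
      ∀ a b : Ω, ∃ x ∈ N, x • a = b := by
  have hnt : Nontrivial G := by
    obtain ⟨a, b, hab⟩ := exists_pair_ne Ω
    obtain ⟨g, hg⟩ := exists_smul_eq G a b
    refine ⟨⟨g, 1, ?_⟩⟩
    rintro rfl
    rw [one_smul] at hg
    exact hab hg
  -- last nontrivial term of the derived series
  obtain ⟨n, hn⟩ := (inferInstance : Group.IsSolvable G).solvable
  classical
  have hex : ∃ n, derivedSeries G n = ⊥ := ⟨n, hn⟩
  have h1 := Nat.find_spec hex
  have h2 : Nat.find hex ≠ 0 := by
    intro h0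
    rw [h0, derivedSeries_zero] at h1
    exact top_ne_bot h1
  obtain ⟨m, hm⟩ := Nat.exists_eq_succ_of_ne_zero h2
  have h3 : derivedSeries G m ≠ ⊥ := Nat.find_min hex (by omega)
  rw [hm, Nat.succ_eq_add_one, derivedSeries_succ, Subgroup.commutator_eq_bot_iff_le_centralizer] at h1
  have hnorm : (derivedSeries G m).Normal := derivedSeries_normal G m
  refine ⟨derivedSeries G m, hnorm, fun x hx y hy => ?_, ?_⟩
  · exact (Subgroup.mem_centralizer_iff.1 (h1 hx) y hy).symm
  · have h4 : fixedPoints (derivedSeries G m) Ω ≠ Set.univ := by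
      intro h
      apply h3
      rw [eq_bot_iff]
      intro x hx
      rw [Subgroup.mem_bot]
      apply FaithfulSMul.eq_of_smul_eq_smul (α := Ω)
      intro a
      have : a ∈ fixedPoints (derivedSeries G m) Ω := by rw [h]; trivial
      rw [one_smul]
      exact this ⟨x, hx⟩
    have h5 : IsPretransitive (derivedSeries G m) Ω :=
      IsQuasiPreprimitive.isPretransitive_of_normal h4
    intro a b
    obtain ⟨x, hx⟩ := exists_smul_eq (derivedSeries G m) a b
    exact ⟨x, x.2, hx⟩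

/-- The setting: an abelian transitive normal subgroup of a faithful group. -/
structure Reg (N : Subgroup G) : Prop where
  normal : N.Normal
  comm : ∀ x ∈ N, ∀ y ∈ N, x * y = y * x
  trans : ∀ a b : Ω, ∃ x ∈ N, x • a = b

variable {N : Subgroup G} (R : Reg (Ω := Ω) N)
include R

omit [Finite G] [Finite Ω] [Nontrivial Ω] in
theorem Reg.free {x : G} (hx : x ∈ N) {a : Ω} (h : x • a = a) : x = 1 := by
  apply FaithfulSMul.eq_of_smul_eq_smul (α := Ω)
  intro b
  obtain ⟨y, hy, rfl⟩ := R.trans a b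
  rw [one_smul, ← mul_smul, R.comm x hx y hy, mul_smul, h]

omit [Finite G] [Finite Ω] [Nontrivial Ω] in
theorem Reg.inj {x y : G} (hx : x ∈ N) (hy : y ∈ N) {a : Ω} (h : x • a = y • a) : x = y := by
  have h1 : (y⁻¹ * x) • a = a := by rw [mul_smul, h, inv_smul_smul]
  have := R.free (N.mul_mem (N.inv_mem hy) hx) h1
  exact (inv_mul_eq_one.1 this).symm

omit [Finite G] [Finite Ω] in
theorem Reg.card : Nat.card N = Nat.card Ω := by
  obtain ⟨a, -⟩ := exists_pair_ne Ω
  refine Nat.card_congr (Equiv.ofBijective (fun x : N => (x : G) • a) ⟨fun x y h => ?_, fun b => ?_⟩)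
  · exact Subtype.ext (R.inj x.2 y.2 h)
  · obtain ⟨x, hx, h⟩ := R.trans a b
    exact ⟨⟨x, hx⟩, h⟩

omit [Finite G] [Finite Ω] [Nontrivial Ω] in
/-- If `g` fixes `a` and `x • a`, then it commutes with `x`. -/
theorem Reg.comm_of_fix {g x : G} (hx : x ∈ N) {a : Ω} (ha : g • a = a) (hxa : g • x • a = x • a) :
    g * x = x * g := by
  have h1 : g * x * g⁻¹ ∈ N := R.normal.conj_mem x hx g
  have h2 : (g * x * g⁻¹) • a = x • a := by
    rw [mul_smul, mul_smul, inv_smul_eq_iff.2 ha.symm, hxa]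
  have h3 := R.inj h1 hx h2
  calc g * x = g * x * g⁻¹ * g := by group
    _ = x * g := by rw [h3]

omit [Finite Ω] in
/-- A base with few points. -/
theorem Reg.exists_base (q : ℕ) (hq : ∀ p : ℕ, p.Prime → p ∣ Nat.card Ω → q ≤ p) :
    ∃ (B : Finset Ω) (k : ℕ), B.Nonempty ∧ B.card ≤ k + 1 ∧ q ^ k ≤ Nat.card Ω ∧
      ∀ g : G, (∀ b ∈ B, g • b = b) → g = 1 := by
  classical
  rw [← R.card] at hq ⊢
  obtain ⟨S, hS, hc⟩ := exists_gen q hq
  obtain ⟨a, -⟩ := exists_pair_ne Ω
  refine ⟨insert a (S.image fun x : N => (x : G) • a), S.card, ⟨a, by simp only [_root_.Finset.mem_insert, _root_.Finset.mem_image, _root_.Subtype.exists, _root_.exists_and_right, _root_.true_or]⟩, ?_, hc, ?_⟩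
  · exact (Finset.card_insert_le _ _).trans (Nat.add_le_add_right Finset.card_image_le 1)
  · intro g hg
    have ha : g • a = a := hg a (by simp only [_root_.Finset.mem_insert, _root_.Finset.mem_image, _root_.Subtype.exists, _root_.exists_and_right, _root_.true_or])
    have hall : ∀ x : N, g * x = x * g := by
      have hle : (⊤ : Subgroup N) ≤ (Subgroup.centralizer ({g} : Set G)).subgroupOf N := by
        rw [← hS, Subgroup.closure_le]
        intro x hx
        rw [SetLike.mem_coe, Subgroup.mem_subgroupOf, Subgroup.mem_centralizer_singleton_iff]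
        refine (R.comm_of_fix x.2 ha (hg _ ?_)).symm
        exact Finset.mem_insert_of_mem (Finset.mem_image_of_mem _ hx)
      intro x
      have := hle (Subgroup.mem_top x)
      rw [Subgroup.mem_subgroupOf, Subgroup.mem_centralizer_singleton_iff] at this
      exact this.symm
    apply FaithfulSMul.eq_of_smul_eq_smul (α := Ω)
    intro b
    obtain ⟨x, hx, rfl⟩ := R.trans a b
    rw [one_smul, ← mul_smul, hall ⟨x, hx⟩, mul_smul, ha]

omit [Finite G] in
/-- The number of fixed points of an element of prime order `p` prime to the degree. -/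
theorem Reg.card_fixed {g : G} {p : ℕ} (hp : p.Prime) (hg : orderOf g = p)
    (hn : ¬ p ∣ Nat.card Ω) : (p + 1) * Nat.card (fixedBy Ω g) ≤ Nat.card Ω := by
  have : Fact p.Prime := ⟨hp⟩
  have hP : IsPGroup p (Subgroup.zpowers g) := IsPGroup.of_card (n := 1) (by
    rw [Nat.card_zpowers, hg, pow_one])
  have hfix : ∀ a : Ω, a ∈ fixedPoints (Subgroup.zpowers g) Ω ↔ g • a = a := by
    intro a
    constructor
    · intro h
      exact h ⟨g, Subgroup.mem_zpowers g⟩
    · rintro h ⟨x, k, rfl⟩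
      have h1 : g ∈ stabilizer G a := h
      exact (stabilizer G a).zpow_mem h1 k
  obtain ⟨a, ha⟩ := hP.nonempty_fixed_point_of_prime_not_dvd_card Ω hn
  rw [hfix] at ha
  -- the fixed points correspond to the centralizer in `N`
  have h1 : Nat.card (fixedBy Ω g) = Nat.card (N ⊓ Subgroup.centralizer ({g} : Set G) : Subgroup G) := by
    refine (Nat.card_congr (Equiv.ofBijective
      (fun x : (N ⊓ Subgroup.centralizer ({g} : Set G) : Subgroup G) =>
        (⟨(x : G) • a, ?_⟩ : fixedBy Ω g)) ⟨fun x y h => ?_, fun b => ?_⟩)).symm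
    · rw [mem_fixedBy, ← mul_smul]
      have := Subgroup.mem_centralizer_singleton_iff.1 x.2.2
      rw [← this, mul_smul, ha]
    · exact Subtype.ext (R.inj x.2.1 y.2.1 (congrArg Subtype.val h))
    · obtain ⟨x, hx, h⟩ := R.trans a b
      refine ⟨⟨x, hx, Subgroup.mem_centralizer_singleton_iff.2 ?_⟩, Subtype.ext h⟩
      exact (R.comm_of_fix hx ha (by rw [h]; exact b.2)).symm
  have h2 : Nat.card (fixedBy Ω g) ∣ Nat.card Ω := by
    rw [h1, ← R.card]
    exact Subgroup.card_dvd_of_le inf_le_left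
  obtain ⟨m, hm⟩ := h2
  have h3 : Nat.card Ω ≡ Nat.card (fixedBy Ω g) [MOD p] := by
    have h4 := hP.card_modEq_card_fixedPoints Ω
    have h5 : Nat.card (fixedPoints (Subgroup.zpowers g) Ω) = Nat.card (fixedBy Ω g) :=
      Nat.card_congr (Equiv.subtypeEquivRight hfix)
    rwa [h5] at h4
  have hpf : ¬ p ∣ Nat.card (fixedBy Ω g) := fun h => hn (by rw [hm]; exact Dvd.dvd.mul_right h m)
  have h6 : m ≡ 1 [MOD p] := by
    have h7 : Nat.card (fixedBy Ω g) * m ≡ Nat.card (fixedBy Ω g) * 1 [MOD p] := by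
      rw [← hm, mul_one]; exact h3
    exact Nat.ModEq.cancel_left_of_coprime ((Nat.Prime.coprime_iff_not_dvd hp).2 hpf) h7
  have h8 : m ≠ 1 := by
    rintro rfl
    rw [mul_one] at hm
    have h9 : fixedBy Ω g = Set.univ := by
      rw [Set.eq_univ_iff_ncard, ← Nat.card_coe_set_eq]
      exact hm.symm
    have h10 : g = 1 := by
      apply FaithfulSMul.eq_of_smul_eq_smul (α := Ω)
      intro b
      have : b ∈ fixedBy Ω g := by rw [h9]; trivial
      rw [one_smul]
      exact this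
    rw [h10, orderOf_one] at hg
    exact hp.one_lt.ne hg
  have h0 : m ≠ 0 := by
    rintro rfl
    rw [mul_zero] at hm
    exact Nat.card_pos.ne' hm
  have h11 : p + 1 ≤ m := by
    have h12 : p ∣ m - 1 := (Nat.modEq_iff_dvd' (by omega)).1 h6.symm
    have := Nat.le_of_dvd (by omega) h12
    omega
  rw [hm, mul_comm]
  exact Nat.mul_le_mul_left _ h11

/-- An element of prime order `p ≥ 5` has at most `n / 3` cycles. -/
theorem Reg.card_orbits {g : G} {p : ℕ} (hp : p.Prime) (h5 : 5 ≤ p) (hg : orderOf g = p)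
    (hn : ¬ p ∣ Nat.card Ω) :
    3 * Nat.card (orbitRel.Quotient (Subgroup.zpowers g) Ω) ≤ Nat.card Ω := by
  classical
  have := Fintype.ofFinite Ω
  have := Fintype.ofFinite G
  have h1 := sum_card_fixedBy_eq_card_orbits_mul_card_group (Subgroup.zpowers g) Ω
  set k := Nat.card (orbitRel.Quotient (Subgroup.zpowers g) Ω) with hk
  have hkc : Fintype.card (orbitRel.Quotient (Subgroup.zpowers g) Ω) = k := by
    rw [hk, Nat.card_eq_fintype_card]
  have hpc : Fintype.card (Subgroup.zpowers g) = p := by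
    rw [← Nat.card_eq_fintype_card, Nat.card_zpowers, hg]
  rw [hpc] at h1
  set n := Nat.card Ω with hn'
  have h2 : ∀ x : Subgroup.zpowers g, x ≠ 1 →
      (p + 1) * Fintype.card (fixedBy Ω x) ≤ n := by
    intro x hx
    have h3 : orderOf (x : G) = p := by
      have h4 : orderOf (x : G) ∣ p := by
        rw [Subgroup.orderOf_coe, ← hpc, ← Nat.card_eq_fintype_card]
        exact orderOf_dvd_natCard x
      rcases (Nat.dvd_prime hp).1 h4 with h5 | h5
      · exfalso
        apply hx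
        rw [orderOf_eq_one_iff] at h5
        exact Subtype.ext h5
      · exact h5
    have h4 := R.card_fixed hp h3 hn
    rw [← Nat.card_eq_fintype_card]
    exact h4
  have h3 : (p + 1) * ∑ x : Subgroup.zpowers g, Fintype.card (fixedBy Ω x) ≤
      (p + 1) * n + (p - 1) * n := by
    rw [Finset.mul_sum, ← Finset.add_sum_erase _ _ (Finset.mem_univ (1 : Subgroup.zpowers g))]
    apply Nat.add_le_add
    · apply Nat.mul_le_mul_left
      rw [hn', Nat.card_eq_fintype_card]
      exact set_fintype_card_le_univ _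
    · refine (Finset.sum_le_card_nsmul _ _ n fun x hx => ?_).trans ?_
      · exact h2 x (Finset.ne_of_mem_erase hx)
      · rw [Finset.card_erase_of_mem (Finset.mem_univ _), Finset.card_univ, hpc, smul_eq_mul]
  have h4 : (p + 1) * (k * p) ≤ 2 * p * n := by
    have h5 : (∑ x : Subgroup.zpowers g, Fintype.card (fixedBy Ω x)) = k * p := by
      rw [h1, hkc]
    rw [h5] at h3
    refine h3.trans (le_of_eq ?_)
    obtain ⟨p', rfl⟩ : ∃ p', p = p' + 1 := ⟨p - 1, by omega⟩
    simp only [Nat.add_sub_cancel]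
    ring
  have h5 : (p + 1) * k ≤ 2 * n := by
    have h6 : ((p + 1) * k) * p ≤ (2 * n) * p := by
      calc ((p + 1) * k) * p = (p + 1) * (k * p) := by ring
        _ ≤ 2 * p * n := h4
        _ = _ := by ring
    exact Nat.le_of_mul_le_mul_right h6 (by omega)
  have h6 : 6 * k ≤ (p + 1) * k := Nat.mul_le_mul_right _ (by omega)
  omega

end

/-- The number of subsets stabilised by `g`. -/
theorem card_stab_le {G Ω : Type*} [Group G] [MulAction G Ω] [Finite Ω] (g : G) :
    Nat.card {Γ : Set Ω // g • Γ = Γ} ≤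
      2 ^ Nat.card (orbitRel.Quotient (Subgroup.zpowers g) Ω) := by
  classical
  have h1 : Nat.card (Set (orbitRel.Quotient (Subgroup.zpowers g) Ω)) =
      2 ^ Nat.card (orbitRel.Quotient (Subgroup.zpowers g) Ω) := by
    have := Fintype.ofFinite (orbitRel.Quotient (Subgroup.zpowers g) Ω)
    rw [Nat.card_eq_fintype_card, Nat.card_eq_fintype_card, Fintype.card_set]
  rw [← h1]
  refine Nat.card_le_card_of_injective
    (fun Γ : {Γ : Set Ω // g • Γ = Γ} => (Quotient.mk'' '' Γ.1 : Set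
      (orbitRel.Quotient (Subgroup.zpowers g) Ω))) ?_
  have key : ∀ Γ : Set Ω, g • Γ = Γ → ∀ a : Ω,
      (Quotient.mk'' a : orbitRel.Quotient (Subgroup.zpowers g) Ω) ∈
        (Quotient.mk'' '' Γ : Set (orbitRel.Quotient (Subgroup.zpowers g) Ω)) → a ∈ Γ := by
    rintro Γ hΓ a ⟨b, hb, hab⟩
    have h2 : (orbitRel (Subgroup.zpowers g) Ω) b a := Quotient.exact' hab
    rw [orbitRel_apply] at h2
    obtain ⟨⟨x, hx⟩, hxa⟩ := h2
    have h3 : g ∈ stabilizer G Γ := hΓ
    have h4 : x ∈ stabilizer G Γ := by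
      obtain ⟨k, rfl⟩ := hx
      exact (stabilizer G Γ).zpow_mem h3 k
    have h5 : x • a = b := hxa
    have h6 : x⁻¹ • Γ = Γ := (stabilizer G Γ).inv_mem h4
    rw [← h6, Set.mem_inv_smul_set_iff, h5]
    exact hb
  intro Γ Γ' h
  apply Subtype.ext
  ext a
  have h' : (Quotient.mk'' '' Γ.1 : Set (orbitRel.Quotient (Subgroup.zpowers g) Ω)) =
    Quotient.mk'' '' Γ'.1 := h
  constructor
  · intro ha
    exact key Γ'.1 Γ'.2 a (h' ▸ Set.mem_image_of_mem _ ha)
  · intro ha
    exact key Γ.1 Γ.2 a (h' ▸ Set.mem_image_of_mem _ ha)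

theorem num_small {n : ℕ} (h1 : 64 ≤ n) (h2 : n < 128) : n ^ 21 < 4 ^ n := by
  interval_cases n <;> norm_num

theorem num_log {L : ℕ} (hL : 7 ≤ L) : 3 * (L + 1) ^ 2 ≤ 2 * 2 ^ L := by
  induction L, hL using Nat.le_induction with
  | base => norm_num
  | succ L hL ih =>
    rw [pow_succ 2 L]
    nlinarith

theorem num_big {n k : ℕ} (hn : 64 ≤ n) (hk : 2 ^ k ≤ n) : n ^ (k + 1) * 2 ^ (n / 3) < 2 ^ n := by
  have h1 : n ^ (3 * (k + 1)) < 4 ^ n := by
    by_cases h : n < 128
    · have h2 : k ≤ 6 := by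
        by_contra h3
        have : 2 ^ 7 ≤ 2 ^ k := Nat.pow_le_pow_right (by norm_num) (by omega)
        omega
      refine (Nat.pow_le_pow_right (by omega) (?_ : 3 * (k + 1) ≤ 21)).trans_lt (num_small hn h)
      omega
    · set L := Nat.log 2 n with hL
      have hL1 : 2 ^ L ≤ n := Nat.pow_log_le_self 2 (by omega)
      have hL2 : n < 2 ^ (L + 1) := Nat.lt_pow_succ_log_self (by norm_num) n
      have h7 : 7 ≤ L := by
        by_contra h3
        have : 2 ^ (L + 1) ≤ 2 ^ 7 := Nat.pow_le_pow_right (by norm_num) (by omega)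
        omega
      have hkL : k ≤ L := by
        rw [hL]
        exact Nat.le_log_of_pow_le (by norm_num) hk
      calc n ^ (3 * (k + 1)) ≤ n ^ (3 * (L + 1)) := Nat.pow_le_pow_right (by omega) (by omega)
        _ < (2 ^ (L + 1)) ^ (3 * (L + 1)) := Nat.pow_lt_pow_left hL2 (by omega)
        _ = 2 ^ (3 * (L + 1) ^ 2) := by rw [← pow_mul]; congr 1; ring
        _ ≤ 2 ^ (2 * 2 ^ L) := Nat.pow_le_pow_right (by norm_num) (num_log h7)
        _ ≤ 2 ^ (2 * n) := Nat.pow_le_pow_right (by norm_num) (by omega)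
        _ = 4 ^ n := by rw [pow_mul]; norm_num
  have h2 : (n ^ (k + 1) * 2 ^ (n / 3)) ^ 3 < (2 ^ n) ^ 3 := by
    calc (n ^ (k + 1) * 2 ^ (n / 3)) ^ 3 = n ^ (3 * (k + 1)) * 2 ^ (3 * (n / 3)) := by
          rw [mul_pow, ← pow_mul, ← pow_mul, mul_comm (k + 1) 3, mul_comm (n / 3) 3]
      _ < 4 ^ n * 2 ^ (3 * (n / 3)) := Nat.mul_lt_mul_of_pos_right h1 (by positivity)
      _ ≤ 4 ^ n * 2 ^ n := Nat.mul_le_mul_left _ (Nat.pow_le_pow_right (by norm_num) (by omega))
      _ = (2 ^ n) ^ 3 := by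
          rw [show (4 : ℕ) = 2 ^ 2 by norm_num, ← pow_mul, ← pow_mul, ← pow_add]
          congr 1; ring
  exact lt_of_pow_lt_pow_left₀ 3 (by positivity) h2

/-- An element of order `p` preserving a set of fewer than `p` points fixes them. -/
theorem fix_of_small {G Ω : Type*} [Group G] [MulAction G Ω] {p : ℕ} (hp : p.Prime) {g : G}
    (hg : g ^ p = 1) (Δ : Finset Ω) (hΔ : ∀ T ∈ Δ, g • T ∈ Δ) (hc : Δ.card < p) {T : Ω}
    (hT : T ∈ Δ) : g • T = T := by
  have h1 : ∀ i : ℕ, g ^ i • T ∈ Δ := by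
    intro i
    induction i with
    | zero => rw [pow_zero, one_smul]; exact hT
    | succ i ih => rw [pow_succ', mul_smul]; exact hΔ _ ih
  obtain ⟨i, hi, j, hj, hij, he⟩ := Finset.exists_ne_map_eq_of_card_lt_of_maps_to
    (s := Finset.range p) (t := Δ) (by rwa [Finset.card_range]) (f := fun i => g ^ i • T)
    (fun i _ => h1 i)
  rw [Finset.mem_range] at hi hj
  wlog hlt : i < j generalizing i j
  · exact this j hj i hi hij.symm he.symm (by omega)
  have h2 : g ^ (j - i) • T = T := by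
    have he' : g ^ i • T = g ^ j • T := he
    have h3 : g ^ j = g ^ i * g ^ (j - i) := by rw [← pow_add]; congr 1; omega
    rw [h3, mul_smul] at he'
    exact (smul_left_cancel _ he').symm
  have h3 : (j - i).Coprime p := by
    rw [Nat.coprime_comm, Nat.Prime.coprime_iff_not_dvd hp]
    intro h
    have := Nat.le_of_dvd (by omega) h
    omega
  have h4 : g ^ (j - i) ∈ stabilizer G T := h2
  have h5 : g ^ ((j - i : ℕ) : ℤ) ∈ stabilizer G T := by rw [zpow_natCast]; exact h4
  have h6 := Nat.gcd_eq_gcd_ab (j - i) p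
  rw [h3.gcd_eq_one] at h6
  have h7 : g = (g ^ ((j - i : ℕ) : ℤ)) ^ (Nat.gcdA (j - i) p) := by
    calc g = g ^ (1 : ℤ) := (zpow_one g).symm
      _ = g ^ (((j - i : ℕ) : ℤ) * Nat.gcdA (j - i) p + (p : ℤ) * Nat.gcdB (j - i) p) := by
          rw [← h6]; rfl
      _ = _ := by
          rw [zpow_add, zpow_mul, zpow_mul, zpow_natCast g p, hg, one_zpow, mul_one]
  have h8 : g ∈ stabilizer G T := by
    rw [h7]
    exact (stabilizer G T).zpow_mem h5 _
  exact h8

theorem setLemma : SetLemma.{u} := by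
  intro G Ω _ _ _ _ _ _ _ hprim T hT h5T
  classical
  have : IsPreprimitive G Ω := hprim
  obtain ⟨N, hN1, hN2, hN3⟩ := exists_normal (G := G) (Ω := Ω)
  have R : Reg (Ω := Ω) N := ⟨hN1, hN2, hN3⟩
  -- the case of a small base
  have small : ∀ (B : Finset Ω), B.Nonempty → (∀ g : G, (∀ b ∈ B, g • b = b) → g = 1) →
      (∀ p ∈ T, B.card < p) → ∃ Γ : Set Ω, Γ.Nonempty ∧ ∀ g : G, ∀ p ∈ T, orderOf g = p →
        g • Γ ≠ Γ := by
    intro B hB hb hc
    refine ⟨(B : Set Ω), hB, fun g p hp hg h => ?_⟩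
    have hpp := (hT p hp).1
    have h1 : g = 1 := hb g fun b hb' =>
      fix_of_small hpp (by rw [← hg]; exact pow_orderOf_eq_one g) B (fun x hx => by
        have : g • x ∈ g • (B : Set Ω) := Set.smul_mem_smul_set hx
        rw [h] at this
        exact this) (hc p hp) hb'
    rw [h1, orderOf_one] at hg
    exact hpp.one_lt.ne hg
  by_cases hn : 64 ≤ Nat.card Ω
  · by_contra hcon
    push Not at hcon
    have hall : ∀ Γ : Set Ω, ∃ g : G, orderOf g ∈ T ∧ g • Γ = Γ := by
      intro Γ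
      rcases Γ.eq_empty_or_nonempty with rfl | hΓ
      · obtain ⟨g, p, hp, hg, -⟩ := hcon Set.univ Set.univ_nonempty
        exact ⟨g, by rw [hg]; exact hp, Set.smul_set_empty⟩
      · obtain ⟨g, p, hp, hg, h⟩ := hcon Γ hΓ
        exact ⟨g, by rw [hg]; exact hp, h⟩
    choose f hf1 hf2 using hall
    obtain ⟨B, k, -, hBk, hk, hB⟩ := R.exists_base 2 (fun p hp _ => hp.two_le)
    have hG : Nat.card G ≤ Nat.card Ω ^ (k + 1) := by
      have h1 : Nat.card G ≤ Nat.card (B → Ω) := by
        refine Nat.card_le_card_of_injective (fun g : G => fun b : B => g • (b : Ω)) ?_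
        intro g h hgh
        have h2 : h⁻¹ * g = 1 := hB _ fun b hb => by
          have := congrFun hgh ⟨b, hb⟩
          rw [mul_smul, inv_smul_eq_iff]
          exact this
        exact (inv_mul_eq_one.1 h2).symm
      rw [Nat.card_fun, Nat.card_eq_fintype_card (α := B), Fintype.card_coe] at h1
      exact h1.trans (Nat.pow_le_pow_right Nat.card_pos hBk)
    have hcount : 2 ^ Nat.card Ω ≤ Nat.card G * 2 ^ (Nat.card Ω / 3) := by
      have := Fintype.ofFinite Ω
      have := Fintype.ofFinite G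
      have h1 : Nat.card (Set Ω) = 2 ^ Nat.card Ω := by
        rw [Nat.card_eq_fintype_card, Nat.card_eq_fintype_card, Fintype.card_set]
      rw [← h1]
      have h2 : Nat.card (Set Ω) ≤
          Nat.card (Σ g : {g : G // orderOf g ∈ T}, {Γ : Set Ω // (g : G) • Γ = Γ}) := by
        refine Nat.card_le_card_of_injective
          (fun Γ : Set Ω => (⟨⟨f Γ, hf1 Γ⟩, ⟨Γ, hf2 Γ⟩⟩ :
            Σ g : {g : G // orderOf g ∈ T}, {Γ : Set Ω // (g : G) • Γ = Γ})) ?_
        intro Γ Γ' h
        have h3 := congrArg (fun x : (Σ g : {g : G // orderOf g ∈ T},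
          {Γ : Set Ω // (g : G) • Γ = Γ}) => (x.2 : Set Ω)) h
        exact h3
      refine h2.trans ?_
      rw [Nat.card_sigma]
      refine (Finset.sum_le_card_nsmul _ _ (2 ^ (Nat.card Ω / 3)) fun g _ => ?_).trans ?_
      · refine (card_stab_le (g : G)).trans (Nat.pow_le_pow_right (by norm_num) ?_)
        have hg := hT _ g.2
        have := R.card_orbits hg.1 hg.2.1 rfl hg.2.2
        omega
      · rw [smul_eq_mul]
        refine Nat.mul_le_mul_right _ ?_
        rw [Finset.card_univ, Nat.card_eq_fintype_card]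
        exact Fintype.card_subtype_le _
    have := num_big hn hk
    have h9 := Nat.mul_le_mul_right (2 ^ (Nat.card Ω / 3)) hG
    omega
  · by_cases h5 : 5 ∈ T
    · have hn7 : ∀ p : ℕ, p.Prime → p ∣ Nat.card Ω → 7 ≤ p := by
        intro p hp hpn
        by_contra h7
        have h1 := h5T h5
        have h2 := (hT 5 h5).2.2
        have h3 := hp.two_le
        interval_cases p
        · exact h1.1 hpn
        · exact h1.2 hpn
        · norm_num at hp
        · exact h2 hpn
        · norm_num at hp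
      obtain ⟨B, k, hBne, hBk, hk, hB⟩ := R.exists_base 7 hn7
      refine small B hBne hB fun p hp => ?_
      have h1 := (hT p hp).2.1
      have h2 : k ≤ 2 := by
        by_contra h3
        have : 7 ^ 3 ≤ 7 ^ k := Nat.pow_le_pow_right (by norm_num) (by omega)
        omega
      omega
    · obtain ⟨B, k, hBne, hBk, hk, hB⟩ := R.exists_base 2 (fun p hp _ => hp.two_le)
      refine small B hBne hB fun p hp => ?_
      have h1 := (hT p hp).2.1
      have h2 : k ≤ 5 := by
        by_contra h3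
        have : 2 ^ 6 ≤ 2 ^ k := Nat.pow_le_pow_right (by norm_num) (by omega)
        omega
      have h3 : p ≠ 5 := fun h => h5 (h ▸ hp)
      have h4 : p ≠ 6 := fun h => by
        have := (hT p hp).1
        rw [h] at this
        norm_num at this
      omega

end Cfsg.Agent.H308.ClsSet
end

-- part: H822/Cls/Plug
section
prune_inst 0x350049016540000000040010800040a125000190000000000824044001094040000000000e800002102a000000010028124400008000000000000000000004011000000400000100000006000000000000000000000000000000000000000004200000000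
set_option linter.all false
open scoped Cfsg.Agent.FastGrp

-- part: H822/Cls/PrimMain
section
/-!
# The primitive step from its parts
-/

set_option autoImplicit false
set_option linter.unusedSectionVars false

namespace Cfsg.Agent.H822.Cls

open scoped Pointwise commutatorElement

universe u

/-- construction of the primitive data -/
def ExistsPrim : Prop := ∀ (L U : Type u) [Group L] [Finite L] [Group.IsSolvable L] [AddCommGroup U] [Finite U]
    [Nontrivial U] [DistribMulAction L U] (r : ℕ), r.Prime → (∀ u : U, r • u = 0) →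
    (∀ g : L, (∀ u : U, g • u = u) → g = 1) → Irr L U → ¬ Imprim L U →
    ∃ (F : Type u) (_ : Field F) (_ : Finite F) (_ : Module F U), Nonempty (Prim L U F)

def FixedSq : Prop := ∀ (L U F : Type u) [Group L] [Finite L] [AddCommGroup U] [Finite U] [DistribMulAction L U]
    [Field F] [Finite F] [Module F U] (D : Prim L U F) (g : L),
    g ∈ Subgroup.centralizer (D.A : Set L) → Odd (orderOf g) → (orderOf g).Coprime (D.A.relIndex D.S) →
    (∃ s ∈ D.S, g * s * g⁻¹ * s⁻¹ ∉ D.A) → Nat.card {u : U // g • u = u} ^ 2 ≤ Nat.card U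

def FixedPow : Prop := ∀ (L U F : Type u) [Group L] [Finite L] [AddCommGroup U] [Finite U] [DistribMulAction L U]
    [Field F] [Finite F] [Module F U] (D : Prim L U F) (p : ℕ), p.Prime → ∀ g : L, (∃ k : ℕ, g ^ p ^ k = 1) →
    g ∉ Subgroup.centralizer (D.A : Set L) → Nat.card {u : U // g • u = u} ^ p ≤ Nat.card U

def Numeric : Prop := ∀ (Q I : Finset ℕ) (m : ℕ → ℕ) (f p : ℕ), (∀ q ∈ Q, q.Prime) → (∀ q ∈ Q, 1 ≤ m q) →
    I ⊆ Q → I.Nonempty → 2 ≤ f → (∀ q ∈ Q, q ∣ f - 1) → p.Prime → ¬ p ∣ f →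
    p ∉ Q → (2 ∈ I → p ≤ m 2) → (∀ q ∈ I, q ≠ 2 → p ≤ 2 * m q + 1) →
    (p = 7 → ∀ q ∈ I, q ≠ 2 → 4 ≤ m q) → Good p (f * ∏ q ∈ Q, q) →
    2 ^ (2 * p) * (∏ q ∈ Q, q ^ m q) ^ 4 * ∏ q ∈ I, q ^ (8 * m q ^ 2) ≤ f ^ (∏ q ∈ Q, q ^ m q)

def NotMem : Prop := ∀ (L U F : Type u) [Group L] [Finite L] [AddCommGroup U] [Finite U] [Nontrivial U]
    [DistribMulAction L U] [Field F] [Finite F] [Module F U] (D : Prim L U F) (Q : Finset ℕ)
    (m : ℕ → ℕ), D.Num Q m → ∀ M H : Subgroup L, Split M H → ∀ p : ℕ, p.Prime → p ∣ Nat.card H → p ∉ Q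

theorem ineq_one {a N W V p : ℕ} (h1 : a ≤ N * W) (h2 : W ^ 2 ≤ V) (h3 : 2 ^ (2 * p) * N ^ 2 ≤ V) :
    a * 2 ^ p ≤ V := by
  have h4 : (a * 2 ^ p) ^ 2 ≤ V ^ 2 := by
    calc (a * 2 ^ p) ^ 2 ≤ (N * W * 2 ^ p) ^ 2 := Nat.pow_le_pow_left (Nat.mul_le_mul_right _ h1) 2
      _ = (2 ^ (2 * p) * N ^ 2) * W ^ 2 := by rw [mul_pow, mul_pow, ← pow_mul, mul_comm p 2]; ring
      _ ≤ V * V := Nat.mul_le_mul h3 h2
      _ = V ^ 2 := by ring
  exact (Nat.pow_le_pow_iff_left two_ne_zero).1 h4

theorem ineq_two {a N W f d p : ℕ} (hf : 1 ≤ f) (hd : 4 ≤ d) (hp : 5 ≤ p) (h1 : a ≤ f * N * W)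
    (h2 : W ^ p ≤ f ^ d) (h3 : 2 ^ (2 * p) * N ^ 2 ≤ f ^ d) : a * 2 ^ p ≤ f ^ d := by
  have h4 : (a * 2 ^ p) ^ (2 * p) ≤ (f ^ d) ^ (2 * p) := by
    calc (a * 2 ^ p) ^ (2 * p) ≤ (f * N * W * 2 ^ p) ^ (2 * p) :=
          Nat.pow_le_pow_left (Nat.mul_le_mul_right _ h1) _
      _ = f ^ (2 * p) * (2 ^ (2 * p) * N ^ 2) ^ p * (W ^ p) ^ 2 := by
          simp only [mul_pow, ← pow_mul]
          ring_nf
      _ ≤ f ^ (2 * p) * (f ^ d) ^ p * (f ^ d) ^ 2 := by
          gcongr
      _ = f ^ (2 * p + d * p + d * 2) := by rw [← pow_mul, ← pow_mul, ← pow_add, ← pow_add]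
      _ ≤ f ^ (d * (2 * p)) := by
          refine Nat.pow_le_pow_right hf ?_
          nlinarith only [hd, hp]
      _ = (f ^ d) ^ (2 * p) := by rw [← pow_mul]
  exact (Nat.pow_le_pow_iff_left (by omega)).1 h4

section

variable {L U F : Type u} [Group L] [Finite L] [Group.IsSolvable L] [AddCommGroup U] [Finite U] [Nontrivial U]
  [DistribMulAction L U] [Field F] [Finite F] [Module F U] (D : Prim L U F)

theorem bad_bound (hSq : FixedSq.{u}) (hPow : FixedPow.{u}) (hNumer : Numeric) (hNot : NotMem.{u})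
    (hRel : RelIndexLe.{u}) (hDim : DimBound.{u}) {Q : Finset ℕ} {m : ℕ → ℕ} (hD : D.Num Q m) (M H : Subgroup L)
    (r n : ℕ) (hS : Split M H) (hr : r.Prime) (hrU : ∀ u : U, r • u = 0) (hrH : ¬ r ∣ Nat.card H)
    (hM : ∀ q : ℕ, q.Prime → q ∣ Nat.card M → q ∣ n) (hrn : r ∣ n) {p : ℕ} (hp : p.Prime)
    (hpH : p ∣ Nat.card H) (hgood : Good p n) (P : Sylow p L)
    (hnil : ¬ Group.IsNilpotent (⁅M, (P : Subgroup L)⁆ : Subgroup L)) :
    Nat.card {u : U // ¬ p ∣ (MulAction.stabilizer L u).index} * 2 ^ p ≤ Nat.card U := by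
  classical
  have hpf : Fact p.Prime := ⟨hp⟩
  have hrf : Fact r.Prime := ⟨hr⟩
  have hAn := D.A_normal
  have hSn := D.S_normal
  set E := ⁅M, (P : Subgroup L)⁆ with hE
  have hEn : E.Normal := hS.commutator_normal' hp hpH P
  have hEA : E ≤ Subgroup.centralizer (D.A : Set L) := D.commutator_le _ _
  have hp5 : 5 ≤ p := hgood.1
  have hpQ : p ∉ Q := hNot L U F D Q m hD M H hS p hp hpH
  -- sizes
  have hfin : Module.Finite F U := Module.Finite.of_finite
  set f := Nat.card F with hf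
  set d := Module.finrank F U with hd
  have hUcard : Nat.card U = f ^ d := Module.natCard_eq_pow_finrank (K := F) (V := U)
  have hf2 : 2 ≤ f := Finite.one_lt_card
  -- the characteristic
  have hrF : ∀ x : F, r • x = 0 := by
    intro x
    obtain ⟨u, hu⟩ := exists_ne (0 : U)
    have h1 : (r • (1 : F)) • u = 0 := by
      rw [smul_assoc, one_smul]
      exact hrU u
    have h2 : r • (1 : F) = 0 := (smul_eq_zero.1 h1).resolve_right hu
    rw [← mul_one x, ← mul_smul_comm, h2, mul_zero]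
  have hfr : ∀ q : ℕ, q.Prime → q ∣ f → q = r := by
    intro q hq hqf
    have : Fact q.Prime := ⟨hq⟩
    obtain ⟨x, hx⟩ := exists_prime_addOrderOf_dvd_card' q hqf
    have h1 : addOrderOf x ∣ r := addOrderOf_dvd_of_nsmul_eq_zero (hrF x)
    rw [hx] at h1
    exact (Nat.prime_dvd_prime_iff_eq hq hr).1 h1
  have hpnf : ¬ p ∣ f := by
    intro h
    rw [← hfr p hp h] at hrH
    exact hrH hpH
  -- the primes in `Q` divide `n`
  have hQn : ∀ q ∈ Q, q ∣ n := by
    intro q hq
    have hqp := hD.prime q hq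
    have h1 : q ∣ Nat.card L := by
      have h2 : q ∣ D.A.relIndex D.S := by
        rw [hD.relIndex]
        have h3 : q ∣ ∏ q ∈ Q, q ^ m q :=
          (dvd_pow_self q (by have := hD.one_le q hq; omega)).trans (Finset.dvd_prod_of_mem _ hq)
        exact h3.trans (dvd_pow_self _ two_ne_zero)
      exact h2.trans ((Subgroup.relIndex_dvd_card _ _).trans (Subgroup.card_subgroup_dvd_card _))
    rw [hS.card, hqp.dvd_mul] at h1
    rcases h1 with h1 | h1
    · exact hM q hqp h1
    · exact absurd hq (hNot L U F D Q m hD M H hS q hqp h1)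
  have hgood' : Good p (f * ∏ q ∈ Q, q) := by
    refine hgood.mono ?_
    intro q hq hqd
    rw [hq.dvd_mul] at hqd
    rcases hqd with h1 | h1
    · rw [hfr q hq h1]
      exact hrn
    · rw [Prime.dvd_finsetProd_iff hq.prime] at h1
      obtain ⟨q', hq', h1⟩ := h1
      rw [(Nat.prime_dvd_prime_iff_eq hq (hD.prime q' hq')).1 h1]
      exact hQn q' hq'
  -- the set `I`
  set I := Q.filter fun q => ¬ ∀ x ∈ E, D.Triv q x with hI
  have hIQ : I ⊆ Q := Finset.filter_subset _ _
  have hrelI : D.S.relIndex E ≤ ∏ q ∈ I, q ^ (4 * m q ^ 2) := by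
    refine hRel L U F D Q m hD E hEA I hIQ ?_
    intro q hq hqI
    by_contra hcon
    exact hqI (Finset.mem_filter.2 ⟨hq, hcon⟩)
  have hES : ¬ E ≤ D.S := fun h => hnil (D.isNilpotent_of_le E h)
  have hIne : I.Nonempty := by
    by_contra hcon
    rw [Finset.not_nonempty_iff_eq_empty] at hcon
    rw [hcon, Finset.prod_empty] at hrelI
    apply hES
    rw [← Subgroup.relIndex_eq_one]
    have : D.S.relIndex E ≠ 0 := Subgroup.FiniteIndex.index_ne_zero
    omega
  have hdim : ∀ q ∈ I, q ≠ p ∧ (q = 2 → p ≤ m 2) ∧ (q ≠ 2 → p ≤ 2 * m q + 1 ∧ (p = 7 → 4 ≤ m q)) := by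
    intro q hq
    obtain ⟨h1, h2⟩ := Finset.mem_filter.1 hq
    exact hDim L U F D Q m hD M H hS p hp (by omega) hpH P q h1 h2
  have hnum := hNumer Q I m f p hD.prime hD.one_le hIQ hIne hf2 hD.dvd hp hpnf hpQ
    (fun h => (hdim 2 h).2.1 rfl) (fun q hq h => ((hdim q hq).2.2 h).1)
    (fun h7 q hq h => ((hdim q hq).2.2 h).2 h7) hgood'
  set e := ∏ q ∈ Q, q ^ m q with he
  have hed : e ≤ d := hD.le_finrank
  set N := e ^ 2 * ∏ q ∈ I, q ^ (4 * m q ^ 2) with hN
  have hN2 : 2 ^ (2 * p) * N ^ 2 ≤ f ^ d := by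
    have h1 : N ^ 2 = e ^ 4 * ∏ q ∈ I, q ^ (8 * m q ^ 2) := by
      have h2 : (∏ q ∈ I, q ^ (4 * m q ^ 2)) ^ 2 = ∏ q ∈ I, q ^ (8 * m q ^ 2) := by
        rw [← Finset.prod_pow]
        refine Finset.prod_congr rfl fun q _ => ?_
        rw [← pow_mul]
        congr 1
        ring
      rw [hN, mul_pow, ← pow_mul, h2]
    rw [h1, ← mul_assoc]
    exact hnum.trans (Nat.pow_le_pow_right (by omega) hed)
  have hd4 : 4 ≤ d := by
    obtain ⟨q, hq⟩ := hIne
    have hqQ := hIQ hq
    have hqp := hD.prime q hqQ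
    have h1 : q ^ m q ≤ e := by
      refine Nat.le_of_dvd (Finset.prod_pos fun q hq => pow_pos (hD.prime q hq).pos _) ?_
      exact Finset.dvd_prod_of_mem (fun q => q ^ m q) hqQ
    have h2 : 2 ≤ m q := by
      by_cases hq2 : q = 2
      · subst hq2
        have := (hdim 2 hq).2.1 rfl
        omega
      · have := ((hdim q hq).2.2 hq2).1
        omega
    have h3 : 4 ≤ q ^ m q := by
      calc 4 = 2 ^ 2 := by norm_num
        _ ≤ q ^ 2 := Nat.pow_le_pow_left hqp.two_le 2
        _ ≤ q ^ m q := Nat.pow_le_pow_right hqp.pos h2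
    omega
  have hAS : D.A.relIndex D.S = e ^ 2 := hD.relIndex
  -- the two cases
  by_cases hPA : (P : Subgroup L) ≤ Subgroup.centralizer (D.A : Set L)
  · -- an element acting nontrivially on `S / A`
    obtain ⟨g, hgP, s, hs, hgs⟩ : ∃ g ∈ P, ∃ s ∈ D.S, g * s * g⁻¹ * s⁻¹ ∉ D.A := by
      by_contra hcon
      push Not at hcon
      apply hES
      have h1 := D.commutator_le_S E (P : Subgroup L) hEA hEn (fun g hg s hs => hcon g hg s hs)
      rwa [hE, hS.commutator_commutator hp hpH P] at h1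
    have hgo : ∃ k, orderOf g = p ^ k := by
      obtain ⟨k, hk⟩ := (IsPGroup.iff_orderOf.1 P.isPGroup') ⟨g, hgP⟩
      exact ⟨k, by rw [← hk, Subgroup.orderOf_mk]⟩
    obtain ⟨k, hk⟩ := hgo
    have h1 := hSq L U F D g (hPA hgP) (by rw [hk]; exact (hp.odd_of_ne_two (by omega)).pow)
      (by
        rw [hk, hAS]
        refine Nat.Coprime.pow_left _ (Nat.Coprime.pow_right _ ?_)
        rw [he]
        refine Nat.Coprime.prod_right fun q hq => Nat.Coprime.pow_right _ ?_
        rw [Nat.coprime_primes hp (hD.prime q hq)]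
        rintro rfl
        exact hpQ hq) ⟨s, hs, hgs⟩
    have h2 := card_unmoved_le (U := U) hp P g hgP
    have h3 := card_sylow_le D hS hp hpH P 1 (Or.inl ⟨hPA, rfl⟩)
    rw [one_mul, hAS] at h3
    have h4 : Nat.card (Sylow p L) ≤ N := h3.trans (Nat.mul_le_mul_left _ hrelI)
    refine ineq_one (h2.trans (Nat.mul_le_mul_right _ h4)) h1 ?_
    rw [hUcard]
    exact hN2
  · obtain ⟨g, hgP, hgA⟩ : ∃ g ∈ P, g ∉ Subgroup.centralizer (D.A : Set L) := by
      by_contra hcon
      push Not at hcon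
      exact hPA hcon
    obtain ⟨k, hk⟩ := P.isPGroup' ⟨g, hgP⟩
    have h1 := hPow L U F D p hp g ⟨k, congrArg Subtype.val hk⟩ hgA
    have h2 := card_unmoved_le (U := U) hp P g hgP
    have h3 := card_sylow_le D hS hp hpH P (Nat.card F) (Or.inr rfl)
    rw [hAS, ← hf] at h3
    have h4 : Nat.card (Sylow p L) ≤ f * N := h3.trans (Nat.mul_le_mul_left _ (Nat.mul_le_mul_left _ hrelI))
    rw [hUcard] at h1 ⊢
    exact ineq_two (by omega) hd4 hp5 (h2.trans (Nat.mul_le_mul_right _ h4)) h1 hN2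

end

/-- the union bound -/
theorem exists_avoid {U : Type u} [Finite U] (T : Finset ℕ) (hT : ∀ p ∈ T, 1 ≤ p) (B : ℕ → Set U)
    (hB : ∀ p ∈ T, Nat.card (B p) * 2 ^ p ≤ Nat.card U) [Nonempty U] : ∃ u : U, ∀ p ∈ T, u ∉ B p := by
  classical
  by_contra hcon
  push Not at hcon
  have := Fintype.ofFinite U
  have h1 : (Finset.univ : Finset U) ⊆ T.biUnion fun p => Finset.univ.filter fun u => u ∈ B p := by
    intro u _
    obtain ⟨p, hp, hu⟩ := hcon u
    exact Finset.mem_biUnion.2 ⟨p, hp, Finset.mem_filter.2 ⟨Finset.mem_univ _, hu⟩⟩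
  have h2 : Nat.card U ≤ ∑ p ∈ T, Nat.card (B p) := by
    have h3 := (Finset.card_le_card h1).trans Finset.card_biUnion_le
    rw [Finset.card_univ, ← Nat.card_eq_fintype_card] at h3
    refine h3.trans (Finset.sum_le_sum fun p _ => ?_)
    rw [Nat.card_eq_fintype_card, Fintype.card_subtype]
  have hpos : 0 < Nat.card U := Nat.card_pos
  have h4 : ∀ p ∈ T, (Nat.card (B p) : ℚ) ≤ Nat.card U * (1 / 2) ^ p := by
    intro p hp
    have h5 : (Nat.card (B p) : ℚ) * 2 ^ p ≤ Nat.card U := by exact_mod_cast hB p hp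
    rw [one_div, inv_pow, ← div_eq_mul_inv, le_div_iff₀ (by positivity)]
    exact h5
  have h5 : (Nat.card U : ℚ) ≤ ∑ p ∈ T, (Nat.card U : ℚ) * (1 / 2) ^ p := by
    calc (Nat.card U : ℚ) ≤ ((∑ p ∈ T, Nat.card (B p) : ℕ) : ℚ) := by exact_mod_cast h2
      _ = ∑ p ∈ T, (Nat.card (B p) : ℚ) := by push_cast; rfl
      _ ≤ _ := Finset.sum_le_sum h4
  rw [← Finset.mul_sum] at h5
  obtain ⟨N, hN⟩ : ∃ N, T ⊆ (Finset.range N).erase 0 := by
    refine ⟨T.sup id + 1, fun p hp => ?_⟩
    rw [Finset.mem_erase, Finset.mem_range]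
    refine ⟨by have := hT p hp; omega, ?_⟩
    have : p ≤ T.sup id := Finset.le_sup (f := id) hp
    omega
  have h6 : ∑ p ∈ T, ((1 : ℚ) / 2) ^ p < 1 := by
    refine lt_of_le_of_lt (Finset.sum_le_sum_of_subset_of_nonneg hN (fun _ _ _ => by positivity)) ?_
    rcases Nat.eq_zero_or_pos N with rfl | hN0
    · simp only [_root_.Finset.range_zero, _root_.Finset.notMem_empty, _root_.not_false_eq_true, _root_.Finset.erase_eq_of_notMem, _root_.one_div, _root_.inv_pow, _root_.Finset.sum_empty, _root_.zero_lt_one]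
    · have h7 : ∑ i ∈ Finset.range N, ((1 : ℚ) / 2) ^ i = 2 - 2 * (1 / 2) ^ N := by
        rw [geom_sum_eq (by norm_num)]
        field_simp
        ring
      have h8 : ∑ i ∈ (Finset.range N).erase 0, ((1 : ℚ) / 2) ^ i + ((1 : ℚ) / 2) ^ 0 =
          ∑ i ∈ Finset.range N, ((1 : ℚ) / 2) ^ i :=
        Finset.sum_erase_add _ _ (Finset.mem_range.2 hN0)
      have h9 : (0 : ℚ) < (1 / 2) ^ N := by positivity
      rw [h7, pow_zero] at h8
      linarith only [h8, h9]
  have hU : (0 : ℚ) < Nat.card U := by exact_mod_cast hpos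
  nlinarith only [h5, h6, hU]

theorem primStep (hPrim : ExistsPrim.{u}) (hNum : ExistsNum.{u}) (hSq : FixedSq.{u}) (hPow : FixedPow.{u})
    (hNumer : Numeric) (hNot : NotMem.{u}) (hRel : RelIndexLe.{u}) (hDim : DimBound.{u}) : PrimStep.{u} := by
  classical
  intro L U _ _ _ _ _ _ _ M H r n hS hr hrU hrH hirr hM hrn hfaith hI
  obtain ⟨F, _, _, _, ⟨D⟩⟩ := hPrim L U r hr hrU hfaith hirr hI
  obtain ⟨Q, m, hD⟩ := hNum L U F D
  -- the bad primes
  set T := (Nat.card H).primeFactors.filter fun p => Good p n ∧ ∃ P : Sylow p L,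
    ¬ Group.IsNilpotent ((⁅M, (P : Subgroup L)⁆).map (DistribMulAction.toAddAut L U)) with hT
  have hinj : Function.Injective (DistribMulAction.toAddAut L U) := by
    rw [injective_iff_map_eq_one]
    intro g hg
    apply hfaith
    intro u
    exact DFunLike.congr_fun (congrArg Multiplicative.toAdd hg) u
  have hnil : ∀ E : Subgroup L, ¬ Group.IsNilpotent (E.map (DistribMulAction.toAddAut L U)) →
      ¬ Group.IsNilpotent E := by
    intro E h1 h2
    apply h1
    have e := E.equivMapOfInjective _ hinj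
    exact Group.nilpotent_of_mulEquiv e
  have hTm : ∀ p ∈ T, p.Prime ∧ p ∣ Nat.card H ∧ Good p n ∧ ∃ P : Sylow p L,
    ¬ Group.IsNilpotent ((⁅M, (P : Subgroup L)⁆).map (DistribMulAction.toAddAut L U)) := by
    intro p hp
    obtain ⟨h1, h2⟩ := Finset.mem_filter.1 hp
    exact ⟨Nat.prime_of_mem_primeFactors h1, Nat.dvd_of_mem_primeFactors h1, h2⟩
  obtain ⟨u, hu⟩ := exists_avoid (U := U) T (fun p hp => (hTm p hp).1.one_lt.le)
    (fun p => {u : U | ¬ p ∣ (MulAction.stabilizer L u).index}) (by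
      intro p hp
      obtain ⟨h1, h2, h3, P, h4⟩ := hTm p hp
      exact bad_bound D hSq hPow hNumer hNot hRel hDim hD M H r n hS hr hrU hrH hM hrn h1 h2 h3 P (hnil _ h4))
  rcases T.eq_empty_or_nonempty with hTe | ⟨p0, hp0⟩
  · obtain ⟨v, hv⟩ := exists_ne (0 : U)
    refine ⟨v, hv, fun p hp hpH hgood P hP => ?_⟩
    have : p ∈ T := Finset.mem_filter.2 ⟨Nat.mem_primeFactors.2 ⟨hp, hpH, (Nat.card_pos).ne'⟩, hgood, P, hP⟩
    rw [hTe] at this
    simp at this
  · refine ⟨u, ?_, fun p hp hpH hgood P hP => ?_⟩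
    · rintro rfl
      have h1 := hu p0 hp0
      apply h1
      change ¬ p0 ∣ (MulAction.stabilizer L (0 : U)).index
      have : MulAction.stabilizer L (0 : U) = ⊤ := by
        rw [eq_top_iff]
        intro g _
        rw [MulAction.mem_stabilizer_iff, smul_zero]
      rw [this, Subgroup.index_top]
      intro h2
      exact (hTm p0 hp0).1.one_lt.ne' (Nat.dvd_one.1 h2)
    · have hpT : p ∈ T := Finset.mem_filter.2 ⟨Nat.mem_primeFactors.2 ⟨hp, hpH, (Nat.card_pos).ne'⟩, hgood, P, hP⟩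
      by_contra hcon
      exact hu p hpT hcon

end Cfsg.Agent.H822.Cls
end

-- part: H24/Cls/FieldPart
section
/-!
# The field generated by an abelian normal subgroup of a primitive linear group (task T1a of S4148)
-/

set_option autoImplicit false
set_option linter.style.haveILetI false

namespace Cfsg.Agent.H24.Cls

open scoped Pointwise commutatorElement
open Cfsg.Agent.H822.Cls

universe u

section Alg

variable {L U : Type u} [Group L] [AddCommGroup U] [DistribMulAction L U]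

/-- The action as a homomorphism to the endomorphism ring. -/
abbrev rho (L U : Type u) [Group L] [AddCommGroup U] [DistribMulAction L U] : L →* AddMonoid.End U :=
  DistribMulAction.toAddMonoidEnd L U

/-- The ring generated by a subgroup. -/
def algA (U : Type u) [AddCommGroup U] [DistribMulAction L U] (A : Subgroup L) : Subring (AddMonoid.End U) :=
  Subring.closure ((rho L U) '' (A : Set L))

/-- Conjugation on the endomorphism ring. -/
def cj (U : Type u) [AddCommGroup U] [DistribMulAction L U] (g : L) : AddMonoid.End U →+* AddMonoid.End U where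
  toFun f := rho L U g * f * rho L U g⁻¹
  map_one' := by rw [mul_one, ← map_mul, mul_inv_cancel, map_one]
  map_mul' a b := by
    have h : rho L U g⁻¹ * rho L U g = 1 := by rw [← map_mul, inv_mul_cancel, map_one]
    calc rho L U g * (a * b) * rho L U g⁻¹ = rho L U g * a * 1 * b * rho L U g⁻¹ := by
          rw [mul_one, mul_assoc (rho L U g) a b]
      _ = _ := by rw [← h]; simp only [mul_assoc]
  map_zero' := by rw [mul_zero, zero_mul]
  map_add' a b := by rw [mul_add, add_mul]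

theorem cj_apply (g : L) (f : AddMonoid.End U) (u : U) : cj U g f (g • u) = g • f u := by
  change g • f (g⁻¹ • (g • u)) = g • f u
  rw [inv_smul_smul]

theorem cj_one (f : AddMonoid.End U) : cj U (1 : L) f = f := by
  ext u
  change (1 : L) • f ((1 : L)⁻¹ • u) = f u
  rw [inv_one, one_smul, one_smul]

theorem cj_mul (g h : L) (f : AddMonoid.End U) : cj U (g * h) f = cj U g (cj U h f) := by
  ext u
  change (g * h) • f ((g * h)⁻¹ • u) = g • (h • f (h⁻¹ • (g⁻¹ • u)))
  rw [mul_inv_rev, mul_smul, mul_smul]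

theorem cj_mem (A : Subgroup L) (hA : A.Normal) (g : L) {f : AddMonoid.End U} (hf : f ∈ algA U A) :
    cj U g f ∈ algA U A := by
  have h : algA U A ≤ (algA U A).comap (cj U g) := by
    unfold algA
    rw [Subring.closure_le]
    rintro _ ⟨a, ha, rfl⟩
    refine Subring.subset_closure ⟨g * a * g⁻¹, hA.conj_mem a ha g, ?_⟩
    rw [map_mul, map_mul]
    rfl
  exact h hf

/-- Conjugation on the ring generated by a normal subgroup. -/
def cjA (A : Subgroup L) (hA : A.Normal) : L →* (algA U A ≃+* algA U A) where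
  toFun g :=
    { toFun := fun f => ⟨cj U g f, cj_mem A hA g f.2⟩
      invFun := fun f => ⟨cj U g⁻¹ f, cj_mem A hA g⁻¹ f.2⟩
      left_inv := fun f => Subtype.ext (by
        change cj U g⁻¹ (cj U g f) = f
        rw [← cj_mul, inv_mul_cancel, cj_one])
      right_inv := fun f => Subtype.ext (by
        change cj U g (cj U g⁻¹ f) = f
        rw [← cj_mul, mul_inv_cancel, cj_one])
      map_mul' := fun a b => Subtype.ext (map_mul (cj U g) a.1 b.1)
      map_add' := fun a b => Subtype.ext (map_add (cj U g) a.1 b.1) }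
  map_one' := RingEquiv.ext fun f => Subtype.ext (cj_one f.1)
  map_mul' g h := RingEquiv.ext fun f => Subtype.ext (cj_mul g h f.1)

theorem cjA_apply (A : Subgroup L) (hA : A.Normal) (g : L) (f : algA U A) (u : U) :
    ((cjA A hA g f : algA U A) : AddMonoid.End U) (g • u) = g • (f : AddMonoid.End U) u :=
  cj_apply g f u

theorem cjA_ker (hfaith : ∀ g : L, (∀ u : U, g • u = u) → g = 1) (A : Subgroup L) (hA : A.Normal) :
    (cjA (U := U) A hA).ker = Subgroup.centralizer (A : Set L) := by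
  have hinj : ∀ g h : L, (∀ u : U, g • u = h • u) → g = h := by
    intro g h hgh
    have : h⁻¹ * g = 1 := hfaith _ fun u => by rw [mul_smul, hgh, inv_smul_smul]
    rw [inv_mul_eq_one] at this
    exact this.symm
  ext g
  rw [MonoidHom.mem_ker, Subgroup.mem_centralizer_iff]
  constructor
  · intro h a ha
    apply hinj
    intro u
    have h1 := cjA_apply (U := U) A hA g ⟨rho L U a, Subring.subset_closure ⟨a, ha, rfl⟩⟩ u
    rw [h] at h1
    rw [mul_smul, mul_smul]
    exact h1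
  · intro h
    have h2 : algA U A ≤ (cj U g).eqLocus (RingHom.id (AddMonoid.End U)) := by
      unfold algA
      rw [Subring.closure_le]
      rintro _ ⟨a, ha, rfl⟩
      change cj U g (rho L U a) = rho L U a
      change rho L U g * rho L U a * rho L U g⁻¹ = rho L U a
      rw [← map_mul, ← h a ha, ← map_mul, mul_inv_cancel_right]
    exact RingEquiv.ext fun f => Subtype.ext (h2 f.2)

theorem algA_comm (A : Subgroup L) (hAc : IsMulCommutative A) (x y : algA U A) : x * y = y * x := by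
  apply Subtype.ext
  have h1 : ∀ x ∈ (rho L U) '' (A : Set L), ∀ y ∈ (rho L U) '' (A : Set L), x * y = y * x := by
    rintro _ ⟨a, ha, rfl⟩ _ ⟨b, hb, rfl⟩
    rw [← map_mul, ← map_mul]
    exact congrArg _ (congrArg Subtype.val (isMulCommutative_iff.1 hAc ⟨a, ha⟩ ⟨b, hb⟩))
  have hx : (x : AddMonoid.End U) ∈ Subring.centralizer ((rho L U) '' (A : Set L)) := by
    have : algA U A ≤ Subring.centralizer ((rho L U) '' (A : Set L)) := by
      unfold algA
      rw [Subring.closure_le]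
      intro z hz
      rw [SetLike.mem_coe, Subring.mem_centralizer_iff]
      exact fun w hw => h1 w hw z hz
    exact this x.2
  have hy : (y : AddMonoid.End U) ∈ Subring.centralizer ({(x : AddMonoid.End U)} : Set (AddMonoid.End U)) := by
    have : algA U A ≤ Subring.centralizer ({(x : AddMonoid.End U)} : Set (AddMonoid.End U)) := by
      unfold algA
      rw [Subring.closure_le]
      intro z hz
      rw [SetLike.mem_coe, Subring.mem_centralizer_iff]
      rintro w hw
      rw [Set.mem_singleton_iff] at hw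
      subst hw
      exact ((Subring.mem_centralizer_iff.1 hx) z hz).symm
    exact this y.2
  exact (Subring.mem_centralizer_iff.1 hy) _ (Set.mem_singleton _)

end Alg

/-- Vectors killed by an ideal. -/
def tor {B U : Type u} [CommRing B] [AddCommGroup U] [Module B U] (I : Ideal B) : AddSubgroup U where
  carrier := {u | ∀ b ∈ I, b • u = 0}
  zero_mem' := fun b _ => smul_zero b
  add_mem' := by
    intro x y hx hy b hb
    rw [smul_add, hx b hb, hy b hb, add_zero]
  neg_mem' := by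
    intro x hx b hb
    rw [smul_neg, hx b hb, neg_zero]

/-- A finite commutative ring acting faithfully on a primitive irreducible module, normalised by the group, is a
field. -/
theorem isField_of_primitive {L U B : Type u} [Group L] [AddCommGroup U] [Finite U] [Nontrivial U]
    [DistribMulAction L U] [CommRing B] [Finite B] [Module B U]
    (hfB : ∀ b : B, (∀ u : U, b • u = 0) → b = 0) (σ : L → (B ≃+* B))
    (hσ : ∀ (g : L) (b : B) (u : U), g • (b • u) = σ g b • (g • u))
    (hσ' : ∀ (g : L) (b : B) (u : U), g⁻¹ • (σ g b • (g • u)) = b • u)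
    (hirr : Irr L U) (hprim : ¬ Imprim L U) : IsField B := by
  classical
  haveI : Nontrivial B := by
    refine ⟨⟨1, 0, fun h => ?_⟩⟩
    obtain ⟨u, hu⟩ := exists_ne (0 : U)
    apply hu
    rw [← one_smul B u, h, zero_smul]
  -- the system
  let 𝒟 : Set (AddSubgroup U) := {D | D ≠ ⊥ ∧ ∃ I : Ideal B, I.IsMaximal ∧ D = tor I}
  have hgD : ∀ g : L, ∀ D ∈ 𝒟, g • D ∈ 𝒟 := by
    rintro g D ⟨hDb, I, hI, rfl⟩
    refine ⟨?_, I.map (σ g : B →+* B), ?_, ?_⟩
    · intro h
      apply hDb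
      rw [eq_bot_iff]
      intro u hu
      have h1 : g • u ∈ g • (tor I : AddSubgroup U) := AddSubgroup.smul_mem_pointwise_smul u g _ hu
      rw [h, AddSubgroup.mem_bot, smul_eq_zero_iff_eq] at h1
      rw [AddSubgroup.mem_bot]
      exact h1
    · exact Ideal.map_isMaximal_of_equiv (σ g)
    · ext u
      rw [AddSubgroup.mem_smul_pointwise_iff_exists]
      constructor
      · rintro ⟨w, hw, rfl⟩
        intro b hb
        obtain ⟨c, hc, rfl⟩ := (Ideal.mem_map_iff_of_surjective (σ g : B →+* B) (σ g).surjective).1 hb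
        change σ g c • (g • w) = 0
        rw [← hσ, hw c hc, smul_zero]
      · intro hu
        refine ⟨g⁻¹ • u, fun b hb => ?_, smul_inv_smul g u⟩
        have h1 := hu (σ g b) (Ideal.mem_map_of_mem (σ g : B →+* B) hb)
        rw [← hσ' g b (g⁻¹ • u), smul_inv_smul, h1, smul_zero]
  -- it is not empty
  have hne : ∃ D, D ∈ 𝒟 := by
    obtain ⟨u, hu⟩ := exists_ne (0 : U)
    obtain ⟨P, hP, -⟩ := exists_le_isAssociatedPrime_of_isNoetherianRing B u hu
    rw [isAssociatedPrime_iff] at hP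
    obtain ⟨hP, y, hy⟩ := hP
    have hPm : P.IsMaximal := IsArtinianRing.isMaximal_of_isPrime P
    refine ⟨tor P, ?_, P, hPm, rfl⟩
    intro h
    have h1 : y ∈ (tor P : AddSubgroup U) := by
      intro b hb
      rw [hy, Submodule.mem_colon_singleton] at hb
      exact (Submodule.mem_bot B).1 hb
    rw [h, AddSubgroup.mem_bot] at h1
    apply hP.ne_top
    rw [hy, h1, Ideal.eq_top_iff_one, Submodule.mem_colon_singleton, smul_zero]
    exact Submodule.zero_mem _
  -- independence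
  have hind : sSupIndep 𝒟 := by
    rintro D ⟨hDb, I, hI, rfl⟩
    haveI : Finite (Ideal B) := Finite.of_injective (fun I : Ideal B => (I : Set B)) SetLike.coe_injective
    let s : Finset (Ideal B) := (Set.toFinite {K : Ideal B | K.IsMaximal ∧ K ≠ I}).toFinset
    have hs : ∀ K, K ∈ s ↔ K.IsMaximal ∧ K ≠ I := fun K => (Set.Finite.mem_toFinset _)
    have hJ : I ⊔ ⨅ K ∈ s, K = ⊤ := by
      apply Ideal.sup_iInf_eq_top
      intro K hK
      exact Ideal.IsMaximal.coprime_of_ne hI ((hs K).1 hK).1 ((hs K).1 hK).2.symm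
    have hle : sSup (𝒟 \ {tor I}) ≤ tor (U := U) (⨅ K ∈ s, K) := by
      refine sSup_le ?_
      rintro D ⟨⟨hDb', K, hK, rfl⟩, hne⟩
      have hKI : K ≠ I := by
        rintro rfl
        exact hne rfl
      intro u hu b hb
      refine hu b ?_
      have h1 : (⨅ K ∈ s, K) ≤ K := iInf₂_le K ((hs K).2 ⟨hK, hKI⟩)
      exact h1 hb
    rw [disjoint_iff, eq_bot_iff]
    intro u hu
    obtain ⟨hu1, hu2⟩ := AddSubgroup.mem_inf.1 hu
    have h1 : (1 : B) ∈ I ⊔ ⨅ K ∈ s, K := by rw [hJ]; exact Submodule.mem_top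
    obtain ⟨a, ha, b, hb, hab⟩ := Submodule.mem_sup.1 h1
    rw [AddSubgroup.mem_bot, ← one_smul B u, ← hab, add_smul, hu1 a ha, hle hu2 b hb, add_zero]
  -- the sum
  have hsum : sSup 𝒟 = ⊤ := by
    refine (hirr (sSup 𝒟) ?_).resolve_left ?_
    · intro g w hw
      have h1 : sSup 𝒟 ≤ (sSup 𝒟).comap (DistribMulAction.toAddMonoidEnd L U g) := by
        refine sSup_le fun D hD => ?_
        intro v hv
        have h2 : g • v ∈ g • D := AddSubgroup.smul_mem_pointwise_smul v g D hv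
        exact le_sSup (hgD g D hD) h2
      exact h1 hw
    · intro h
      obtain ⟨D, hD⟩ := hne
      apply hD.1
      rw [eq_bot_iff, ← h]
      exact le_sSup hD
  have hone : 𝒟.ncard < 2 := by
    by_contra h
    exact hprim ⟨𝒟, Set.toFinite _, not_lt.1 h, fun D hD => hD.1, hgD, hind, hsum⟩
  obtain ⟨D, hD⟩ := hne
  have h𝒟 : 𝒟 = {D} := by
    have h1 : 0 < 𝒟.ncard := (Set.ncard_pos (Set.toFinite _)).2 ⟨D, hD⟩
    have h2 : 𝒟.ncard = 1 := by omega
    obtain ⟨D', hD'⟩ := Set.ncard_eq_one.1 h2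
    rw [hD'] at hD ⊢
    rw [Set.mem_singleton_iff.1 hD]
  rw [h𝒟, sSup_singleton] at hsum
  obtain ⟨hDb, I, hI, hDI⟩ := hD
  have hIb : I = ⊥ := by
    rw [eq_bot_iff]
    intro b hb
    rw [Ideal.mem_bot]
    apply hfB
    intro u
    have h1 : u ∈ (tor I : AddSubgroup U) := by rw [← hDI, hsum]; exact AddSubgroup.mem_top u
    exact h1 b hb
  rw [hIb] at hI
  exact Ring.isField_iff_maximal_bot.2 hI

set_option linter.unusedVariables false in
/-- The field generated by an abelian normal subgroup of a primitive linear group. -/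
theorem exists_field {L U : Type u} [Group L] [Finite L] [AddCommGroup U] [Finite U]
    [Nontrivial U] [DistribMulAction L U] {r : ℕ} (hr : r.Prime) (hrU : ∀ u : U, r • u = 0)
    (hfaith : ∀ g : L, (∀ u : U, g • u = u) → g = 1) (hirr : Irr L U) (hprim : ¬ Imprim L U) (A : Subgroup L)
    (hA : A.Normal) (hAc : IsMulCommutative A) :
    ∃ (F : Type u) (_ : Field F) (_ : Finite F) (_ : Module F U) (σ : L →* (F ≃+* F)) (ι : A →* Fˣ),
      (∀ (g : L) (κ : F) (u : U), g • (κ • u) = σ g κ • (g • u)) ∧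
      (∀ (a : A) (u : U), (a : L) • u = ((ι a : Fˣ) : F) • u) ∧ Function.Injective ι ∧
      σ.ker = Subgroup.centralizer (A : Set L) := by
  classical
  haveI : Finite (AddMonoid.End U) := Finite.of_injective (fun f : AddMonoid.End U => (f : U → U)) DFunLike.coe_injective
  letI : CommRing (algA U A) := { (inferInstance : Ring (algA U A)) with mul_comm := algA_comm A hAc }
  have hF : IsField (algA U A) := by
    refine isField_of_primitive (L := L) (U := U) ?_ (cjA A hA) ?_ ?_ hirr hprim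
    · intro b hb
      exact Subtype.ext (AddMonoidHom.ext hb)
    · intro g b u
      exact (cjA_apply A hA g b u).symm
    · intro g b u
      have h1 := cjA_apply A hA g b u
      change g⁻¹ • (((cjA A hA g b : algA U A) : AddMonoid.End U) (g • u)) = _
      rw [h1, inv_smul_smul]
      rfl
  letI fld : Field (algA U A) := hF.toField
  let i0 : A →* algA U A :=
    { toFun := fun a => ⟨rho L U (a : L), Subring.subset_closure ⟨a, a.2, rfl⟩⟩
      map_one' := Subtype.ext (map_one (rho L U))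
      map_mul' := fun a b => Subtype.ext (map_mul (rho L U) (a : L) (b : L)) }
  refine ⟨algA U A, fld, inferInstance, inferInstance, cjA A hA, i0.toHomUnits, ?_, ?_, ?_, cjA_ker hfaith A hA⟩
  · intro g κ u
    exact (cjA_apply A hA g κ u).symm
  · intro a u
    rfl
  · rw [injective_iff_map_eq_one]
    intro a ha
    apply Subtype.ext
    apply hfaith
    intro u
    have h1 : i0 a = 1 := congrArg Units.val ha
    have h2 : rho L U (a : L) = 1 := congrArg Subtype.val h1
    exact DFunLike.congr_fun h2 u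

end Cfsg.Agent.H24.Cls
end

-- part: H308/ClsFix
section
/-!
# S4148, T2: fixed points of automorphisms of primitive linear groups
-/

set_option autoImplicit false

namespace Cfsg.Agent.H308.ClsFix

open scoped Pointwise commutatorElement
open Cfsg.Agent.H822.Cls

universe u

section Pairing

variable {L : Type*} [Group L]

/-- The commutator `x y x⁻¹ y⁻¹`. -/
def c (x y : L) : L := x * y * x⁻¹ * y⁻¹

variable {A S : Subgroup L}

/-- `A ≤ S` with `A` central in `S` and `S / A` abelian. -/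
structure Pair (A S : Subgroup L) : Prop where
  normal : S.Normal
  le : A ≤ S
  cen : ∀ s ∈ S, ∀ a ∈ A, s * a = a * s
  comm : ∀ x ∈ S, ∀ y ∈ S, c x y ∈ A

variable (P : Pair A S)
include P

omit P in
theorem c_inv (x y : L) : (c x y)⁻¹ = c y x := by unfold c; group

omit P in
theorem c_eq_one {x y : L} : c x y = 1 ↔ x * y = y * x := by
  unfold c
  rw [mul_inv_eq_one, mul_inv_eq_iff_eq_mul]

omit P in
theorem c_map (g x y : L) : c (g * x * g⁻¹) (g * y * g⁻¹) = g * c x y * g⁻¹ := by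
  unfold c; group

theorem Pair.mul_left {x y z : L} (hx : x ∈ S) (hy : y ∈ S) (hz : z ∈ S) :
    c (x * y) z = c x z * c y z := by
  have h1 := P.cen x hx _ (P.comm y hy z hz)
  have h2 := P.cen _ (P.le (P.comm x hx z hz)) _ (P.comm y hy z hz)
  calc c (x * y) z = x * c y z * x⁻¹ * c x z := by unfold c; group
    _ = c y z * c x z := by rw [h1]; group
    _ = _ := h2.symm

theorem Pair.mul_right {x y z : L} (hx : x ∈ S) (hy : y ∈ S) (hz : z ∈ S) :
    c x (y * z) = c x y * c x z := by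
  rw [← c_inv, P.mul_left hy hz hx, mul_inv_rev, c_inv, c_inv]
  exact P.cen _ (P.le (P.comm x hx z hz)) _ (P.comm x hx y hy)

theorem Pair.inv_left {x z : L} (hx : x ∈ S) (hz : z ∈ S) : c x⁻¹ z = (c x z)⁻¹ := by
  have h1 := P.mul_left hx (S.inv_mem hx) hz
  have h2 : c (x * x⁻¹) z = 1 := by unfold c; group
  rw [h2] at h1
  exact (inv_eq_of_mul_eq_one_right h1.symm).symm

theorem Pair.inv_right {x z : L} (hx : x ∈ S) (hz : z ∈ S) : c x z⁻¹ = (c x z)⁻¹ := by
  rw [← c_inv, P.inv_left hz hx, c_inv, c_inv]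

theorem Pair.conj_mem (g : L) {x : L} (hx : x ∈ S) : g * x * g⁻¹ ∈ S :=
  P.normal.conj_mem x hx g

theorem Pair.inv {g : L} (hg : ∀ a ∈ A, g * a = a * g) {x y : L} (hx : x ∈ S) (hy : y ∈ S) :
    c (g * x * g⁻¹) (g * y * g⁻¹) = c x y := by
  rw [c_map, hg _ (P.comm x hx y hy)]
  group

/-- If `c (y_s, φ y_s) = 1` for all `y_s = s φ(s)⁻¹`, then `(φ - 1)(φ² - 1)(1 - φ)` vanishes
modulo `A`. -/
theorem Pair.key (hcent : ∀ x ∈ S, (∀ y ∈ S, x * y = y * x) → x ∈ A) {g : L}
    (hg : ∀ a ∈ A, g * a = a * g)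
    (hz : ∀ s ∈ S, c (s * (g * s * g⁻¹)⁻¹) (g * (s * (g * s * g⁻¹)⁻¹) * g⁻¹) = 1) :
    ∀ t ∈ S, ∀ y, y = t * (g * t * g⁻¹)⁻¹ → ∀ u, u = g * (g * y * g⁻¹) * g⁻¹ * y⁻¹ →
      g * u * g⁻¹ * u⁻¹ ∈ A := by
  -- notation
  let φ : L → L := fun x => g * x * g⁻¹
  have hφm : ∀ x y, φ (x * y) = φ x * φ y := fun x y => by simp only [φ]; group
  have hφi : ∀ x, φ x⁻¹ = (φ x)⁻¹ := fun x => by simp only [φ]; group
  have hφS : ∀ x ∈ S, φ x ∈ S := fun x hx => P.conj_mem g hx
  have hinv : ∀ x ∈ S, ∀ y ∈ S, c (φ x) (φ y) = c x y := fun x hx y hy => P.inv hg hx hy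
  let δ : L → L := fun s => s * (φ s)⁻¹
  have hδS : ∀ x ∈ S, δ x ∈ S := fun x hx => S.mul_mem hx (S.inv_mem (hφS x hx))
  have hz' : ∀ s ∈ S, c (δ s) (φ (δ s)) = 1 := hz
  -- polarization
  have h1 : ∀ s ∈ S, ∀ t ∈ S, c (δ s) (φ (δ t)) * c (δ t) (φ (δ s)) = 1 := by
    intro s hs t ht
    have h2 : δ (s * t) = c s (δ t) * (δ t * δ s) := by
      simp only [δ, hφm, c]; group
    have h3 : c s (δ t) ∈ A := P.comm s hs _ (hδS t ht)
    have h4 : φ (c s (δ t)) = c s (δ t) := by
      simp only [φ]; rw [hg _ h3]; group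
    have h5 := hz' _ (S.mul_mem hs ht)
    have h6 : ∀ a ∈ A, ∀ x ∈ S, c a x = 1 := fun a ha x hx =>
      c_eq_one.2 (P.cen x hx a ha).symm
    have h7 : ∀ a ∈ A, ∀ x ∈ S, c x a = 1 := fun a ha x hx =>
      c_eq_one.2 (P.cen x hx a ha)
    have m1 := hδS s hs
    have m2 := hδS t ht
    have m3 := hφS _ m1
    have m4 := hφS _ m2
    have mts := S.mul_mem m2 m1
    have mts' := S.mul_mem m4 m3
    rw [h2, hφm, h4, hφm, P.mul_left (P.le h3) mts (S.mul_mem (P.le h3) mts'),
      h6 _ h3 _ (S.mul_mem (P.le h3) mts'), one_mul, P.mul_right mts (P.le h3) mts',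
      h7 _ h3 _ mts, one_mul, P.mul_left m2 m1 mts', P.mul_right m2 m4 m3,
      P.mul_right m1 m4 m3, hz' t ht, hz' s hs, one_mul, mul_one] at h5
    rw [P.cen _ (P.le (P.comm _ m1 _ m4)) _ (P.comm _ m2 _ m3)]
    exact h5
  -- `c (φ y_s) (φ² y_t · y_t⁻¹) = 1`
  have h2 : ∀ s ∈ S, ∀ t ∈ S, c (φ (δ s)) (φ (φ (δ t)) * (δ t)⁻¹) = 1 := by
    intro s hs t ht
    have m1 := hδS s hs
    have m2 := hδS t ht
    have m3 := hφS _ m1
    have m4 := hφS _ m2
    have m5 := hφS _ m4
    rw [P.mul_right m3 m5 (S.inv_mem m2), hinv _ m1 _ m4, P.inv_right m3 m2, c_inv]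
    exact h1 s hs t ht
  intro t ht y hy u hu
  have hyt : y = δ t := hy
  have hut : u = φ (φ (δ t)) * (δ t)⁻¹ := by rw [hu, hyt]
  have m2 := hδS t ht
  have huS : u ∈ S := by
    rw [hut]
    exact S.mul_mem (hφS _ (hφS _ m2)) (S.inv_mem m2)
  have h3 : ∀ s ∈ S, c (φ (φ s)) (φ u * u⁻¹) = 1 := by
    intro s hs
    have m1 := hφS s hs
    have m3 := hφS _ m1
    have h4 := h2 s hs t ht
    rw [← hut] at h4
    have h5 : φ (δ s) = φ s * (φ (φ s))⁻¹ := by
      simp only [δ]; rw [hφm, hφi]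
    rw [h5, P.mul_left m1 (S.inv_mem m3) huS, P.inv_left m3 huS, mul_inv_eq_one] at h4
    rw [P.mul_right m3 (hφS _ huS) (S.inv_mem huS), hinv _ m1 _ huS, P.inv_right m3 huS, h4,
      mul_inv_cancel]
  have h4 : φ u * u⁻¹ ∈ S := S.mul_mem (hφS _ huS) (S.inv_mem huS)
  refine hcent _ h4 fun x hx => ?_
  have h5 : g⁻¹ * (g⁻¹ * x * g⁻¹⁻¹) * g⁻¹⁻¹ ∈ S := P.conj_mem g⁻¹ (P.conj_mem g⁻¹ hx)
  have h6 := h3 _ h5
  have h7 : φ (φ (g⁻¹ * (g⁻¹ * x * g⁻¹⁻¹) * g⁻¹⁻¹)) = x := by
    simp only [φ]; group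
  rw [h7] at h6
  exact (c_eq_one.1 h6).symm

end Pairing

section Nil

variable {X : Type*} [AddCommGroup X] {Φ : AddMonoid.End X} {m n : ℕ}

theorem nil_step (hm : Φ ^ m = 1) (hn : ∀ x : X, n • x = 0) (hmn : m.Coprime n) {x : X}
    (h : (Φ - 1) ((Φ - 1) x) = 0) : (Φ - 1) x = 0 := by
  set u := (Φ - 1) x with hu
  have h1 : Φ u = u := by
    have : Φ u - u = 0 := h
    exact sub_eq_zero.1 this
  have h2 : Φ x = x + u := by
    have : u = Φ x - x := hu
    rw [this]; abel
  have h3 : ∀ k : ℕ, (Φ ^ k) x = x + k • u := by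
    intro k
    induction k with
    | zero => simp
    | succ k ih =>
      rw [pow_succ']
      change Φ ((Φ ^ k) x) = _
      rw [ih, map_add, map_nsmul, h1, h2, succ_nsmul]
      abel
  have h4 := h3 m
  rw [hm] at h4
  have h5 : m • u = 0 := by
    have h6 : x = x + m • u := h4
    exact (add_eq_left.1 h6.symm)
  have h6 := Nat.gcd_eq_gcd_ab m n
  rw [hmn.gcd_eq_one] at h6
  calc u = (1 : ℤ) • u := (one_zsmul u).symm
    _ = ((m : ℤ) * Nat.gcdA m n + (n : ℤ) * Nat.gcdB m n) • u := by rw [← h6]; rfl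
    _ = 0 := by
      rw [add_zsmul, mul_comm (m : ℤ), mul_comm (n : ℤ), mul_zsmul, mul_zsmul, natCast_zsmul,
        natCast_zsmul, h5, hn, smul_zero, smul_zero, add_zero]

theorem eq_one_of_key (hm : Φ ^ m = 1) (hodd : Odd m) (hn : ∀ x : X, n • x = 0)
    (hmn : m.Coprime n) (h : ∀ x : X, (Φ - 1) ((Φ * Φ - 1) ((1 - Φ) x)) = 0) : Φ = 1 := by
  have h1 : ∀ x : X, (Φ - 1) ((Φ - 1) ((Φ - 1) ((Φ + 1) x))) = 0 := by
    intro x
    have h2 : ((Φ - 1) * ((Φ - 1) * ((Φ - 1) * (Φ + 1)))) =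
        -((Φ - 1) * ((Φ * Φ - 1) * (1 - Φ))) := by
      noncomm_ring
    have h3 := congrArg (fun f : AddMonoid.End X => f x) h2
    have h4 : (Φ - 1) ((Φ - 1) ((Φ - 1) ((Φ + 1) x))) =
      -((Φ - 1) ((Φ * Φ - 1) ((1 - Φ) x))) := h3
    rw [h4, h, neg_zero]
  have h2 : ∀ x : X, (Φ * Φ) x = x := by
    intro x
    have h3 := nil_step hm hn hmn (nil_step hm hn hmn (h1 x))
    have h4 : ((Φ - 1) * (Φ + 1)) = Φ * Φ - 1 := by noncomm_ring
    have h5 : (Φ * Φ - 1) x = 0 := by
      rw [← h4]; exact h3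
    have h6 : (Φ * Φ) x - x = 0 := h5
    exact sub_eq_zero.1 h6
  have h3 : Φ ^ 2 = 1 := by rw [pow_two]; exact AddMonoidHom.ext h2
  obtain ⟨k, hk⟩ := hodd
  rw [hk, pow_add, pow_mul, h3, one_pow, one_mul, pow_one] at hm
  exact hm

end Nil

/-- The conclusion of the argument with the commutator pairing. -/
theorem Pair.trivial {L : Type*} [Group L] {A S : Subgroup L} (P : Pair A S)
    (hcent : ∀ x ∈ S, (∀ y ∈ S, x * y = y * x) → x ∈ A) {g : L}
    (hg : ∀ a ∈ A, g * a = a * g) {m : ℕ} (hgm : g ^ m = 1) (hodd : Odd m)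
    (hcop : m.Coprime (A.relIndex S))
    (hz : ∀ s ∈ S, c (s * (g * s * g⁻¹)⁻¹) (g * (s * (g * s * g⁻¹)⁻¹) * g⁻¹) = 1) :
    ∀ s ∈ S, g * s * g⁻¹ * s⁻¹ ∈ A := by
  have hAn : (A.subgroupOf S).Normal := by
    refine ⟨fun a ha s => ?_⟩
    rw [Subgroup.mem_subgroupOf] at ha ⊢
    have : ((s * a * s⁻¹ : S) : L) = a := by
      change (s : L) * a * (s : L)⁻¹ = a
      rw [P.cen s s.2 a ha]; group
    rw [this]
    exact ha
  let X := ↥S ⧸ A.subgroupOf S
  let _ : CommGroup X := { (inferInstance : Group X) with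
    mul_comm := by
      intro x y
      obtain ⟨x, rfl⟩ := QuotientGroup.mk_surjective x
      obtain ⟨y, rfl⟩ := QuotientGroup.mk_surjective y
      change ((x * y : S) : ↥S ⧸ A.subgroupOf S) = ((y * x : S) : ↥S ⧸ A.subgroupOf S)
      rw [QuotientGroup.eq, Subgroup.mem_subgroupOf]
      have h1 : (((x * y)⁻¹ * (y * x) : S) : L) = c (y : L)⁻¹ (x : L)⁻¹ := by
        change ((x : L) * y)⁻¹ * (y * x) = _
        unfold c; group
      rw [h1]
      exact P.comm _ (S.inv_mem y.2) _ (S.inv_mem x.2) }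
  let φ : ↥S →* ↥S :=
    { toFun := fun x => ⟨g * x * g⁻¹, P.conj_mem g x.2⟩
      map_one' := by apply Subtype.ext; simp
      map_mul' := fun x y => by
        apply Subtype.ext
        change g * ((x : L) * y) * g⁻¹ = g * x * g⁻¹ * (g * y * g⁻¹)
        group }
  have hφA : A.subgroupOf S ≤ (A.subgroupOf S).comap φ := by
    intro a ha
    rw [Subgroup.mem_subgroupOf] at ha
    rw [Subgroup.mem_comap, Subgroup.mem_subgroupOf]
    change g * (a : L) * g⁻¹ ∈ A
    rw [hg _ ha, mul_inv_cancel_right]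
    exact ha
  let ψ : X →* X := QuotientGroup.map _ _ φ hφA
  let Φ : AddMonoid.End (Additive X) := MonoidHom.toAdditive ψ
  have hΦ : ∀ x : S, Φ (Additive.ofMul (x : ↥S ⧸ A.subgroupOf S)) =
      Additive.ofMul ((φ x : S) : ↥S ⧸ A.subgroupOf S) := fun x => rfl
  have hrep : ∀ x : Additive X, ∃ s : S, x = Additive.ofMul (s : ↥S ⧸ A.subgroupOf S) := by
    intro x
    obtain ⟨s, hs⟩ := QuotientGroup.mk_surjective (Additive.toMul x)
    exact ⟨s, by rw [hs]; rfl⟩
  have hpow : ∀ (k : ℕ) (x : S), (Φ ^ k) (Additive.ofMul (x : ↥S ⧸ A.subgroupOf S)) =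
      Additive.ofMul (((⟨g ^ k * x * (g ^ k)⁻¹, P.conj_mem (g ^ k) x.2⟩ : S)) :
        ↥S ⧸ A.subgroupOf S) := by
    intro k x
    induction k with
    | zero => simp only [_root_.pow_zero, _root_.AddMonoid.End.coe_one, _root_.id_eq, _root_.one_mul, _root_.inv_one, _root_.mul_one, _root_.Subtype.coe_eta]
    | succ k ih =>
      rw [pow_succ']
      change Φ ((Φ ^ k) _) = _
      rw [ih, hΦ]
      congr 2
      apply Subtype.ext
      change g * (g ^ k * (x : L) * (g ^ k)⁻¹) * g⁻¹ = g ^ (k + 1) * x * (g ^ (k + 1))⁻¹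
      rw [pow_succ']; group
  have h1 : Φ = 1 := by
    refine eq_one_of_key (m := m) (n := A.relIndex S) ?_ hodd ?_ hcop ?_
    · apply AddMonoidHom.ext
      intro x
      obtain ⟨s, rfl⟩ := hrep x
      refine (hpow m s).trans ?_
      change Additive.ofMul _ = Additive.ofMul (s : ↥S ⧸ A.subgroupOf S)
      congr 2
      apply Subtype.ext
      change g ^ m * (s : L) * (g ^ m)⁻¹ = s
      rw [hgm]; group
    · intro x
      obtain ⟨s, rfl⟩ := hrep x
      rw [← ofMul_pow]
      have : ((s : ↥S ⧸ A.subgroupOf S)) ^ (A.relIndex S) = 1 := by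
        change ((s : ↥S ⧸ A.subgroupOf S)) ^ Nat.card (↥S ⧸ A.subgroupOf S) = 1
        exact pow_card_eq_one'
      rw [this]; rfl
    · intro x
      obtain ⟨t, rfl⟩ := hrep x
      have h2 := P.key hcent hg hz t t.2 _ rfl _ rfl
      set y : S := t * (φ t)⁻¹ with hy
      set u : S := φ (φ y) * y⁻¹ with hu
      have e1 : (1 - Φ) (Additive.ofMul (t : ↥S ⧸ A.subgroupOf S)) =
          Additive.ofMul (y : ↥S ⧸ A.subgroupOf S) := by
        change Additive.ofMul (t : ↥S ⧸ A.subgroupOf S) -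
          Φ (Additive.ofMul (t : ↥S ⧸ A.subgroupOf S)) = _
        rw [hΦ, ← ofMul_div, div_eq_mul_inv]
        rfl
      have e2 : (Φ * Φ - 1) (Additive.ofMul (y : ↥S ⧸ A.subgroupOf S)) =
          Additive.ofMul (u : ↥S ⧸ A.subgroupOf S) := by
        change Φ (Φ (Additive.ofMul (y : ↥S ⧸ A.subgroupOf S))) -
          (Additive.ofMul (y : ↥S ⧸ A.subgroupOf S)) = _
        rw [hΦ, hΦ, ← ofMul_div, div_eq_mul_inv]
        rfl
      have e3 : (Φ - 1) (Additive.ofMul (u : ↥S ⧸ A.subgroupOf S)) =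
          Additive.ofMul ((φ u * u⁻¹ : S) : ↥S ⧸ A.subgroupOf S) := by
        change Φ (Additive.ofMul (u : ↥S ⧸ A.subgroupOf S)) -
          (Additive.ofMul (u : ↥S ⧸ A.subgroupOf S)) = _
        rw [hΦ, ← ofMul_div, div_eq_mul_inv]
        rfl
      rw [e1, e2, e3]
      have e4 : ((φ u * u⁻¹ : S) : ↥S ⧸ A.subgroupOf S) = 1 := by
        rw [QuotientGroup.eq_one_iff, Subgroup.mem_subgroupOf]
        exact h2
      rw [e4]; rfl
  intro s hs
  have h2 := hΦ ⟨s, hs⟩
  rw [h1] at h2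
  have h3 : ((⟨s, hs⟩ : S) : ↥S ⧸ A.subgroupOf S) = ((φ ⟨s, hs⟩ : S) : ↥S ⧸ A.subgroupOf S) := h2
  rw [QuotientGroup.eq, Subgroup.mem_subgroupOf] at h3
  have h4 : s⁻¹ * (g * s * g⁻¹) ∈ A := h3
  have h5 := P.cen s hs _ h4
  have h6 : g * s * g⁻¹ * s⁻¹ = s⁻¹ * (g * s * g⁻¹) := by
    calc g * s * g⁻¹ * s⁻¹ = (s * (s⁻¹ * (g * s * g⁻¹))) * s⁻¹ := by group
      _ = _ := by rw [h5]; group
  rw [h6]
  exact h4

section

variable {L U : Type u} [Group L] [Finite L] [AddCommGroup U] [Finite U] [DistribMulAction L U]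
    {F : Type u} [Field F] [Finite F] [Module F U]

omit [Finite L] [Finite F] in
theorem Prim.card_fixed_sq (D : Prim L U F) (g : L)
    (hg : g ∈ Subgroup.centralizer (D.A : Set L)) (hodd : Odd (orderOf g))
    (hcop : (orderOf g).Coprime (D.A.relIndex D.S))
    (hne : ∃ s ∈ D.S, g * s * g⁻¹ * s⁻¹ ∉ D.A) :
    Nat.card {u : U // g • u = u} ^ 2 ≤ Nat.card U := by
  have hSA : ∀ s ∈ D.S, ∀ a ∈ D.A, s * a = a * s := fun s hs a ha =>
    (Subgroup.mem_centralizer_iff.1 (D.S_le hs) a ha).symm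
  have P : Pair D.A D.S := ⟨D.S_normal, D.A_le, hSA, D.comm_mem⟩
  have hgA : ∀ a ∈ D.A, g * a = a * g := fun a ha =>
    (Subgroup.mem_centralizer_iff.1 hg a ha).symm
  have hcent : ∀ x ∈ D.S, (∀ y ∈ D.S, x * y = y * x) → x ∈ D.A := fun x _ h =>
    D.cent_le (Subgroup.mem_centralizer_iff.2 fun y hy => (h y hy).symm)
  -- some `s` with nontrivial `z`
  obtain ⟨s, hs, hz⟩ : ∃ s ∈ D.S,
      c (s * (g * s * g⁻¹)⁻¹) (g * (s * (g * s * g⁻¹)⁻¹) * g⁻¹) ≠ 1 := by
    by_contra hcon
    push Not at hcon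
    obtain ⟨s, hs, hs'⟩ := hne
    exact hs' (P.trivial hcent hgA (pow_orderOf_eq_one g) hodd hcop hcon s hs)
  set y := s * (g * s * g⁻¹)⁻¹ with hy
  have hyS : y ∈ D.S := D.S.mul_mem hs (D.S.inv_mem (P.conj_mem g hs))
  have hyS' : g * y * g⁻¹ ∈ D.S := P.conj_mem g hyS
  have hzA : c y (g * y * g⁻¹) ∈ D.A := P.comm _ hyS _ hyS'
  -- `W ∩ sW = 0`
  have h0 : ∀ w : U, g • w = w → g • s⁻¹ • w = s⁻¹ • w → w = 0 := by
    intro w h1 h2
    have h3 : y • w = w := by
      have h4 : y = s * g * s⁻¹ * g⁻¹ := by rw [hy]; group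
      rw [h4, mul_smul, mul_smul, mul_smul, inv_smul_eq_iff.2 h1.symm, h2, smul_inv_smul]
    have h4 : (g * y * g⁻¹) • w = w := by
      rw [mul_smul, mul_smul, inv_smul_eq_iff.2 h1.symm, h3, h1]
    have h5 : c y (g * y * g⁻¹) • w = w := by
      have h6 : y⁻¹ • w = w := inv_smul_eq_iff.2 h3.symm
      have h7 : (g * y * g⁻¹)⁻¹ • w = w := inv_smul_eq_iff.2 h4.symm
      unfold c
      rw [mul_smul, mul_smul, mul_smul, h7, h6, h4, h3]
    have h6 := D.ι_spec ⟨_, hzA⟩ w
    change c y (g * y * g⁻¹) • w = _ at h6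
    rw [h5] at h6
    by_contra hw
    apply hz
    have h7 : ((D.ι ⟨_, hzA⟩ : Fˣ) : F) = 1 := by
      have h8 : (1 : F) • w = ((D.ι ⟨_, hzA⟩ : Fˣ) : F) • w := by rw [one_smul]; exact h6
      exact (smul_left_injective F hw h8).symm
    have h8 : D.ι ⟨_, hzA⟩ = D.ι 1 := by rw [map_one]; exact Units.ext h7
    exact congrArg Subtype.val (D.ι_inj h8)
  -- injection `W × W → U`
  have h1 : Nat.card ({u : U // g • u = u} × {u : U // g • u = u}) ≤ Nat.card U := by
    refine Nat.card_le_card_of_injective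
      (fun x : {u : U // g • u = u} × {u : U // g • u = u} => (x.1 : U) + s • (x.2 : U)) ?_
    rintro ⟨⟨a, ha⟩, ⟨b, hb⟩⟩ ⟨⟨a', ha'⟩, ⟨b', hb'⟩⟩ h
    have h2 : a + s • b = a' + s • b' := h
    have h3 : a - a' = s • (b' - b) := by
      rw [smul_sub, sub_eq_sub_iff_add_eq_add]
      rw [h2, add_comm]
    have h4 : a - a' = 0 := by
      apply h0
      · rw [smul_sub, ha, ha']
      · rw [h3, inv_smul_smul, smul_sub, hb, hb']
    have h5 : b' - b = 0 := by
      rw [h4] at h3
      exact (smul_eq_zero_iff_eq s).1 h3.symm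
    have h6 : a = a' := sub_eq_zero.1 h4
    have h7 : b = b' := (sub_eq_zero.1 h5).symm
    subst h6 h7
    rfl
  rw [Nat.card_prod] at h1
  rw [pow_two]
  exact h1

omit [Finite L] in
theorem Prim.card_fixed_pow (D : Prim L U F) {p : ℕ} (hp : p.Prime) (g : L)
    (hg : ∃ k : ℕ, g ^ p ^ k = 1) (hA : g ∉ Subgroup.centralizer (D.A : Set L)) :
    Nat.card {u : U // g • u = u} ^ p ≤ Nat.card U := by
  classical
  set s := D.σ g with hs
  have hs1 : s ≠ 1 := by
    intro h
    apply hA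
    rw [← D.σ_ker]
    exact h
  obtain ⟨k, hk⟩ := hg
  have hsk : s ^ p ^ k = 1 := by rw [hs, ← map_pow, hk, map_one]
  obtain ⟨j, hj, hjo⟩ := (Nat.dvd_prime_pow hp).1 (orderOf_dvd_of_pow_eq_one hsk)
  have hj0 : j ≠ 0 := by
    rintro rfl
    rw [pow_zero, orderOf_eq_one_iff] at hjo
    exact hs1 hjo
  have hple : p ≤ orderOf s := by
    rw [hjo]
    exact Nat.le_self_pow hj0 p
  -- a generator of the units
  obtain ⟨θ, hθ⟩ := IsCyclic.exists_generator (α := Fˣ)
  have hinj : Function.Injective fun i : Fin p => (s ^ (i : ℕ)) (θ : F) := by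
    intro i i' h
    have h1 : s ^ (i : ℕ) = s ^ (i' : ℕ) := by
      apply RingEquiv.ext
      intro x
      by_cases hx : x = 0
      · rw [hx, map_zero, map_zero]
      · obtain ⟨n, hn⟩ := hθ (Units.mk0 x hx)
        have hn' : θ ^ n = Units.mk0 x hx := hn
        have h2 : x = ((θ ^ n : Fˣ) : F) := by rw [hn']; rfl
        have h3 : (s ^ (i : ℕ)) (θ : F) = (s ^ (i' : ℕ)) (θ : F) := h
        rw [h2, Units.val_zpow_eq_zpow_val, map_zpow₀, map_zpow₀, h3]
    have h2 := pow_injOn_Iio_orderOf (x := s) (i.2.trans_le hple : (i : ℕ) < orderOf s)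
      (i'.2.trans_le hple : (i' : ℕ) < orderOf s) h1
    exact Fin.ext h2
  let M : Matrix (Fin p) (Fin p) F := Matrix.vandermonde fun i : Fin p => (s ^ (i : ℕ)) (θ : F)
  have hdet : M.det ≠ 0 := Matrix.det_vandermonde_ne_zero_iff.2 hinj
  have hM : ∀ i j : Fin p, M i j = (s ^ (i : ℕ)) ((θ : F) ^ (j : ℕ)) := by
    intro i j
    rw [map_pow]
    rfl
  have hgpow : ∀ (n : ℕ) (κ : F) (w : U), g • w = w → (g ^ n) • κ • w = (s ^ n) κ • w := by
    intro n κ w hw
    rw [D.σ_spec, map_pow, ← hs]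
    congr 1
    have h1 : g ∈ MulAction.stabilizer L w := hw
    exact (MulAction.stabilizer L w).pow_mem h1 n
  -- the key injectivity
  have hzero : ∀ w : Fin p → {u : U // g • u = u},
      (∑ j : Fin p, ((θ : F) ^ (j : ℕ)) • (w j : U)) = 0 → ∀ j, (w j : U) = 0 := by
    intro w hw
    have h1 : ∀ i : Fin p, ∑ j, M i j • (w j : U) = 0 := by
      intro i
      have h2 := congrArg (fun x => (g ^ (i : ℕ)) • x) hw
      simp only [smul_zero, Finset.smul_sum] at h2
      rw [← h2]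
      refine Finset.sum_congr rfl fun j _ => ?_
      rw [hM, hgpow _ _ _ (w j).2]
    intro j
    have h2 : ∑ i, M.adjugate j i • ∑ l, M i l • (w l : U) = 0 :=
      Finset.sum_eq_zero fun i _ => by rw [h1, smul_zero]
    have h3 : ∑ i, M.adjugate j i • ∑ l, M i l • (w l : U) = M.det • (w j : U) := by
      calc ∑ i, M.adjugate j i • ∑ l, M i l • (w l : U)
          = ∑ l, (∑ i, M.adjugate j i * M i l) • (w l : U) := by
            simp only [Finset.smul_sum, smul_smul, Finset.sum_smul]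
            exact Finset.sum_comm
        _ = ∑ l, (M.det • (1 : Matrix (Fin p) (Fin p) F)) j l • (w l : U) := by
            refine Finset.sum_congr rfl fun l _ => ?_
            rw [← Matrix.adjugate_mul]
            rfl
        _ = M.det • (w j : U) := by
            rw [Finset.sum_eq_single j]
            · simp only [_root_.Matrix.smul_apply, _root_.Matrix.one_apply_eq, _root_.smul_eq_mul, _root_.mul_one]
            · intro l _ hl
              simp only [Matrix.one_apply_ne hl.symm, _root_.Matrix.smul_apply, _root_.smul_eq_mul, _root_.MulZeroClass.mul_zero, _root_.zero_smul]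
            · intro h
              exact absurd (Finset.mem_univ j) h
    rw [h3] at h2
    exact (smul_eq_zero.1 h2).resolve_left hdet
  have h1 : Nat.card (Fin p → {u : U // g • u = u}) ≤ Nat.card U := by
    refine Nat.card_le_card_of_injective
      (fun w : Fin p → {u : U // g • u = u} => ∑ j : Fin p, ((θ : F) ^ (j : ℕ)) • (w j : U)) ?_
    intro w w' h
    have h2 := hzero (fun j => ⟨(w j : U) - w' j, by rw [smul_sub, (w j).2, (w' j).2]⟩) (by
      simp only [smul_sub, Finset.sum_sub_distrib]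
      exact sub_eq_zero.2 h)
    funext j
    exact Subtype.ext (sub_eq_zero.1 (h2 j))
  rw [Nat.card_fun, Nat.card_eq_fintype_card (α := Fin p), Fintype.card_fin] at h1
  exact h1

end

end Cfsg.Agent.H308.ClsFix
end

-- part: H184/ClsNum
section
/-!
# The numerical lemma of S4148 (task 1451, T5; helper184)
-/

set_option autoImplicit false

namespace Cfsg.Agent.H184.ClsNum

open Cfsg.Agent.H822.Cls

theorem poly2 (m : ℕ) (hm : 11 ≤ m) : 8 * m ^ 2 + 6 * m ≤ 2 ^ m := by
  induction m, hm using Nat.le_induction with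
  | base => norm_num
  | succ m hm ih =>
    rw [pow_succ 2]
    nlinarith

theorem poly2' (m : ℕ) (hm : 8 ≤ m) : 14 + 8 * m ^ 2 + 4 * m ≤ 3 * 2 ^ m := by
  induction m, hm using Nat.le_induction with
  | base => norm_num
  | succ m hm ih =>
    rw [pow_succ 2]
    nlinarith

theorem poly3 (m : ℕ) (hm : 5 ≤ m) : 8 * m ^ 2 + 6 * m + 1 ≤ 3 ^ m := by
  induction m, hm using Nat.le_induction with
  | base => norm_num
  | succ m hm ih =>
    rw [pow_succ 3]
    nlinarith

theorem poly3' (m : ℕ) (hm : 4 ≤ m) : 9 + 8 * m ^ 2 + 4 * m ≤ 2 * 3 ^ m := by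
  induction m, hm using Nat.le_induction with
  | base => norm_num
  | succ m hm ih =>
    rw [pow_succ 3]
    nlinarith

theorem poly5 (m : ℕ) (hm : 4 ≤ m) : 8 * m ^ 2 + 6 * m + 1 ≤ 5 ^ m := by
  induction m, hm using Nat.le_induction with
  | base => norm_num
  | succ m hm ih =>
    rw [pow_succ 5]
    linarith only [hm, ih, _root_.sq_nonneg (↑m : ℤ)]

theorem poly7 (m : ℕ) (hm : 2 ≤ m) : 8 * m ^ 2 + 6 * m + 1 ≤ 7 ^ m := by
  induction m, hm using Nat.le_induction with
  | base => norm_num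
  | succ m hm ih =>
    rw [pow_succ 7]
    linarith only [hm, ih, _root_.sq_nonneg (↑m : ℤ)]

/-- `2 ^ (2 p) ≤ 4 ^ (2 m + 1)` for `p ≤ 2 m + 1`. -/
theorem two_pow_le {p m : ℕ} (h : p ≤ 2 * m + 1) : 2 ^ (2 * p) ≤ 4 ^ (2 * m + 1) := by
  have e : (4 : ℕ) ^ (2 * m + 1) = 2 ^ (2 * (2 * m + 1)) := by
    rw [pow_mul]
    norm_num
  rw [e]
  exact Nat.pow_le_pow_right (by norm_num) (by omega)

/-- the case `q ≥ 5` -/
theorem factor_big {q m f p : ℕ} (hq : 4 ≤ q) (hf : q ≤ f) (hp : p ≤ 2 * m + 1)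
    (h : 8 * m ^ 2 + 6 * m + 1 ≤ q ^ m) :
    2 ^ (2 * p) * q ^ (8 * m ^ 2 + 4 * m) ≤ f ^ (q ^ m) := by
  calc 2 ^ (2 * p) * q ^ (8 * m ^ 2 + 4 * m)
      ≤ 4 ^ (2 * m + 1) * q ^ (8 * m ^ 2 + 4 * m) := Nat.mul_le_mul_right _ (two_pow_le hp)
    _ ≤ q ^ (2 * m + 1) * q ^ (8 * m ^ 2 + 4 * m) :=
        Nat.mul_le_mul_right _ (Nat.pow_le_pow_left hq _)
    _ = q ^ (8 * m ^ 2 + 6 * m + 1) := by rw [← pow_add]; congr 1; ring
    _ ≤ q ^ (q ^ m) := Nat.pow_le_pow_right (by omega) h
    _ ≤ f ^ (q ^ m) := Nat.pow_le_pow_left hf _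

/-- the case `q = 3`, `p ≥ 11` -/
theorem factor_three {m f p : ℕ} (hf : 4 ≤ f) (hp : p ≤ 2 * m + 1) (hm : 5 ≤ m) :
    2 ^ (2 * p) * 3 ^ (8 * m ^ 2 + 4 * m) ≤ f ^ (3 ^ m) := by
  calc 2 ^ (2 * p) * 3 ^ (8 * m ^ 2 + 4 * m)
      ≤ 4 ^ (2 * m + 1) * 4 ^ (8 * m ^ 2 + 4 * m) :=
        Nat.mul_le_mul (two_pow_le hp) (Nat.pow_le_pow_left (by norm_num) _)
    _ = 4 ^ (8 * m ^ 2 + 6 * m + 1) := by rw [← pow_add]; congr 1; ring
    _ ≤ 4 ^ (3 ^ m) := Nat.pow_le_pow_right (by norm_num) (poly3 m hm)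
    _ ≤ f ^ (3 ^ m) := Nat.pow_le_pow_left hf _

/-- the case `q = 3`, `p = 7` -/
theorem factor_three_seven {m f : ℕ} (hf : 9 ≤ f) (hm : 4 ≤ m) :
    2 ^ (2 * 7) * 3 ^ (8 * m ^ 2 + 4 * m) ≤ f ^ (3 ^ m) := by
  calc 2 ^ (2 * 7) * 3 ^ (8 * m ^ 2 + 4 * m)
      ≤ 3 ^ 9 * 3 ^ (8 * m ^ 2 + 4 * m) := Nat.mul_le_mul_right _ (by norm_num)
    _ = 3 ^ (9 + 8 * m ^ 2 + 4 * m) := by rw [← pow_add]; congr 1; ring
    _ ≤ 3 ^ (2 * 3 ^ m) := Nat.pow_le_pow_right (by norm_num) (poly3' m hm)
    _ = 9 ^ (3 ^ m) := by rw [pow_mul]; norm_num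
    _ ≤ f ^ (3 ^ m) := Nat.pow_le_pow_left hf _

/-- the case `q = 2`, `p ≥ 11` -/
theorem factor_two {m f p : ℕ} (hf : 2 ≤ f) (hp : p ≤ m) (hm : 11 ≤ m) :
    2 ^ (2 * p) * 2 ^ (8 * m ^ 2 + 4 * m) ≤ f ^ (2 ^ m) := by
  calc 2 ^ (2 * p) * 2 ^ (8 * m ^ 2 + 4 * m)
      = 2 ^ (2 * p + (8 * m ^ 2 + 4 * m)) := by rw [← pow_add]
    _ ≤ 2 ^ (8 * m ^ 2 + 6 * m) := Nat.pow_le_pow_right (by norm_num) (by omega)
    _ ≤ 2 ^ (2 ^ m) := Nat.pow_le_pow_right (by norm_num) (poly2 m hm)
    _ ≤ f ^ (2 ^ m) := Nat.pow_le_pow_left hf _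

/-- the case `q = 2`, `p = 7` -/
theorem factor_two_seven {m f : ℕ} (hf : 11 ≤ f) (hm : 7 ≤ m) :
    2 ^ (2 * 7) * 2 ^ (8 * m ^ 2 + 4 * m) ≤ f ^ (2 ^ m) := by
  rcases Nat.lt_or_ge 7 m with h | h
  · calc 2 ^ (2 * 7) * 2 ^ (8 * m ^ 2 + 4 * m)
        = 2 ^ (14 + 8 * m ^ 2 + 4 * m) := by rw [← pow_add]; congr 1; ring
      _ ≤ 2 ^ (3 * 2 ^ m) := Nat.pow_le_pow_right (by norm_num) (poly2' m h)
      _ = 8 ^ (2 ^ m) := by rw [pow_mul]; norm_num
      _ ≤ f ^ (2 ^ m) := Nat.pow_le_pow_left (by omega) _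
  · have hm7 : m = 7 := le_antisymm h hm
    subst hm7
    calc 2 ^ (2 * 7) * 2 ^ (8 * 7 ^ 2 + 4 * 7) = 2 ^ (2 * 7 + (8 * 7 ^ 2 + 4 * 7)) :=
          (pow_add 2 _ _).symm
      _ ≤ 2 ^ (110 * 4) := Nat.pow_le_pow_right (by norm_num) (by norm_num)
      _ = (2 ^ 110) ^ 4 := by rw [pow_mul]
      _ ≤ (11 ^ 32) ^ 4 := Nat.pow_le_pow_left (by norm_num) 4
      _ = 11 ^ (2 ^ 7) := by rw [← pow_mul]; norm_num
      _ ≤ f ^ (2 ^ 7) := Nat.pow_le_pow_left hf _

/-- One factor. -/
theorem one_factor {q m f p n : ℕ} (hq : q.Prime) (hf : 2 ≤ f) (hfq : q ∣ f - 1) (hp : p.Prime)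
    (hpf : ¬ p ∣ f) (hpq : p ≠ q) (h2 : q = 2 → p ≤ m) (hodd : q ≠ 2 → p ≤ 2 * m + 1)
    (h7 : p = 7 → q ≠ 2 → 4 ≤ m) (hgood : Good p n) (hqn : q ∣ n) (hfn : f ∣ n) :
    2 ^ (2 * p) * q ^ (8 * m ^ 2 + 4 * m) ≤ f ^ (q ^ m) := by
  obtain ⟨hp5, hg5, hg7⟩ := hgood
  have hqf : q ≤ f - 1 := Nat.le_of_dvd (by omega) hfq
  have hp11 : p ≠ 5 → p ≠ 7 → 11 ≤ p := by
    intro h5 h7
    by_contra h
    have : p = 6 ∨ p = 8 ∨ p = 9 ∨ p = 10 := by omega
    rcases this with rfl | rfl | rfl | rfl <;> exact absurd hp (by norm_num)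
  have hnf : ∀ r : ℕ, ¬ r ∣ n → ¬ r ∣ f := fun r h h' => h (h'.trans hfn)
  by_cases hq2 : q = 2
  · subst hq2
    have hpm := h2 rfl
    have hp5' : p ≠ 5 := fun h => (hg5 h).1 hqn
    by_cases hp7 : p = 7
    · subst hp7
      have h35 : ¬ 3 ∣ n ∧ ¬ 5 ∣ n := by
        rcases hg7 rfl with h | h | h
        · exact absurd hqn h.1
        · exact absurd hqn h.1
        · exact h
      have h3 := hnf 3 h35.1
      have h5 := hnf 5 h35.2
      refine factor_two_seven ?_ hpm
      by_contra hlt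
      have : f = 2 ∨ f = 3 ∨ f = 4 ∨ f = 5 ∨ f = 6 ∨ f = 7 ∨ f = 8 ∨ f = 9 ∨ f = 10 := by (clear * - hf hlt; omega)
      rcases this with rfl | rfl | rfl | rfl | rfl | rfl | rfl | rfl | rfl <;> (clear * - hfq hqn h35 hfn hpf; omega)
    · exact factor_two hf hpm ((hp11 hp5' hp7).trans hpm)
  · have hpm := hodd hq2
    by_cases hq3 : q = 3
    · subst hq3
      have hp5' : p ≠ 5 := fun h => (hg5 h).2 hqn
      by_cases hp7 : p = 7
      · subst hp7
        have h25 : ¬ 2 ∣ n ∧ ¬ 5 ∣ n := by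
          rcases hg7 rfl with h | h | h
          · exact absurd hqn h.2
          · exact h
          · exact absurd hqn h.1
        have h2' := hnf 2 h25.1
        refine factor_three_seven ?_ (h7 rfl hq2)
        by_contra hlt
        have : f = 2 ∨ f = 3 ∨ f = 4 ∨ f = 5 ∨ f = 6 ∨ f = 7 ∨ f = 8 := by (clear * - hf hlt; omega)
        rcases this with rfl | rfl | rfl | rfl | rfl | rfl | rfl <;> (clear * - h25 hfn hfq hpf; omega)
      · have := hp11 hp5' hp7
        exact factor_three (by omega) hpm (by omega)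
    · have hq5 : 5 ≤ q := by
        by_contra h
        have h2 := hq.two_le
        have : q = 4 := by omega
        subst this
        exact absurd hq (by norm_num)
      refine factor_big (by omega) (by omega) hpm ?_
      by_cases hq5' : q = 5
      · subst hq5'
        apply poly5
        by_cases hp7 : p = 7
        · exact h7 hp7 hq2
        · have := hp11 hpq hp7
          omega
      · have hq7 : 7 ≤ q := by
          by_contra h
          have : q = 6 := by omega
          subst this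
          exact absurd hq (by norm_num)
        exact (poly7 m (by omega)).trans (Nat.pow_le_pow_left hq7 m)

/-- The product over `I`. -/
theorem prod_I {I : Finset ℕ} (hIne : I.Nonempty) {m : ℕ → ℕ} {f p : ℕ} (hf : 2 ≤ f)
    (hx : ∀ q ∈ I, 2 ≤ q ^ m q)
    (h : ∀ q ∈ I, 2 ^ (2 * p) * q ^ (8 * m q ^ 2 + 4 * m q) ≤ f ^ (q ^ m q)) :
    2 ^ (2 * p) * ∏ q ∈ I, q ^ (8 * m q ^ 2 + 4 * m q) ≤ f ^ (∏ q ∈ I, q ^ m q) ∧
      2 ≤ ∏ q ∈ I, q ^ m q := by
  induction hIne using Finset.Nonempty.cons_induction with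
  | singleton a =>
    rw [Finset.prod_singleton, Finset.prod_singleton]
    exact ⟨h a (Finset.mem_singleton_self a), hx a (Finset.mem_singleton_self a)⟩
  | cons a s ha hs ih =>
    obtain ⟨h1, h2⟩ := ih (fun q hq => hx q (Finset.mem_cons_of_mem hq))
      (fun q hq => h q (Finset.mem_cons_of_mem hq))
    rw [Finset.prod_cons, Finset.prod_cons]
    have ha2 := hx a (Finset.mem_cons_self a s)
    have ha1 := h a (Finset.mem_cons_self a s)
    have hone : 1 ≤ 2 ^ (2 * p) := Nat.one_le_two_pow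
    have ha3 : a ^ (8 * m a ^ 2 + 4 * m a) ≤ f ^ (a ^ m a) :=
      le_trans (Nat.le_mul_of_pos_left _ hone) ha1
    set X := ∏ q ∈ s, q ^ m q with hX
    have hsum : a ^ m a + X ≤ a ^ m a * X := by nlinarith only [ha2, h2]
    refine ⟨?_, by linarith only [ha2, hsum]⟩
    calc 2 ^ (2 * p) * (a ^ (8 * m a ^ 2 + 4 * m a) * ∏ q ∈ s, q ^ (8 * m q ^ 2 + 4 * m q))
        = a ^ (8 * m a ^ 2 + 4 * m a) * (2 ^ (2 * p) * ∏ q ∈ s, q ^ (8 * m q ^ 2 + 4 * m q)) := by
          ring
      _ ≤ f ^ (a ^ m a) * f ^ X := Nat.mul_le_mul ha3 h1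
      _ = f ^ (a ^ m a + X) := by rw [pow_add]
      _ ≤ f ^ (a ^ m a * X) := Nat.pow_le_pow_right (by omega) hsum

theorem numeric (Q I : Finset ℕ) (m : ℕ → ℕ) (f p : ℕ) (hQ : ∀ q ∈ Q, q.Prime)
    (hm : ∀ q ∈ Q, 1 ≤ m q) (hI : I ⊆ Q) (hIne : I.Nonempty) (hf : 2 ≤ f)
    (hfQ : ∀ q ∈ Q, q ∣ f - 1) (hp : p.Prime) (hpf : ¬ p ∣ f) (hpQ : p ∉ Q)
    (h2 : 2 ∈ I → p ≤ m 2) (hodd : ∀ q ∈ I, q ≠ 2 → p ≤ 2 * m q + 1)
    (h7 : p = 7 → ∀ q ∈ I, q ≠ 2 → 4 ≤ m q) (hgood : Good p (f * ∏ q ∈ Q, q)) :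
    2 ^ (2 * p) * (∏ q ∈ Q, q ^ m q) ^ 4 * ∏ q ∈ I, q ^ (8 * m q ^ 2) ≤
      f ^ (∏ q ∈ Q, q ^ m q) := by
  have hp5 : 5 ≤ p := hgood.1
  have hx : ∀ q ∈ Q, 2 ≤ q ^ m q := fun q hq =>
    (hQ q hq).two_le.trans (Nat.le_self_pow (by have := hm q hq; omega) q)
  have h1 : ∀ q ∈ I, 2 ^ (2 * p) * q ^ (8 * m q ^ 2 + 4 * m q) ≤ f ^ (q ^ m q) := by
    intro q hq
    refine one_factor (hQ q (hI hq)) hf (hfQ q (hI hq)) hp hpf
      (fun h => hpQ (h ▸ hI hq)) ?_ (hodd q hq) (fun h => h7 h q hq) hgood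
      ((Finset.dvd_prod_of_mem (fun q => q) (hI hq)).trans (Dvd.intro_left _ rfl)) (Dvd.intro _ rfl)
    rintro rfl
    exact h2 hq
  obtain ⟨hprod, -⟩ := prod_I hIne hf (fun q hq => hx q (hI hq)) h1
  -- the product over `I` is at least 4
  have hI4 : 4 ≤ ∏ q ∈ I, q ^ m q := by
    obtain ⟨q, hq⟩ := hIne
    have hpos : ∀ r ∈ I, 0 < r ^ m r := fun r hr => by have := hx r (hI hr); omega
    have hle : q ^ m q ≤ ∏ q ∈ I, q ^ m q :=
      Nat.le_of_dvd (Finset.prod_pos hpos) (Finset.dvd_prod_of_mem (fun q => q ^ m q) hq)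
    refine le_trans ?_ hle
    have hm2 : 2 ≤ m q := by
      by_cases hq2 : q = 2
      · subst hq2
        have := h2 hq
        omega
      · have := hodd q hq hq2
        omega
    calc 4 = 2 ^ 2 := rfl
      _ ≤ q ^ 2 := Nat.pow_le_pow_left (hQ q (hI hq)).two_le 2
      _ ≤ q ^ m q := Nat.pow_le_pow_right (hQ q (hI hq)).pos hm2
  have hsplit : ∏ q ∈ Q, q ^ m q = (∏ q ∈ I, q ^ m q) * ∏ q ∈ Q \ I, q ^ m q := by
    rw [mul_comm]
    exact (Finset.prod_sdiff hI).symm
  set eI := ∏ q ∈ I, q ^ m q with heI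
  set e' := ∏ q ∈ Q \ I, q ^ m q with he'
  have he'pos : 1 ≤ e' := by
    change 0 < ∏ q ∈ Q \ I, q ^ m q
    refine Finset.prod_pos fun q hq => ?_
    have := hx q (Finset.sdiff_subset hq)
    omega
  have hmul : ∏ q ∈ I, q ^ (8 * m q ^ 2 + 4 * m q) = eI ^ 4 * ∏ q ∈ I, q ^ (8 * m q ^ 2) := by
    rw [heI, ← Finset.prod_pow, ← Finset.prod_mul_distrib]
    refine Finset.prod_congr rfl fun q _ => ?_
    rw [← pow_mul, ← pow_add]
    congr 1
    ring
  rw [hmul] at hprod
  rw [hsplit]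
  obtain ⟨d, hd⟩ : ∃ d, e' = d + 1 := ⟨e' - 1, by omega⟩
  rw [hd]
  have h4 : (d + 1) ^ 4 ≤ f ^ (eI * d) := by
    calc (d + 1) ^ 4 ≤ (2 ^ d) ^ 4 := Nat.pow_le_pow_left (Nat.lt_two_pow_self) 4
      _ = 2 ^ (4 * d) := by rw [← pow_mul, mul_comm]
      _ ≤ 2 ^ (eI * d) := Nat.pow_le_pow_right (by norm_num) (Nat.mul_le_mul_right _ hI4)
      _ ≤ f ^ (eI * d) := Nat.pow_le_pow_left hf _
  calc 2 ^ (2 * p) * (eI * (d + 1)) ^ 4 * ∏ q ∈ I, q ^ (8 * m q ^ 2)
      = (2 ^ (2 * p) * (eI ^ 4 * ∏ q ∈ I, q ^ (8 * m q ^ 2))) * (d + 1) ^ 4 := by ring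
    _ ≤ f ^ eI * f ^ (eI * d) := Nat.mul_le_mul hprod h4
    _ = f ^ (eI * (d + 1)) := by rw [← pow_add]; congr 1; ring

end Cfsg.Agent.H184.ClsNum
end

-- part: H822/Cls/Plug
section
/-!
# Plugging the parts of S4148 together: the solvable part
-/

set_option autoImplicit false

namespace Cfsg.Agent.H822.Cls

open scoped Pointwise commutatorElement

universe u

theorem existsPrim : ExistsPrim.{u} := by
  classical
  intro L U _ _ _ _ _ _ _ r hr hrU hfaith hirr hI
  -- a maximal abelian normal subgroup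
  obtain ⟨A, ⟨hA1, hA2⟩, hmax⟩ := (Set.toFinite {A : Subgroup L | A.Normal ∧ IsMulCommutative A}).exists_maximal
    ⟨⊥, inferInstance, inferInstance⟩
  obtain ⟨F, hF1, hF2, hF3, σ, ι, h1, h2, h3, h4⟩ :=
    H24.Cls.exists_field hr hrU hfaith hirr hI A hA1 hA2
  have hmax' : ∀ B : Subgroup L, B.Normal → IsMulCommutative B → A ≤ B → B = A := fun B hB1 hB2 hB3 =>
    le_antisymm (hmax ⟨hB1, hB2⟩ hB3) hB3
  obtain ⟨S, s1, s2, s3, s4, s5, s6, s7, s8⟩ := H24.Cls.exists_S A hA1 hA2 hmax' ι h3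
  exact ⟨F, hF1, hF2, hF3, ⟨⟨σ, h1, A, S, hA1, s1, s2, s3, ι, h2, h3, h4, s4, s5, s6, s7, s8⟩⟩⟩

theorem fixedSq : FixedSq.{u} := by
  intro L U F _ _ _ _ _ _ _ _ D g h1 h2 h3 h4
  exact H308.ClsFix.Prim.card_fixed_sq D g h1 h2 h3 h4

theorem fixedPow : FixedPow.{u} := by
  intro L U F _ _ _ _ _ _ _ _ D p hp g h1 h2
  exact H308.ClsFix.Prim.card_fixed_pow D hp g h1 h2

theorem numeric : Numeric := by
  intro Q I m f p h1 h2 h3 h4 h5 h6 h7 h8 h9 h10 h11 h12 h13
  exact H184.ClsNum.numeric Q I m f p h1 h2 h3 h4 h5 h6 h7 h8 h9 h10 h11 h12 h13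

theorem imprimStep : ImprimStep.{u} := by
  intro L U _ _ _ _ _ _ _ M H r n h1 h2 h3 h4 h5 h6 h7 IH hI
  exact H158.Cls7.imprim_step H308.ClsSet.setLemma M H r n h1 h2 h3 h4 h5 h6 h7 IH hI

theorem twoObjects (hNum : ExistsNum.{u}) (hNot : NotMem.{u}) (hRel : RelIndexLe.{u}) (hDim : DimBound.{u}) :
    TwoObjects.{u} :=
  H463.Cls.two_objects (linear (primStep existsPrim hNum fixedSq fixedPow numeric hNot hRel hDim) imprimStep)

end Cfsg.Agent.H822.Cls
end

private theorem dce_5536d5dde002 : _root_.True := by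
  try have : _root_.True := by simp only [_root_.Cfsg.Agent.H308.ClsFix.c.eq_1]
  exact _root_.True.intro
end

-- part: H822/Cls/Parts
section
prune_inst 0xd0001100450002000000000050001c42a2000000004b8400c5800004048b5c6000000620b0000b03080208040038002000cc00000000000000000000411805a18000000020000000060099000800000000000000000000000000000000051000200000000
set_option linter.all false
open scoped Cfsg.Agent.FastGrp

-- part: H668/Dim/Bound
section
/-!
# Dimension bounds for the parts of `S / A` (part T4b of S4148)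
-/

set_option autoImplicit false
set_option linter.unusedSectionVars false

namespace Cfsg.Agent.H668.Dim

open scoped Pointwise commutatorElement
open Cfsg.Agent.H822.Cls

universe u

section

variable {L U F : Type u} [Group L] [AddCommGroup U] [DistribMulAction L U] [Field F] [Module F U]
  (D : Prim L U F)

theorem cm_congr {s s' t : L} (hs : s ∈ D.S) (ht : t ∈ D.S) (h : s⁻¹ * s' ∈ D.A) :
    ⁅s, t⁆ = ⁅s', t⁆ := by
  have h1 : s' = s * (s⁻¹ * s') := by group
  rw [h1, cm_mul_left D hs (D.A_le h) ht, A_cm D h ht, mul_one]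

theorem cm_sq {s t : L} (hs : s ∈ XL D 2) (ht : t ∈ D.S) : ⁅s, t⁆ ^ 2 = 1 := by
  rw [← cm_pow_left D hs.1 ht, A_cm D hs.2 ht]

/-- there is at most one element of order two in `A` -/
theorem inv_unique {a b : L} (ha : a ∈ D.A) (hb : b ∈ D.A) (ha2 : a ^ 2 = 1) (hb2 : b ^ 2 = 1) (ha1 : a ≠ 1)
    (hb1 : b ≠ 1) : a = b := by
  have key : ∀ c : D.A, (c : L) ^ 2 = 1 → (c : L) ≠ 1 → ((D.ι c : Fˣ) : F) = -1 := by
    intro c hc hc1
    have h0 : c ^ 2 = 1 := Subtype.ext hc
    have h1 : D.ι c ^ 2 = 1 := by rw [← map_pow, h0, map_one]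
    have h2 : ((D.ι c : Fˣ) : F) ^ 2 = 1 := by rw [← Units.val_pow_eq_pow_val, h1, Units.val_one]
    rcases sq_eq_one_iff.1 h2 with h3 | h3
    · exfalso
      apply hc1
      have h4 : D.ι c = D.ι 1 := by rw [map_one]; exact Units.ext h3
      rw [D.ι_inj h4]
      rfl
    · exact h3
  have h5 : D.ι ⟨a, ha⟩ = D.ι ⟨b, hb⟩ := Units.ext ((key ⟨a, ha⟩ ha2 ha1).trans (key ⟨b, hb⟩ hb2 hb1).symm)
  exact congrArg Subtype.val (D.ι_inj h5)

open Classical in
/-- the commutator form on `X_2` -/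
noncomputable def beta (x y : Additive (XQ D 2)) : ZMod 2 :=
  if (∃ s t : L, ∃ hs : s ∈ XL D 2, ∃ ht : t ∈ XL D 2,
    cl D hs = x.toMul ∧ cl D ht = y.toMul ∧ ⁅s, t⁆ = 1) then 0 else 1

open Classical in
theorem beta_cl {s t : L} (hs : s ∈ XL D 2) (ht : t ∈ XL D 2) :
    beta D (Additive.ofMul (cl D hs)) (Additive.ofMul (cl D ht)) = if ⁅s, t⁆ = 1 then 0 else 1 := by
  unfold beta
  congr 1
  apply propext
  constructor
  · rintro ⟨s', t', hs', ht', h1, h2, h3⟩
    have h4 := (cl_eq_iff D hs' hs).1 h1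
    have h5 := (cl_eq_iff D ht' ht).1 h2
    rw [← cm_congr D hs'.1 ht.1 h4, ← commutatorElement_inv, ← cm_congr D ht'.1 hs'.1 h5,
      commutatorElement_inv, h3]
  · intro h
    exact ⟨s, t, hs, ht, rfl, rfl, h⟩

theorem beta_symm (x y : Additive (XQ D 2)) : beta D x y = beta D y x := by
  obtain ⟨s, hs, hx⟩ := exists_cl D x.toMul
  obtain ⟨t, ht, hy⟩ := exists_cl D y.toMul
  have hx' : x = Additive.ofMul (cl D hs) := hx
  have hy' : y = Additive.ofMul (cl D ht) := hy
  rw [hx', hy', beta_cl, beta_cl]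
  congr 1
  rw [commutatorElement_eq_one_iff_mul_comm, commutatorElement_eq_one_iff_mul_comm]
  exact propext eq_comm

theorem beta_add (x y z : Additive (XQ D 2)) : beta D (x + y) z = beta D x z + beta D y z := by
  obtain ⟨s, hs, hx⟩ := exists_cl D x.toMul
  obtain ⟨t, ht, hy⟩ := exists_cl D y.toMul
  obtain ⟨r, hr, hz⟩ := exists_cl D z.toMul
  have hx' : x = Additive.ofMul (cl D hs) := hx
  have hy' : y = Additive.ofMul (cl D ht) := hy
  have hz' : z = Additive.ofMul (cl D hr) := hz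
  have hxy : x + y = Additive.ofMul (cl D ((XL D 2).mul_mem hs ht)) := by
    rw [hx', hy', ← cl_mul D hs ht]; rfl
  rw [hxy, hx', hy', hz', beta_cl, beta_cl, beta_cl, cm_mul_left D hs.1 ht.1 hr.1]
  by_cases h1 : ⁅s, r⁆ = 1
  · rw [h1, one_mul, if_pos rfl, zero_add]
  · by_cases h2 : ⁅t, r⁆ = 1
    · rw [h2, mul_one, if_pos rfl, add_zero]
    · have h3 : ⁅s, r⁆ = ⁅t, r⁆ :=
        inv_unique D (cm_mem D hs.1 hr.1) (cm_mem D ht.1 hr.1) (cm_sq D hs hr.1) (cm_sq D ht hr.1) h1 h2
      rw [if_neg h1, if_neg h2, h3, ← pow_two, cm_sq D ht hr.1, if_pos rfl]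
      decide

theorem beta_add' (x y z : Additive (XQ D 2)) : beta D x (y + z) = beta D x y + beta D x z := by
  rw [beta_symm, beta_add, beta_symm D y, beta_symm D z]

theorem beta_nondeg (x : Additive (XQ D 2)) (h : ∀ y, beta D x y = 0) : x = 0 := by
  obtain ⟨s, hs, hx⟩ := exists_cl D x.toMul
  have hx' : x = Additive.ofMul (cl D hs) := hx
  have h1 : ∀ t ∈ XL D 2, ⁅s, t⁆ = 1 := by
    intro t ht
    have h2 := h (Additive.ofMul (cl D ht))
    rw [hx', beta_cl] at h2
    by_contra h3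
    rw [if_neg h3] at h2
    exact one_ne_zero h2
  have h4 : s ∈ D.A := by
    apply D.cent_le
    rw [Subgroup.mem_centralizer_iff]
    intro t ht
    obtain ⟨N, hN, htN⟩ := D.prime_exp t ht
    rw [eq_comm, ← commutatorElement_eq_one_iff_mul_comm]
    have h5 := cm_sq D hs ht
    -- an odd power of `t` lies in `XL`
    have h6 : ∃ k : ℕ, Odd k ∧ ⁅s, t⁆ ^ k = 1 := by
      rcases Nat.even_or_odd N with ⟨c, hc⟩ | hodd
      · refine ⟨c, ?_, ?_⟩
        · rw [← Nat.not_even_iff_odd]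
          rintro ⟨b, hb⟩
          have h7 : 2 * 2 ∣ N := ⟨b, by omega⟩
          have h8 := hN 2 h7
          rw [Nat.isUnit_iff] at h8
          omega
        · rw [← cm_pow_right D hs.1 ht]
          apply h1
          refine ⟨D.S.pow_mem ht c, ?_⟩
          rw [← pow_mul, mul_comm c 2, two_mul, ← hc]
          exact htN
      · refine ⟨N, hodd, ?_⟩
        rw [← cm_pow_right D hs.1 ht, ← commutatorElement_inv, A_cm D htN hs.1, inv_one]
    obtain ⟨k, ⟨c, hc⟩, hk⟩ := h6
    rw [hc, pow_add, pow_mul, h5, one_pow, one_mul, pow_one] at hk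
    exact hk
  rw [hx', (cl_eq_one_iff D hs).2 h4]
  rfl

theorem beta_inv (g : L) (x y : Additive (XQ D 2)) :
    beta D (Additive.ofMul (rho D 2 g x.toMul)) (Additive.ofMul (rho D 2 g y.toMul)) = beta D x y := by
  obtain ⟨s, hs, hx⟩ := exists_cl D x.toMul
  obtain ⟨t, ht, hy⟩ := exists_cl D y.toMul
  have hx' : x = Additive.ofMul (cl D hs) := hx
  have hy' : y = Additive.ofMul (cl D ht) := hy
  rw [hx, hy, rho_cl, rho_cl, beta_cl, hx', hy', beta_cl]
  congr 1
  apply propext
  have h1 : ⁅g * s * g⁻¹, g * t * g⁻¹⁆ = g * ⁅s, t⁆ * g⁻¹ := by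
    simp only [commutatorElement_def]
    group
  rw [h1]
  constructor
  · intro h
    have h2 : g⁻¹ * (g * ⁅s, t⁆ * g⁻¹) * g = g⁻¹ * 1 * g := by rw [h]
    have h3 : g⁻¹ * (g * ⁅s, t⁆ * g⁻¹) * g = ⁅s, t⁆ := by group
    rw [← h3, h2, mul_one, inv_mul_cancel]
  · intro h
    rw [h, mul_one, mul_inv_cancel]

end

theorem dim_bound (h1 : LemD.{u}) (h2 : LemDTwo.{u}) : DimBound.{u} := by
  intro L U F _ _ _ _ _ _ _ _ _ _ D Q m hD M H hS p hp hp2 hpH P q hqQ hne
  have hq := hD.prime q hqQ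
  have hqp : q ≠ p := by
    rintro rfl
    exact not_mem D hD M H hS hp hpH hqQ
  refine ⟨hqp, ?_⟩
  have hEn : (⁅M, (P : Subgroup L)⁆ : Subgroup L).Normal := hS.commutator_normal' hp hpH P
  have hEP := hS.commutator_commutator hp hpH P
  have hpE : ¬ p ∣ Nat.card (⁅M, (P : Subgroup L)⁆ : Subgroup L) := by
    intro h
    have h3 : p ∣ Nat.card M := h.trans (Subgroup.card_dvd_of_le (hS.commutator_le _))
    exact hp.one_lt.ne' (Nat.eq_one_of_dvd_coprimes hS.cop h3 hpH)
  obtain ⟨K, hKs, hqK, P', hP'⟩ := exists_section (rho D q).rangeRestrict (rho D q).rangeRestrict_surjective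
    hp hq hqp ⁅M, (P : Subgroup L)⁆ hEn P hpE hEP
    (by
      intro E' hE'n _ h x hx
      have h3 := D.ss q hq E' hE'n (by
        intro y hy
        obtain ⟨k, hk⟩ := h y hy
        refine ⟨k, ?_⟩
        have h4 : rho D q (y ^ q ^ k) = 1 := by
          rw [map_pow]
          exact congrArg Subtype.val hk
        exact (rho_eq_one_iff D _).1 h4) x hx
      exact Subtype.ext ((rho_eq_one_iff D x).2 h3))
    (by
      intro h
      apply hne
      intro x hx
      exact (rho_eq_one_iff D x).1 (congrArg Subtype.val (h x hx)))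
  let _ := act ((rho D q).range.subtype.comp K.subtype)
  have hLf : Finite (L ⧸ D.A) := inferInstance
  have hXf : Finite (Additive (XQ D q)) := inferInstanceAs (Finite (XQ D q))
  have hcard : Nat.card (Additive (XQ D q)) = q ^ (2 * m q) := card_XQ D hD hqQ
  have hX : ∀ x : Additive (XQ D q), q • x = 0 := fun x => cl_pow D q x.toMul
  have hfaith : ∀ g : K, (∀ x : Additive (XQ D q), g • x = x) → g = 1 := by
    intro g hg
    refine Subtype.ext (Subtype.ext ?_)
    ext x
    exact congrArg Subtype.val (hg (Additive.ofMul x))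
  constructor
  · rintro rfl
    have hodd : Odd (Nat.card K) := by
      rw [← Nat.not_even_iff_odd, even_iff_two_dvd]
      exact hqK
    have h3 := h2 p hp K hodd (Additive (XQ D 2)) hX hfaith (beta D) (beta_add D) (beta_add' D) (beta_nondeg D)
      (by
        rintro ⟨⟨_, g, rfl⟩, hg⟩ x y
        exact beta_inv D g x y) P' hP' _ hcard
    omega
  · intro hq2
    have h3 := h1 q p hq hp K hqK (Additive (XQ D q)) hX hfaith P' hP' _ hcard
    have hm := hD.one_le q hqQ
    constructor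
    · rcases h3 with h3 | ⟨h3, _⟩ <;> omega
    · rintro rfl
      rcases h3 with h3 | ⟨h3, k, hk⟩
      · omega
      · exfalso
        have h6 : 2 ^ k = 6 := by omega
        have h7 : k < 3 := by
          by_contra h
          have : 2 ^ 3 ≤ 2 ^ k := Nat.pow_le_pow_right (by norm_num) (by omega)
          omega
        interval_cases k <;> omega

end Cfsg.Agent.H668.Dim
end

-- part: H96/Cls/LemD
section
/-!
# S4148, T3: nonnormal Sylow subgroups of linear groups in coprime characteristic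
-/

set_option autoImplicit false
set_option linter.style.haveILetI false

namespace Cfsg.Agent.H96.Cls.LemD

open scoped Pointwise commutatorElement
open Cfsg.Agent.H822.Cls Module

universe u

theorem lemD {q p : ℕ} (hq : q.Prime) (hp : p.Prime) {D : Type u} [Group D] [Finite D] [Group.IsSolvable D]
    (hqD : ¬ q ∣ Nat.card D) {X : Type u} [AddCommGroup X] [Finite X] (hX : ∀ x : X, q • x = 0)
    [DistribMulAction D X] (hfaith : ∀ g : D, (∀ x : X, g • x = x) → g = 1) (P : Sylow p D)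
    (hP : ¬ (P : Subgroup D).Normal) {n : ℕ} (hn : Nat.card X = q ^ n) :
    p ≤ n ∨ (n + 1 = p ∧ ∃ k : ℕ, n = 2 ^ k) := by
  haveI : Fact q.Prime := ⟨hq⟩
  haveI : Fact p.Prime := ⟨hp⟩
  haveI : FaithfulSMul D X := ⟨fun {a b} hab => by
    have h := hfaith (a⁻¹ * b) (fun x => by rw [mul_smul, ← hab x, inv_smul_smul])
    rw [inv_mul_eq_one] at h
    exact h⟩
  obtain ⟨ρ, hρ⟩ := Cfsg.Agent.H717.Rep.exists_rep (D := D) (E := X) (p := q) hX hqD hn
  rcases Nat.lt_or_ge n p with h | h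
  · obtain ⟨h1, h2, -⟩ := Cfsg.Agent.H599.Ito.main ρ hρ
      (Cfsg.Agent.Lib.PSolvable.IsPSolvable_of_solvable (G := D) p) h P hP
    exact Or.inr ⟨h1, h2⟩
  · exact Or.inl h

/-- The real lift of an orthogonal/symplectic representation of odd degree group in characteristic two. -/
theorem exists_real_rep {D : Type u} [Group D] [Finite D] (hD : Odd (Nat.card D)) {X : Type u}
    [AddCommGroup X] [Finite X] (hX : ∀ x : X, 2 • x = 0) [DistribMulAction D X]
    (hfaith : ∀ g : D, (∀ x : X, g • x = x) → g = 1) (β : X → X → ZMod 2)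
    (hβ : ∀ x y z, β (x + y) z = β x z + β y z) (hβ' : ∀ x y z, β x (y + z) = β x y + β x z)
    (hnd : ∀ x, (∀ y, β x y = 0) → x = 0) (hinv : ∀ (g : D) (x y : X), β (g • x) (g • y) = β x y)
    {n : ℕ} (hn : Nat.card X = 2 ^ n) :
    ∃ ρ : Representation ℂ D (Fin n → ℂ), Function.Injective ρ ∧ ∀ g : D, ρ.character g⁻¹ = ρ.character g := by
  classical
  haveI : Fact (Nat.Prime 2) := ⟨Nat.prime_two⟩
  haveI := Fintype.ofFinite D
  letI : Module (ZMod 2) X := AddCommGroup.zmodModule (n := 2) hX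
  let θ : D →* Module.End (ZMod 2) X :=
    { toFun := fun g => AddMonoidHom.toZModLinearMap 2 (DistribMulAction.toAddMonoidEnd D X g)
      map_one' := by
        refine LinearMap.ext fun v => ?_
        exact one_smul D v
      map_mul' := fun g g' => by
        refine LinearMap.ext fun v => ?_
        exact mul_smul g g' v }
  have hθ : ∀ g x, θ g x = g • x := fun _ _ => rfl
  haveI : Module.Finite (ZMod 2) X := Module.Finite.of_finite
  have hnn : Module.finrank (ZMod 2) X = n := by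
    have h1 := Module.natCard_eq_pow_finrank (K := ZMod 2) (V := X)
    rw [Nat.card_zmod, hn] at h1
    exact (Nat.pow_right_injective le_rfl h1).symm
  let b : Module.Basis (Fin n) (ZMod 2) X := (Module.finBasis (ZMod 2) X).reindex (finCongr hnn)
  let f : D →* Matrix (Fin n) (Fin n) (ZMod 2) :=
    (LinearMap.toMatrixAlgEquiv b : Module.End (ZMod 2) X ≃ₐ[ZMod 2] _).toAlgHom.toRingHom.toMonoidHom.comp θ
  have hc : (Nat.card D).Coprime 2 := (Nat.coprime_two_right (n := Nat.card D)).2 hD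
  obtain ⟨τ, hτ⟩ := Cfsg.Agent.H348.Lift.exists_lift hc f.toHomUnits
  have hτ' : ∀ g, ((τ g : GL (Fin n) ℤ_[2]) : Matrix (Fin n) (Fin n) ℤ_[2]).map (PadicInt.toZMod (p := 2)) = f g :=
    fun g => congrArg Units.val (hτ g)
  obtain ⟨ι, hι⟩ := Cfsg.Agent.H717.Rep.exists_padic_embedding 2
  -- the form
  have hβs : ∀ (c : ZMod 2) (x y : X), β (c • x) y = c * β x y := by
    intro c x y
    have h0 : β 0 y = 0 := by
      have := hβ 0 0 y
      rw [add_zero] at this
      exact (left_eq_add.1 this)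
    fin_cases c
    · change β ((0 : ZMod 2) • x) y = 0 * β x y
      rw [zero_smul, zero_mul, h0]
    · change β ((1 : ZMod 2) • x) y = 1 * β x y
      rw [one_smul, one_mul]
  have hβs' : ∀ (c : ZMod 2) (x y : X), β x (c • y) = c * β x y := by
    intro c x y
    have h0 : β x 0 = 0 := by
      have := hβ' x 0 0
      rw [add_zero] at this
      exact (left_eq_add.1 this)
    fin_cases c
    · change β x ((0 : ZMod 2) • y) = 0 * β x y
      rw [zero_smul, zero_mul, h0]
    · change β x ((1 : ZMod 2) • y) = 1 * β x y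
      rw [one_smul, one_mul]
  let B : LinearMap.BilinForm (ZMod 2) X := LinearMap.mk₂ (ZMod 2) β hβ (fun c x y => by rw [hβs, smul_eq_mul]) hβ'
    (fun c x y => by rw [hβs', smul_eq_mul])
  have hB : ∀ x y, B x y = β x y := fun _ _ => rfl
  let M : Matrix (Fin n) (Fin n) (ZMod 2) := LinearMap.BilinForm.toMatrix b B
  have hMij : ∀ i j, M i j = B (b i) (b j) := fun i j => LinearMap.BilinForm.toMatrix_apply b B i j
  have hM : M.det ≠ 0 := by
    intro h0
    obtain ⟨v, hv, hv0⟩ := Matrix.exists_vecMul_eq_zero_iff.2 h0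
    apply hv
    have h1 : B (b.equivFun.symm v) = 0 := by
      apply b.ext
      intro j
      have h2 := congrFun hv0 j
      rw [Matrix.vecMul, dotProduct, Pi.zero_apply] at h2
      rw [Module.Basis.equivFun_symm_apply, map_sum, LinearMap.sum_apply, LinearMap.zero_apply]
      rw [← h2]
      refine Finset.sum_congr rfl fun i _ => ?_
      rw [map_smul, LinearMap.smul_apply, smul_eq_mul, hMij]
    have h3 : b.equivFun.symm v = 0 := hnd _ fun y => by
      rw [← hB, h1, LinearMap.zero_apply]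
    rwa [LinearEquiv.map_eq_zero_iff] at h3
  have hMf : ∀ g, (f g).transpose * M * f g = M := by
    intro g
    have h1 : LinearMap.BilinForm.toMatrix b (B.comp (θ g) (θ g)) = (f g).transpose * M * f g :=
      LinearMap.BilinForm.toMatrix_comp b b B (θ g) (θ g)
    rw [← h1]
    congr 1
    ext x y
    exact hinv g x y
  -- lift of the Gram matrix
  have hs : Function.Surjective (PadicInt.toZMod (p := 2)) := ZMod.ringHom_surjective _
  choose s hs using hs
  let B₀ : Matrix (Fin n) (Fin n) ℤ_[2] := M.map s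
  have hB₀ : B₀.map (PadicInt.toZMod (p := 2)) = M := by
    ext i j
    simp [B₀, hs]
  let t : D → Matrix (Fin n) (Fin n) ℤ_[2] := fun g => ((τ g : GL (Fin n) ℤ_[2]) : Matrix (Fin n) (Fin n) ℤ_[2])
  have ht : ∀ g h, t (g * h) = t g * t h := fun g h => by
    simp only [t, map_mul, Units.val_mul]
  let T : Matrix (Fin n) (Fin n) ℤ_[2] := ∑ g : D, (t g).transpose * B₀ * t g
  have hTmap : T.map (PadicInt.toZMod (p := 2)) = M := by
    have h1 : T.map (PadicInt.toZMod (p := 2)) = ∑ _g : D, M := by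
      have h2 : T.map (PadicInt.toZMod (p := 2)) = (PadicInt.toZMod (p := 2)).mapMatrix T := rfl
      rw [h2, map_sum]
      refine Finset.sum_congr rfl fun g _ => ?_
      rw [map_mul, map_mul]
      have h3 : (PadicInt.toZMod (p := 2)).mapMatrix (t g) = f g := hτ' g
      have h4 : (PadicInt.toZMod (p := 2)).mapMatrix (t g).transpose = (f g).transpose := by
        rw [← h3]; rfl
      have h5 : (PadicInt.toZMod (p := 2)).mapMatrix B₀ = M := hB₀
      rw [h3, h4, h5, hMf]
    rw [h1, Finset.sum_const, Finset.card_univ, ← Nat.card_eq_fintype_card]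
    obtain ⟨k, hk⟩ := hD
    have h6 : M + M = 0 := by
      ext i j
      exact CharTwo.add_self_eq_zero (M i j)
    rw [hk, add_smul, one_smul, mul_comm, mul_smul, two_smul, h6, smul_zero, zero_add]
  have hTinv : ∀ h, (t h).transpose * T * t h = T := by
    intro h
    rw [Finset.mul_sum, Finset.sum_mul]
    refine Fintype.sum_equiv (Equiv.mulRight h) _ _ fun g => ?_
    simp only [Equiv.coe_mulRight, ht, Matrix.transpose_mul, Matrix.mul_assoc]
  have hdet : T.det ≠ 0 := by
    intro h0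
    apply hM
    rw [← hTmap]
    have h1 : (T.map (PadicInt.toZMod (p := 2))).det = PadicInt.toZMod (p := 2) T.det :=
      ((PadicInt.toZMod (p := 2)).map_det T).symm
    rw [h1, h0, map_zero]
  -- the complex representation
  have hτi : Function.Injective τ := by
    intro a c hac
    have h1 : f a = f c := by rw [← hτ', ← hτ', hac]
    have h2 : θ a = θ c := (LinearMap.toMatrixAlgEquiv b).injective h1
    have h3 : ∀ x : X, (a⁻¹ * c) • x = x := fun x => by
      have h4 : a • x = c • x := by rw [← hθ, ← hθ, h2]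
      rw [mul_smul, ← h4, inv_smul_smul]
    have h5 := hfaith _ h3
    rwa [inv_mul_eq_one] at h5
  let F : D →* Matrix (Fin n) (Fin n) ℂ :=
    (ι.mapMatrix : Matrix (Fin n) (Fin n) ℤ_[2] →+* Matrix (Fin n) (Fin n) ℂ).toMonoidHom.comp
      ((Units.coeHom _).comp τ)
  have hFt : ∀ g, F g = (t g).map ι := fun _ => rfl
  have hF : Function.Injective F := by
    intro a c hac
    apply hτi
    apply Units.ext
    exact Matrix.map_injective hι hac
  refine ⟨(Matrix.toLinAlgEquiv' : Matrix (Fin n) (Fin n) ℂ ≃ₐ[ℂ] _).toAlgHom.toRingHom.toMonoidHom.comp F,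
    fun a c hac => hF (Matrix.toLinAlgEquiv'.injective hac), fun g => ?_⟩
  have hch : ∀ g, Representation.character ((Matrix.toLinAlgEquiv' : Matrix (Fin n) (Fin n) ℂ ≃ₐ[ℂ] _).toAlgHom.toRingHom.toMonoidHom.comp F) g = (F g).trace := by
    intro g
    exact Matrix.trace_toLin'_eq (F g)
  rw [hch, hch]
  have hTC : (F g).transpose * T.map ι * F g = T.map ι := by
    have h1 := congrArg (ι.mapMatrix) (hTinv g)
    rw [map_mul, map_mul] at h1
    exact h1
  have hTd : IsUnit (T.map ι) := by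
    rw [Matrix.isUnit_iff_isUnit_det, isUnit_iff_ne_zero]
    have h1 : (T.map ι).det = ι T.det := (ι.map_det T).symm
    rw [h1]
    intro h2
    exact hdet (hι (by rw [h2, map_zero]))
  obtain ⟨U, hU⟩ := hTd
  have h1 : F g * F g⁻¹ = 1 := by rw [← map_mul, mul_inv_cancel, map_one]
  have h2 : (F g).transpose * (U : Matrix (Fin n) (Fin n) ℂ) = U * F g⁻¹ := by
    rw [hU]
    calc (F g).transpose * T.map ι = (F g).transpose * T.map ι * (F g * F g⁻¹) := by rw [h1, mul_one]
      _ = ((F g).transpose * T.map ι * F g) * F g⁻¹ := by simp only [mul_assoc]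
      _ = _ := by rw [hTC]
  have h3 : F g⁻¹ = ((U⁻¹ : (Matrix (Fin n) (Fin n) ℂ)ˣ) : Matrix (Fin n) (Fin n) ℂ) * ((F g).transpose * U) := by
    rw [h2, ← mul_assoc, Units.inv_mul, one_mul]
  rw [h3, Matrix.trace_mul_comm, mul_assoc, Units.mul_inv, mul_one, Matrix.trace_transpose]

/-- If the images of `P` under all constituents are normal then `P` is normal. -/
theorem exists_constituent {D : Type u} [Group D] [Finite D] {p : ℕ} [hp : Fact p.Prime] {n : ℕ}
    (ρ : Representation ℂ D (Fin n → ℂ)) (hρ : Function.Injective ρ)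
    [Fintype (Cfsg.IrrCharacter D)] (m : Cfsg.IrrCharacter D → ℕ)
    (hm : ρ.character = ∑ ψ : Cfsg.IrrCharacter D, m ψ • (ψ : D → ℂ))
    (k : Cfsg.IrrCharacter D → ℕ) (σ : ∀ ψ : Cfsg.IrrCharacter D, Representation ℂ D (Fin (k ψ) → ℂ))
    (hσ : ∀ ψ, (σ ψ).character = (ψ : D → ℂ)) (P : Sylow p D) (hP : ¬ (P : Subgroup D).Normal) :
    ∃ ψ, m ψ ≠ 0 ∧ ∃ x ∈ (P : Subgroup D), ∃ g : D, ∀ y ∈ (P : Subgroup D), σ ψ (g * x * g⁻¹) ≠ σ ψ y := by
  by_contra hcon
  push Not at hcon
  apply hP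
  -- the subgroup of elements whose images lie in the images of `P`
  let N : Subgroup D := ⨅ ψ : {ψ : Cfsg.IrrCharacter D // m ψ ≠ 0},
    ((P : Subgroup D).map (σ ψ.1).toHomUnits).comap (σ ψ.1).toHomUnits
  have hN : ∀ x, x ∈ N ↔ ∀ ψ, m ψ ≠ 0 → ∃ y ∈ (P : Subgroup D), σ ψ y = σ ψ x := by
    intro x
    have h1 : ∀ (ψ : Cfsg.IrrCharacter D) (y : D), (σ ψ).toHomUnits y = (σ ψ).toHomUnits x ↔ σ ψ y = σ ψ x :=
      fun ψ y => Units.ext_iff
    constructor
    · intro h ψ h0
      have h2 := Subgroup.mem_iInf.1 h ⟨ψ, h0⟩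
      obtain ⟨y, hy, hyx⟩ := Subgroup.mem_map.1 (Subgroup.mem_comap.1 h2)
      exact ⟨y, hy, (h1 ψ y).1 hyx⟩
    · intro h
      refine Subgroup.mem_iInf.2 fun ψ => Subgroup.mem_comap.2 (Subgroup.mem_map.2 ?_)
      obtain ⟨y, hy, hyx⟩ := h ψ.1 ψ.2
      exact ⟨y, hy, (h1 ψ.1 y).2 hyx⟩
  have hPN : (P : Subgroup D) ≤ N := fun x hx => (hN x).2 fun ψ _ => ⟨x, hx, rfl⟩
  have hNp : IsPGroup p N := by
    obtain ⟨a, ha⟩ := (IsPGroup.iff_card.1 P.isPGroup')
    intro x
    refine ⟨a, ?_⟩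
    refine Subtype.ext ?_
    rw [Subgroup.coe_pow, Subgroup.coe_one]
    apply hρ
    rw [map_one]
    apply (Cfsg.Agent.Characters.Values.character_eq_finrank_iff ρ _).1
    rw [← Representation.char_one ρ, hm]
    simp only [Finset.sum_apply, Pi.smul_apply]
    refine Finset.sum_congr rfl fun ψ _ => ?_
    by_cases h0 : m ψ = 0
    · rw [h0, zero_smul, zero_smul]
    · obtain ⟨y, hy, hyx⟩ := (hN x.1).1 x.2 ψ h0
      congr 1
      rw [← hσ ψ, Representation.character, Representation.character, map_pow, ← hyx, ← map_pow]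
      have h1 : y ^ p ^ a = 1 := by
        rw [← ha]
        have := pow_card_eq_one' (x := (⟨y, hy⟩ : (P : Subgroup D)))
        exact congrArg Subtype.val this
      rw [h1]
  have hPeq : (P : Subgroup D) = N := (P.is_maximal' hNp hPN).symm
  rw [hPeq]
  refine ⟨fun x hx g => (hN _).2 fun ψ h0 => ?_⟩
  obtain ⟨y, hy, hyx⟩ := (hN x).1 hx ψ h0
  obtain ⟨z, hz, hzy⟩ := hcon ψ h0 y hy g
  refine ⟨z, hz, ?_⟩
  rw [← hzy]
  simp only [map_mul]
  rw [hyx]

theorem lemD_two {p : ℕ} (hp : p.Prime) {D : Type u} [Group D] [Finite D] (hD : Odd (Nat.card D)) {X : Type u}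
    [AddCommGroup X] [Finite X] (hX : ∀ x : X, 2 • x = 0) [DistribMulAction D X]
    (hfaith : ∀ g : D, (∀ x : X, g • x = x) → g = 1) (β : X → X → ZMod 2)
    (hβ : ∀ x y z, β (x + y) z = β x z + β y z) (hβ' : ∀ x y z, β x (y + z) = β x y + β x z)
    (hnd : ∀ x, (∀ y, β x y = 0) → x = 0) (hinv : ∀ (g : D) (x y : X), β (g • x) (g • y) = β x y) (P : Sylow p D)
    (hP : ¬ (P : Subgroup D).Normal) {n : ℕ} (hn : Nat.card X = 2 ^ n) : 2 * p ≤ n := by
  classical
  haveI : Fact p.Prime := ⟨hp⟩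
  haveI : Group.IsSolvable D := Cfsg.Agent.S0205.result hD
  haveI := Fintype.ofFinite D
  haveI : Finite (Cfsg.IrrCharacter D) := Cfsg.Agent.Characters.Core.finite_irr
  haveI := Fintype.ofFinite (Cfsg.IrrCharacter D)
  obtain ⟨ρ, hρ, hreal⟩ := exists_real_rep hD hX hfaith β hβ hβ' hnd hinv hn
  have hp2 : p ≠ 2 := by
    rintro rfl
    apply hP
    have h1 : (P : Subgroup D) = ⊥ := by
      obtain ⟨a, ha⟩ := (IsPGroup.iff_card.1 P.isPGroup')
      have h2 : Nat.card (P : Subgroup D) ∣ Nat.card D := Subgroup.card_subgroup_dvd_card _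
      rw [ha] at h2
      rcases Nat.eq_zero_or_pos a with h3 | h3
      · rw [h3, pow_zero] at ha
        exact Subgroup.card_eq_one.1 ha
      · have h4 : 2 ∣ Nat.card D := (dvd_pow_self 2 h3.ne').trans h2
        exact absurd hD (by rw [Nat.not_odd_iff_even]; exact even_iff_two_dvd.2 h4)
    rw [h1]
    infer_instance
  have hp3 : 3 ≤ p := by
    have := hp.two_le
    omega
  obtain ⟨m, hm⟩ := Cfsg.Agent.Characters.Core.exists_nat_comb (G := D) (χ := ρ.character) ⟨n, ρ, rfl⟩
  have hex : ∀ ψ : Cfsg.IrrCharacter D, ∃ (k : ℕ) (σ : Representation ℂ D (Fin k → ℂ)), σ.IsIrreducible ∧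
    σ.character = (ψ : D → ℂ) := fun ψ => ψ.2
  choose k σ hσi hσ using hex
  obtain ⟨ψ, hψ0, x, hx, g, hxg⟩ := exists_constituent ρ hρ m hm k σ hσ P hP
  -- the degree of `ψ`
  have hk1 : ∀ φ : Cfsg.IrrCharacter D, (φ : D → ℂ) 1 = k φ := by
    intro φ
    rw [← hσ φ, Representation.char_one, Module.finrank_fin_fun]
  have hpk : p ≤ k ψ := by
    by_contra hlt
    push Not at hlt
    let u : D →* (Module.End ℂ (Fin (k ψ) → ℂ))ˣ := (σ ψ).toHomUnits
    have hu : ∀ d, ((u d : (Module.End ℂ (Fin (k ψ) → ℂ))ˣ) : Module.End ℂ (Fin (k ψ) → ℂ)) = σ ψ d := fun _ => rfl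
    let τ : Representation ℂ u.range (Fin (k ψ) → ℂ) := (Units.coeHom _).comp u.range.subtype
    have hτ : Function.Injective τ := by
      intro a b hab
      exact Subtype.ext (Units.ext hab)
    haveI : Group.IsSolvable u.range := Group.isSolvable_of_surjective u.rangeRestrict_surjective
    have hQn : ¬ ((P.mapSurjective u.rangeRestrict_surjective : Sylow p u.range) : Subgroup u.range).Normal := by
      intro hn'
      rw [Sylow.coe_mapSurjective] at hn'
      have h1 : u.rangeRestrict x ∈ (P : Subgroup D).map u.rangeRestrict := Subgroup.mem_map_of_mem _ hx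
      have h2 := hn'.conj_mem _ h1 (u.rangeRestrict g)
      obtain ⟨y, hy, hyx⟩ := Subgroup.mem_map.1 h2
      apply hxg y hy
      have h3 : u y = u g * u x * (u g)⁻¹ := congrArg Subtype.val hyx
      rw [← map_mul, ← map_inv, ← map_mul] at h3
      rw [← hu, ← hu, h3]
    obtain ⟨h1, ⟨j, h2⟩, -⟩ := Cfsg.Agent.H599.Ito.main τ hτ
      (Cfsg.Agent.Lib.PSolvable.IsPSolvable_of_solvable (G := u.range) p) hlt _ hQn
    haveI := hσi ψ
    have h3 : Module.finrank ℂ (Fin (k ψ) → ℂ) ∣ Nat.card D :=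
      Cfsg.Agent.Characters.DegreeBounds.finrank_dvd_card (σ ψ)
    rw [Module.finrank_fin_fun] at h3
    have h4 : Odd (k ψ) := hD.of_dvd_nat h3
    rcases Nat.eq_zero_or_pos j with hj | hj
    · rw [hj, pow_zero] at h2
      omega
    · have h5 : 2 ∣ k ψ := by rw [h2]; exact dvd_pow_self 2 hj.ne'
      rw [← Nat.not_even_iff_odd, even_iff_two_dvd] at h4
      exact h4 h5
  -- the conjugate character
  have hreal' : ∀ d, (starRingEnd ℂ) (ρ.character d) = ρ.character d := by
    intro d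
    rw [← Cfsg.Agent.Characters.Core.isCharacter_apply_inv ⟨n, ρ, rfl⟩ d, hreal]
  let ψ' : Cfsg.IrrCharacter D := ⟨fun d => (starRingEnd ℂ) ((ψ : D → ℂ) d), Cfsg.Agent.Characters.Core.isIrr_conj ψ.2⟩
  have hψ' : ψ' ≠ ψ := by
    intro h
    have h1 : ∀ d : D, ((ψ : D → ℂ) d).im = 0 := by
      intro d
      rw [← Complex.conj_eq_iff_im]
      exact congrFun (congrArg Subtype.val h) d
    have h2 := Cfsg.Agent.S0161.result hD ψ h1
    have h3 : (1 : ℂ) = k ψ := by rw [← hk1 ψ, h2]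
    have h4 : k ψ = 1 := by exact_mod_cast h3.symm
    omega
  have hmψ' : m ψ' = m ψ := by
    have h1 := Cfsg.Agent.Characters.Core.classInner_sum_nsmul_irr m ψ
    have h2 := Cfsg.Agent.Characters.Core.classInner_sum_nsmul_irr m ψ'
    rw [← hm] at h1 h2
    have h3 : Cfsg.classInner ρ.character (ψ' : D → ℂ) = (starRingEnd ℂ) (Cfsg.classInner ρ.character (ψ : D → ℂ)) := by
      rw [Cfsg.Agent.Characters.Core.classInner_def, Cfsg.Agent.Characters.Core.classInner_def, map_mul, map_sum]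
      congr 1
      · simp
      · refine Finset.sum_congr rfl fun d _ => ?_
        rw [map_mul, hreal']
    rw [h1, h2] at h3
    have h4 : ((m ψ' : ℕ) : ℂ) = (m ψ : ℕ) := by rw [h3]; simp
    exact_mod_cast h4
  have hkψ' : k ψ' = k ψ := by
    have h1 := hk1 ψ'
    have h2 : (ψ' : D → ℂ) 1 = (starRingEnd ℂ) ((ψ : D → ℂ) 1) := rfl
    rw [h2, hk1 ψ] at h1
    have h3 : ((k ψ : ℕ) : ℂ) = (k ψ' : ℕ) := by rw [← h1]; simp
    exact_mod_cast h3.symm
  have hsum : n = ∑ φ : Cfsg.IrrCharacter D, m φ * k φ := by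
    have h1 : ρ.character 1 = (n : ℂ) := by rw [Representation.char_one, Module.finrank_fin_fun]
    rw [hm] at h1
    simp only [Finset.sum_apply, Pi.smul_apply, hk1] at h1
    have h2 : ((∑ φ : Cfsg.IrrCharacter D, m φ * k φ : ℕ) : ℂ) = (n : ℂ) := by
      rw [← h1]
      push_cast
      refine Finset.sum_congr rfl fun φ _ => ?_
      rw [nsmul_eq_mul]
    exact_mod_cast h2.symm
  have hle : m ψ * k ψ + m ψ' * k ψ' ≤ n := by
    rw [hsum]
    have h1 : ∑ φ ∈ ({ψ, ψ'} : Finset (Cfsg.IrrCharacter D)), m φ * k φ ≤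
        ∑ φ : Cfsg.IrrCharacter D, m φ * k φ :=
      Finset.sum_le_sum_of_subset_of_nonneg (Finset.subset_univ _) fun _ _ _ => Nat.zero_le _
    rwa [Finset.sum_pair hψ'.symm] at h1
  rw [hmψ', hkψ'] at hle
  have h1 : 1 ≤ m ψ := Nat.one_le_iff_ne_zero.2 hψ0
  have h2 : 1 * k ψ ≤ m ψ * k ψ := Nat.mul_le_mul_right _ h1
  omega

end Cfsg.Agent.H96.Cls.LemD
end

-- part: H96/Cls/ExSplit
section
/-!
# S4148, T12: the Hall complement for the primes with `N(P) = C(P)`
-/

set_option autoImplicit false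

namespace Cfsg.Agent.H96.Cls.ExSplit

open scoped Pointwise commutatorElement
open Cfsg.Agent.H822.Cls

universe u

theorem exists_split : ExistsSplit.{u} := by
  classical
  intro G _ _
  let A : Finset ℕ := (Nat.card G).primeFactors.filter fun p => ∀ P : Sylow p G,
    Subgroup.normalizer ((P : Subgroup G) : Set G) ≤ Subgroup.centralizer ((P : Subgroup G) : Set G)
  have hA : ∀ p, p ∈ A ↔ p.Prime ∧ p ∣ Nat.card G ∧ ∀ P : Sylow p G,
      Subgroup.normalizer ((P : Subgroup G) : Set G) ≤ Subgroup.centralizer ((P : Subgroup G) : Set G) := by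
    intro p
    simp only [A, Finset.mem_filter, Nat.mem_primeFactors]
    constructor
    · rintro ⟨⟨h1, h2, -⟩, h3⟩
      exact ⟨h1, h2, h3⟩
    · rintro ⟨h1, h2, h3⟩
      exact ⟨⟨h1, h2, Nat.card_pos.ne'⟩, h3⟩
  -- the normal complements
  have hex : ∀ p : A, ∃ (P : Sylow p.1 G) (φ : G →* P), (∀ a b : (P : Subgroup G), a * b = b * a) ∧
      ¬ p.1 ∣ Nat.card φ.ker := by
    intro p
    obtain ⟨h1, h2, h3⟩ := (hA p.1).1 p.2
    have : Fact p.1.Prime := ⟨h1⟩
    obtain ⟨P⟩ : Nonempty (Sylow p.1 G) := inferInstance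
    refine ⟨P, MonoidHom.transferSylow P (h3 P), fun a b => ?_, ?_⟩
    · have h4 := h3 P (Subgroup.le_normalizer a.2)
      rw [Subgroup.mem_centralizer_iff] at h4
      exact Subtype.ext (h4 b.1 b.2).symm
    · exact MonoidHom.not_dvd_card_ker_transferSylow P (h3 P)
  choose P φ hcomm hker using hex
  let Φ : G →* (∀ p : A, (P p : Subgroup G)) := MonoidHom.pi φ
  have hΦ : ∀ g p, Φ g p = φ p g := fun _ _ => rfl
  have hK1 : ∀ p ∈ A, ¬ p ∣ Nat.card Φ.ker := by
    intro p hp h
    apply hker ⟨p, hp⟩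
    refine h.trans (Subgroup.card_dvd_of_le fun g hg => ?_)
    rw [MonoidHom.mem_ker] at hg ⊢
    rw [← hΦ, hg]
    rfl
  have hidx : ∀ q : ℕ, q.Prime → q ∣ Φ.ker.index → q ∈ A := by
    intro q hq h
    rw [Subgroup.index_ker] at h
    have h1 : q ∣ Nat.card (∀ p : A, (P p : Subgroup G)) :=
      h.trans (Subgroup.card_subgroup_dvd_card _)
    rw [Nat.card_pi] at h1
    obtain ⟨p, -, hp⟩ := (hq.prime.dvd_finsetProd_iff _).1 h1
    have : Fact p.1.Prime := ⟨((hA p.1).1 p.2).1⟩
    obtain ⟨a, ha⟩ := (IsPGroup.iff_card.1 (P p).isPGroup')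
    rw [ha] at hp
    have h2 := (Nat.prime_dvd_prime_iff_eq hq ((hA p.1).1 p.2).1).1 (hq.dvd_of_dvd_pow hp)
    rw [h2]
    exact p.2
  have hcop : (Nat.card Φ.ker).Coprime Φ.ker.index := by
    rw [Nat.coprime_iff_gcd_eq_one]
    by_contra hne
    obtain ⟨r, hr, hrd⟩ := Nat.exists_prime_and_dvd hne
    exact hK1 r (hidx r hr (hrd.trans (Nat.gcd_dvd_right _ _))) (hrd.trans (Nat.gcd_dvd_left _ _))
  obtain ⟨H, hH⟩ := Subgroup.exists_right_complement'_of_coprime hcop
  have hHc : Nat.card H = Φ.ker.index := hH.symm.index_eq_card.symm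
  refine ⟨Φ.ker, H, ⟨inferInstance, ?_, ?_, hH.sup_eq_top⟩, ?_⟩
  · intro a ha b hb
    have h1 : a * b * (b * a)⁻¹ ∈ Φ.ker := by
      rw [MonoidHom.mem_ker, map_mul, map_inv, mul_inv_eq_one, map_mul, map_mul]
      funext p
      exact hcomm p _ _
    have h2 : a * b * (b * a)⁻¹ ∈ H := H.mul_mem (H.mul_mem ha hb) (H.inv_mem (H.mul_mem hb ha))
    have h3 : a * b * (b * a)⁻¹ ∈ Φ.ker ⊓ H := ⟨h1, h2⟩
    rw [hH.disjoint.eq_bot, Subgroup.mem_bot, mul_inv_eq_one] at h3
    exact h3
  · rw [hHc]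
    exact hcop
  · intro p hp hpG
    constructor
    · intro h
      rw [hHc] at h
      exact ((hA p).1 (hidx p hp h)).2.2
    · intro h
      have h1 : p ∈ A := (hA p).2 ⟨hp, hpG, h⟩
      rw [← hH.card_mul_card] at hpG
      exact (hp.dvd_mul.1 hpG).resolve_left (hK1 p h1)

end Cfsg.Agent.H96.Cls.ExSplit
end

-- part: H822/Cls/Assembly
section
/-!
# Assembly of S4148
-/

set_option autoImplicit false

namespace Cfsg.Agent.H822.Cls

open scoped Pointwise commutatorElement

universe u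

variable {G : Type u} [Group G] [Finite G]

/-- Moving in a subgroup containing all the relevant Sylow subgroups. -/
theorem moved_of_sub {K H : Subgroup G} (hS : Split K H) {p : ℕ} (hp : p.Prime) (hpH : p ∣ Nat.card H)
    (L : Subgroup G) (hHL : H ≤ L) (hcomm : ∀ P : Sylow p G, ⁅K, (P : Subgroup G)⁆ ≤ L) (x : L)
    (h : Moved p x) : Moved p (x : G) := by
  have : Fact p.Prime := ⟨hp⟩
  by_contra hcon
  obtain ⟨Q, hQ⟩ := (moved_iff hp _).1 hcon
  obtain ⟨P, hP⟩ := hS.exists_sylow hp hpH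
  obtain ⟨k, hk, hkQ⟩ := hS.sylow_conj hp P Q hP
  have hQL : (Q : Subgroup G) ≤ L := by
    intro y hy
    have h1 := (hkQ y).1 hy
    have h2 : y = ⁅k, k⁻¹ * y * k⁆ * (k⁻¹ * y * k) := by
      rw [commutatorElement_def]; group
    rw [h2]
    exact L.mul_mem (hcomm P (Subgroup.commutator_mem_commutator hk h1)) (hHL (hP h1))
  refine (moved_iff hp x).2 ⟨Q.subtype hQL, ?_⟩ h
  intro y hy
  have h1 : (y : G) ∈ Q := by
    have : y ∈ ((Q.subtype hQL : Sylow p L) : Subgroup L) := hy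
    rw [Sylow.coe_subtype, Subgroup.mem_subgroupOf] at this
    exact this
  have h2 := hQ h1
  rw [Subgroup.mem_centralizer_singleton_iff] at h2 ⊢
  exact Subtype.ext h2

theorem good_of_two {p a b n : ℕ} (ha : a.Prime) (hb : b.Prime) (hp : p.Prime) (hab : a < b) (hbp : b < p)
    (han : ¬ a ∣ n) (hbn : ¬ b ∣ n) : Good p n := by
  have ha2 := ha.two_le
  refine ⟨?_, ?_, ?_⟩
  · by_contra h
    have h4 : p = 4 := by omega
    subst h4
    norm_num at hp
  · rintro rfl
    have h1 : b = 3 ∨ b = 4 := by omega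
    rcases h1 with rfl | rfl
    · have : a = 2 := by omega
      subst this
      exact ⟨han, hbn⟩
    · norm_num at hb
  · rintro rfl
    have h1 : b = 3 ∨ b = 4 ∨ b = 5 ∨ b = 6 := by omega
    rcases h1 with rfl | rfl | rfl | rfl
    · have : a = 2 := by omega
      subst this
      exact Or.inl ⟨han, hbn⟩
    · norm_num at hb
    · have : a = 2 ∨ a = 3 ∨ a = 4 := by omega
      rcases this with rfl | rfl | rfl
      · exact Or.inr (Or.inl ⟨han, hbn⟩)
      · exact Or.inr (Or.inr ⟨han, hbn⟩)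
      · norm_num at ha
    · norm_num at hb

/-- All elements but two of a finite set have two smaller elements. -/
theorem exists_exceptional (A : Finset ℕ) : ∃ E : Finset ℕ, E.card ≤ 2 ∧
    ∀ p ∈ A, p ∉ E → ∃ a ∈ A, ∃ b ∈ A, a < b ∧ b < p := by
  classical
  rcases A.eq_empty_or_nonempty with h | h
  · exact ⟨∅, by simp, by simp [h]⟩
  · set a := A.min' h with ha
    rcases (A.erase a).eq_empty_or_nonempty with h' | h'
    · refine ⟨{a}, by simp, ?_⟩
      intro p hp hpa
      rw [Finset.mem_singleton] at hpa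
      have : p ∈ A.erase a := Finset.mem_erase.2 ⟨hpa, hp⟩
      rw [h'] at this
      simp at this
    · set b := (A.erase a).min' h' with hb
      refine ⟨{a, b}, Finset.card_le_two, ?_⟩
      intro p hp hpE
      simp only [Finset.mem_insert, Finset.mem_singleton, not_or] at hpE
      have hbm := (A.erase a).min'_mem h'
      rw [← hb] at hbm
      have h1 : a < b := lt_of_le_of_ne (A.min'_le b (Finset.mem_of_mem_erase hbm))
        (Finset.ne_of_mem_erase hbm).symm
      refine ⟨a, A.min'_mem h, b, Finset.mem_of_mem_erase hbm, h1, ?_⟩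
      exact lt_of_le_of_ne ((A.erase a).min'_le p (Finset.mem_erase.2 ⟨hpE.1, hp⟩)) (Ne.symm hpE.2)

/-- The solvable part: at most `2 σ + 2` primes. -/
theorem card_A2 (hT : TwoObjects.{u}) {σ : ℕ}
    (hσ : ∀ x : G, ((Subgroup.centralizer ({x} : Set G)).index).primeFactors.card ≤ σ)
    (K H : Subgroup G) (hS : Split K H) (A A2 : Finset ℕ) (hA2 : A2 ⊆ A)
    (hA : ∀ p ∈ A, p.Prime ∧ p ∣ Nat.card H)
    (hsol : ∀ p ∈ A2, ∀ P : Sylow p G, Group.IsSolvable (⁅K, (P : Subgroup G)⁆ : Subgroup G))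
    (hne : ∀ p ∈ A2, ∀ P : Sylow p G, ⁅K, (P : Subgroup G)⁆ ≠ ⊥) : A2.card ≤ 2 * σ + 2 := by
  classical
  have hKn := hS.normal
  obtain ⟨R0, hR0c, hR0s, hR0⟩ := SignalizersComponents.ComponentExists.exists_solvableRadical G
  have hR0n : R0.Normal := inferInstance
  set R := R0 ⊓ K with hR
  have hRn : R.Normal := inferInstance
  have hRs : Group.IsSolvable R := by
    have : R ≤ R0 := inf_le_left
    exact Group.isSolvable_of_isSolvable_injective (Subgroup.inclusion_injective this)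
  have hRK : R ≤ K := inf_le_right
  set L := R ⊔ H with hL
  have hRL : R ≤ L := le_sup_left
  have hHL : H ≤ L := le_sup_right
  have hHs : Group.IsSolvable H := by
    exact Group.isSolvable_of_comm fun a b => Subtype.ext (hS.comm a a.2 b b.2)
  have hLs : Group.IsSolvable L := by
    refine SignalizersComponents.CoprimeBasic.isSolvable_sup ?_ hRs hHs
    rw [Subgroup.normalizer_eq_top]
    exact le_top
  -- the splitting of `L`
  have hSL : Split (R.subgroupOf L) (H.subgroupOf L) := by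
    refine ⟨inferInstance, ?_, ?_, ?_⟩
    · intro a ha b hb
      exact Subtype.ext (hS.comm a ha b hb)
    · rw [Nat.card_congr (Subgroup.subgroupOfEquivOfLe hRL).toEquiv,
        Nat.card_congr (Subgroup.subgroupOfEquivOfLe hHL).toEquiv]
      exact Nat.Coprime.coprime_dvd_left (Subgroup.card_dvd_of_le hRK) hS.cop
    · rw [← Subgroup.subgroupOf_sup hRL hHL, Subgroup.subgroupOf_self]
  have hcR : Nat.card (R.subgroupOf L) = Nat.card R := Nat.card_congr (Subgroup.subgroupOfEquivOfLe hRL).toEquiv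
  have hcH : Nat.card (H.subgroupOf L) = Nat.card H := Nat.card_congr (Subgroup.subgroupOfEquivOfLe hHL).toEquiv
  obtain ⟨x1, hx1, x2, hx2, hx⟩ := hT L (R.subgroupOf L) (H.subgroupOf L) hSL
  -- `[K, P] ≤ R`
  have hKR : ∀ p ∈ A2, ∀ P : Sylow p G, ⁅K, (P : Subgroup G)⁆ ≤ R := by
    intro p hp P
    obtain ⟨hpp, hpH⟩ := hA p (hA2 hp)
    exact le_inf (hR0 _ (hS.commutator_normal' hpp hpH P) (hsol p hp P)) (hS.commutator_le _)
  obtain ⟨E, hE2, hE⟩ := exists_exceptional A
  have hmain : ∀ p ∈ A2, p ∉ E → Moved p (x1 : G) ∨ Moved p (x2 : G) := by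
    intro p hp hpE
    obtain ⟨hpp, hpH⟩ := hA p (hA2 hp)
    obtain ⟨a, ha, b, hb, hab, hbp⟩ := hE p (hA2 hp) hpE
    have hgood : Good p (Nat.card (R.subgroupOf L)) := by
      rw [hcR]
      obtain ⟨hap, haH⟩ := hA a ha
      obtain ⟨hbpr, hbH⟩ := hA b hb
      have hcop := Nat.Coprime.coprime_dvd_left (Subgroup.card_dvd_of_le hRK) hS.cop
      exact good_of_two hap hbpr hpp hab hbp
        (fun h => hap.one_lt.ne' (Nat.eq_one_of_dvd_coprimes hcop h haH))
        (fun h => hbpr.one_lt.ne' (Nat.eq_one_of_dvd_coprimes hcop h hbH))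
    obtain ⟨P, hP⟩ := hS.exists_sylow hpp hpH
    have hPL : (P : Subgroup G) ≤ L := hP.trans hHL
    have hPne : ⁅R.subgroupOf L, ((P.subtype hPL : Sylow p L) : Subgroup L)⁆ ≠ ⊥ := by
      intro h0
      apply hne p hp P
      rw [← hS.commutator_commutator hpp hpH P, eq_bot_iff]
      refine (Subgroup.commutator_mono (hKR p hp P) le_rfl).trans ?_
      rw [Subgroup.commutator_le]
      intro r hr y hy
      have h1 : ⁅(⟨r, hRL hr⟩ : L), (⟨y, hPL hy⟩ : L)⁆ ∈
          ⁅R.subgroupOf L, ((P.subtype hPL : Sylow p L) : Subgroup L)⁆ := by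
        refine Subgroup.commutator_mem_commutator ?_ ?_
        · rw [Subgroup.mem_subgroupOf]; exact hr
        · rw [Sylow.coe_subtype, Subgroup.mem_subgroupOf]; exact hy
      rw [h0, Subgroup.mem_bot] at h1
      rw [Subgroup.mem_bot]
      exact congrArg Subtype.val h1
    have hcomm : ∀ P : Sylow p G, ⁅K, (P : Subgroup G)⁆ ≤ L := fun P => (hKR p hp P).trans hRL
    rcases hx p hpp (by rw [hcH]; exact hpH) hgood (P.subtype hPL) hPne with h | h
    · exact Or.inl (moved_of_sub hS hpp hpH L hHL hcomm x1 h)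
    · exact Or.inr (moved_of_sub hS hpp hpH L hHL hcomm x2 h)
  have hsub : A2 ⊆ (A2.filter fun p => Moved p (x1 : G)) ∪ (A2.filter fun p => Moved p (x2 : G)) ∪ E := by
    intro p hp
    rw [Finset.mem_union, Finset.mem_union, Finset.mem_filter, Finset.mem_filter]
    by_cases hpE : p ∈ E
    · exact Or.inr hpE
    · rcases hmain p hp hpE with h | h
      · exact Or.inl (Or.inl ⟨hp, h⟩)
      · exact Or.inl (Or.inr ⟨hp, h⟩)
  have hprime : ∀ p ∈ A2, p.Prime := fun p hp => (hA p (hA2 hp)).1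
  have c1 := card_moved_le hσ (A2.filter fun p => Moved p (x1 : G))
    (fun p hp => hprime p (Finset.mem_filter.1 hp).1) x1 (fun p hp => (Finset.mem_filter.1 hp).2)
  have c2 := card_moved_le hσ (A2.filter fun p => Moved p (x2 : G))
    (fun p hp => hprime p (Finset.mem_filter.1 hp).1) x2 (fun p hp => (Finset.mem_filter.1 hp).2)
  calc A2.card ≤ _ := Finset.card_le_card hsub
    _ ≤ _ := Finset.card_union_le _ _
    _ ≤ ((A2.filter fun p => Moved p (x1 : G)).card + (A2.filter fun p => Moved p (x2 : G)).card) + E.card :=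
      Nat.add_le_add_right (Finset.card_union_le _ _) _
    _ ≤ _ := by omega

/-- The nonsolvable part: `A1 = ∅` or `|A1| + 2 ≤ σ`. -/
theorem card_A1 (hN : NonsolvObject.{u}) {σ : ℕ}
    (hσ : ∀ x : G, ((Subgroup.centralizer ({x} : Set G)).index).primeFactors.card ≤ σ)
    (K H : Subgroup G) (hS : Split K H) (A1 : Finset ℕ)
    (hA : ∀ p ∈ A1, p.Prime ∧ p ∣ Nat.card H)
    (hsol : ∀ p ∈ A1, ∃ P : Sylow p G, ¬ Group.IsSolvable (⁅K, (P : Subgroup G)⁆ : Subgroup G)) :
    A1 = ∅ ∨ A1.card + 2 ≤ σ := by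
  classical
  rcases A1.eq_empty_or_nonempty with h | ⟨p0, hp0⟩
  · exact Or.inl h
  right
  obtain ⟨x, hxK, h1, h2⟩ := hN G K H hS
  obtain ⟨q1, q2, hq1, hq2, hne, hd1, hd2, hm1, hm2⟩ :=
    h2 ⟨p0, (hA p0 hp0).1, (hA p0 hp0).2, hsol p0 hp0⟩
  have hnot : ∀ q : ℕ, q.Prime → q ∣ Nat.card K → q ∉ A1 := by
    intro q hq hqK hqA
    exact hq.one_lt.ne' (Nat.eq_one_of_dvd_coprimes hS.cop hqK (hA q hqA).2)
  have hmoved : ∀ p ∈ insert q1 (insert q2 A1), Moved p x := by
    intro p hp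
    rw [Finset.mem_insert, Finset.mem_insert] at hp
    rcases hp with rfl | rfl | hp
    · exact hm1
    · exact hm2
    · obtain ⟨P, hP⟩ := hsol p hp
      exact h1 p (hA p hp).1 (hA p hp).2 P hP
  have hprime : ∀ p ∈ insert q1 (insert q2 A1), p.Prime := by
    intro p hp
    rw [Finset.mem_insert, Finset.mem_insert] at hp
    rcases hp with rfl | rfl | hp
    · exact hq1
    · exact hq2
    · exact (hA p hp).1
  have h3 := card_moved_le hσ _ hprime x hmoved
  rw [Finset.card_insert_of_notMem, Finset.card_insert_of_notMem (hnot q2 hq2 hd2)] at h3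
  · exact h3
  · rw [Finset.mem_insert, not_or]
    exact ⟨hne, hnot q1 hq1 hd1⟩

/-- The theorem. -/
theorem main (hN : NonsolvObject.{u}) (hT : TwoObjects.{u}) (hE : ExistsSplit.{u}) (σ : ℕ)
    (hσ : ∀ x : G, ((Subgroup.centralizer ({x} : Set G)).index).primeFactors.card ≤ σ) :
    Nat.card {p : ℕ | p.Prime ∧ ∃ x : G, p ∣ (Subgroup.centralizer ({x} : Set G)).index} ≤ 5 * σ := by
  classical
  set S : Finset ℕ := (Nat.card G).primeFactors.filter
    (fun p => ∃ x : G, p ∣ (Subgroup.centralizer ({x} : Set G)).index) with hS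
  have hSeq : {p : ℕ | p.Prime ∧ ∃ x : G, p ∣ (Subgroup.centralizer ({x} : Set G)).index} = (S : Set ℕ) := by
    ext p
    simp only [Set.mem_ofPred_eq, hS, Finset.coe_filter, Nat.mem_primeFactors]
    constructor
    · rintro ⟨hp, x, hx⟩
      exact ⟨⟨hp, hx.trans (Subgroup.index_dvd_card _), (Nat.card_pos).ne'⟩, x, hx⟩
    · rintro ⟨⟨hp, _, _⟩, x, hx⟩
      exact ⟨hp, x, hx⟩
  rw [hSeq]
  have hcS : Nat.card (S : Set ℕ) = S.card := by simp
  rw [hcS]
  have hSp : ∀ p ∈ S, p.Prime := fun p hp => Nat.prime_of_mem_primeFactors (Finset.mem_filter.1 hp).1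
  have hSd : ∀ p ∈ S, p ∣ Nat.card G := fun p hp => Nat.dvd_of_mem_primeFactors (Finset.mem_filter.1 hp).1
  rcases Nat.eq_zero_or_pos σ with h0 | hpos
  · subst h0
    have : S = ∅ := by
      rw [Finset.eq_empty_iff_forall_notMem]
      intro p hp
      obtain ⟨x, hx⟩ := (Finset.mem_filter.1 hp).2
      have h1 := hσ x
      rw [Nat.le_zero, Finset.card_eq_zero, Nat.primeFactors_eq_empty] at h1
      rcases h1 with h1 | h1
      · exact Subgroup.index_ne_zero_of_finite h1
      · rw [h1] at hx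
        exact (hSp p hp).one_lt.ne' (Nat.dvd_one.1 hx)
    rw [this]
    simp
  obtain ⟨K, H, hKH, hA⟩ := hE G
  have hKn := hKH.normal
  set B := S.filter fun p => ¬ p ∣ Nat.card H with hB
  set A := S.filter fun p => p ∣ Nat.card H with hAdef
  set A1 := A.filter fun p => ∃ P : Sylow p G, ¬ Group.IsSolvable (⁅K, (P : Subgroup G)⁆ : Subgroup G) with hA1
  set A2 := A.filter fun p => ¬ ∃ P : Sylow p G, ¬ Group.IsSolvable (⁅K, (P : Subgroup G)⁆ : Subgroup G) with hA2
  have c1 : A.card + B.card = S.card := Finset.card_filter_add_card_filter_not (s := S) _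
  have c2 : A1.card + A2.card = A.card := Finset.card_filter_add_card_filter_not (s := A) _
  have hAmem : ∀ p ∈ A, p.Prime ∧ p ∣ Nat.card H := fun p hp =>
    ⟨hSp p (Finset.mem_filter.1 hp).1, (Finset.mem_filter.1 hp).2⟩
  have bB : B.card + 1 ≤ 2 * σ := by
    refine card_B hpos hσ B ?_
    intro p hp
    obtain ⟨hpS, hpH⟩ := Finset.mem_filter.1 hp
    refine ⟨hSp p hpS, ?_⟩
    by_contra hcon
    push Not at hcon
    exact hpH ((hA p (hSp p hpS) (hSd p hpS)).2 hcon)
  have b1 := card_A1 hN hσ K H hKH A1 (fun p hp => hAmem p (Finset.mem_filter.1 hp).1)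
    (fun p hp => (Finset.mem_filter.1 hp).2)
  have b2 : A2.card ≤ 2 * σ + 2 := by
    refine card_A2 hT hσ K H hKH A A2 (Finset.filter_subset _ _) hAmem ?_ ?_
    · intro p hp P
      by_contra hcon
      exact (Finset.mem_filter.1 hp).2 ⟨P, hcon⟩
    · intro p hp P h0
      have hpA := (Finset.mem_filter.1 hp).1
      have hpS := (Finset.mem_filter.1 hpA).1
      obtain ⟨hpp, hpH⟩ := hAmem p hpA
      obtain ⟨P0, hP0⟩ := hKH.exists_sylow hpp hpH
      rw [hKH.commutator_eq hpp P0 P hP0] at h0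
      -- `P0` is central
      have hcen : ∀ y ∈ P0, ∀ g : G, g * y = y * g := by
        intro y hy g
        obtain ⟨k, hk, h, hh, rfl⟩ := hKH.exists_mul g
        have e1 : k * y = y * k := by
          have : ⁅k, y⁆ ∈ ⁅K, (P0 : Subgroup G)⁆ := Subgroup.commutator_mem_commutator hk hy
          rw [h0, Subgroup.mem_bot] at this
          exact commutatorElement_eq_one_iff_mul_comm.1 this
        have e2 : h * y = y * h := hKH.comm h hh y (hP0 hy)
        rw [mul_assoc, e2, ← mul_assoc, e1, mul_assoc]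
      obtain ⟨x, hx⟩ := (Finset.mem_filter.1 hpS).2
      refine (moved_iff hpp x).2 ⟨P0, ?_⟩ hx
      intro y hy
      rw [Subgroup.mem_centralizer_singleton_iff]
      exact (hcen y hy x).symm
  rcases b1 with b1 | b1
  · rw [b1, Finset.card_empty] at c2
    omega
  · omega

end Cfsg.Agent.H822.Cls
end

-- part: H353/TwoPrimes
section
/-!
# Class sizes in a nonabelian minimal normal subgroup have two prime divisors (task 1458, S4148)
-/

set_option autoImplicit false

namespace Cfsg.Agent.H353.TwoPrimes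

open scoped Pointwise commutatorElement
open Cfsg.Agent.H822.Cls

universe u

/-- a solvable normal subgroup of a nonabelian minimal normal subgroup is trivial -/
theorem eq_one_of_mem_solvable {G : Type u} [Group G] [Finite G] (N : Subgroup G) (hN : N.Normal)
    (hmin : ∀ N' : Subgroup G, N'.Normal → N' ≤ N → N' = ⊥ ∨ N' = N) (hnc : ¬ IsMulCommutative N)
    (M : Subgroup N) (hM : M.Normal) (hs : Group.IsSolvable M) : M = ⊥ := by
  obtain ⟨R, hRc, hRs, hRm⟩ := SignalizersComponents.ComponentExists.exists_solvableRadical N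
  have hMR : M ≤ R := hRm M hM hs
  have hRn : (R.map N.subtype).Normal := inferInstance
  have hnot : ¬ Group.IsSolvable N := by
    intro hsN
    apply hnc
    have hc : ((commutator N).map N.subtype).Normal := inferInstance
    rcases hmin _ hc (Subgroup.map_subtype_le _) with h | h
    · rw [Subgroup.map_eq_bot_iff_of_injective _ N.subtype_injective] at h
      rw [commutator_eq_bot_iff_center_eq_top] at h
      refine ⟨⟨fun a b => ?_⟩⟩
      have hb : b ∈ Subgroup.center N := by rw [h]; trivial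
      exact (Subgroup.mem_center_iff.1 hb a)
    · have h1 : commutator N = ⊤ := by
        rw [eq_top_iff]
        intro x _
        have hx : (x : G) ∈ (commutator N).map N.subtype := by rw [h]; exact x.2
        obtain ⟨y, hy, hyx⟩ := hx
        have : y = x := Subtype.ext hyx
        exact this ▸ hy
      have hnt : Nontrivial N := by
        by_contra hcon
        rw [not_nontrivial_iff_subsingleton] at hcon
        exact hnc ⟨⟨fun a b => Subsingleton.elim _ _⟩⟩
      exact absurd h1 (ne_of_lt (Group.IsSolvable.commutator_lt_top_of_nontrivial (G := N)))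
  rcases hmin _ hRn (Subgroup.map_subtype_le _) with h | h
  · rw [Subgroup.map_eq_bot_iff_of_injective _ N.subtype_injective] at h
    exact le_bot_iff.1 (h ▸ hMR)
  · exfalso
    apply hnot
    have h1 : R = ⊤ := by
      rw [eq_top_iff]
      intro x _
      have hx : (x : G) ∈ R.map N.subtype := by rw [h]; exact x.2
      obtain ⟨y, hy, hyx⟩ := hx
      have : y = x := Subtype.ext hyx
      exact this ▸ hy
    subst h1
    exact Group.isSolvable_of_surjective (f := (Subgroup.topEquiv : (⊤ : Subgroup N) ≃* N).toMonoidHom)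
      (Subgroup.topEquiv : (⊤ : Subgroup N) ≃* N).surjective

theorem two_primes : TwoPrimes.{u} := by
  intro G _ _ N hN hmin hnc x hx hx1
  set y : N := ⟨x, hx⟩ with hy
  set C : Subgroup G := Subgroup.centralizer ({x} : Set G) with hC
  have hidx : (Subgroup.centralizer ({y} : Set N)).index = C.relIndex N := by
    rw [H576.Kazarin.centralizer_subgroupOf N y]
    rfl
  have hdvd : (Subgroup.centralizer ({y} : Set N)).index ∣ C.index := by
    rw [hidx]
    exact Cfsg.Agent.Lib.GoldschmidtFusion.relIndex_dvd_index_of_normal_right C N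
  have hcard : (Subgroup.centralizer ({y} : Set N)).index ∣ Nat.card N := Subgroup.index_dvd_card _
  set n := (Subgroup.centralizer ({y} : Set N)).index with hn
  have hn0 : n ≠ 0 := Subgroup.index_ne_zero_of_finite
  have key : ∀ (p : ℕ), p.Prime → ∀ k, n ≠ p ^ k := by
    intro p hp k hk
    obtain ⟨M, hMn, hMs, hyM⟩ := H576.Kazarin.exists_normal_solvable hp _ N le_rfl y k hk
    have := eq_one_of_mem_solvable N hN hmin hnc M hMn hMs
    rw [this, Subgroup.mem_bot] at hyM
    exact hx1 (congrArg Subtype.val hyM)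
  obtain ⟨q₁, h1, h1n⟩ := Nat.exists_prime_and_dvd (n := n) (fun h => key 2 Nat.prime_two 0 (by rw [h, pow_zero]))
  have : ∃ q₂, q₂.Prime ∧ q₂ ∣ n ∧ q₁ ≠ q₂ := by
    by_contra hcon
    push Not at hcon
    exact key q₁ h1 _ (Nat.eq_prime_pow_of_unique_prime_dvd hn0 fun {d} hd hdn => (hcon d hd hdn).symm)
  obtain ⟨q₂, h2, h2n, hne⟩ := this
  exact ⟨q₁, q₂, h1, h2, hne, h1n.trans hcard, h2n.trans hcard, h1n.trans hdvd, h2n.trans hdvd⟩

end Cfsg.Agent.H353.TwoPrimes
end

-- part: H528/Cls/Nonsolv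
section
/-!
# The nonsolvable part of S4148

`nonsolv_object : NonabObject → TwoPrimes → NonsolvObject`
-/

set_option autoImplicit false

namespace Cfsg.Agent.H528.Cls

open scoped Pointwise commutatorElement
open Cfsg.Agent.H822.Cls

universe u

theorem moved_of_le {G : Type*} [Group G] {p : ℕ} {x y : G}
    (h : Subgroup.centralizer ({x} : Set G) ≤ Subgroup.centralizer ({y} : Set G)) (hy : Moved p y) : Moved p x :=
  dvd_trans hy (Subgroup.index_dvd_of_le h)

theorem not_moved_one {G : Type*} [Group G] {p : ℕ} (hp : p.Prime) : ¬ Moved p (1 : G) := by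
  intro h
  unfold Moved at h
  have h1 : Subgroup.centralizer ({1} : Set G) = ⊤ := by
    rw [eq_top_iff]
    intro g _
    rw [Subgroup.mem_centralizer_singleton_iff, mul_one, one_mul]
  rw [h1, Subgroup.index_top] at h
  exact hp.one_lt.ne' (Nat.dvd_one.1 h)

theorem moved_of_map {G G' : Type*} [Group G] [Group G'] (f : G →* G') (hf : Function.Surjective f) {p : ℕ} {x : G}
    (h : Moved p (f x)) : Moved p x := by
  unfold Moved at h ⊢
  refine dvd_trans h ?_
  rw [← Subgroup.index_comap_of_surjective _ hf]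
  refine Subgroup.index_dvd_of_le ?_
  intro g hg
  rw [Subgroup.mem_centralizer_singleton_iff] at hg
  rw [Subgroup.mem_comap, Subgroup.mem_centralizer_singleton_iff, ← map_mul, ← map_mul, hg]

/-- a minimal normal subgroup below a given one -/
theorem exists_minimal {G : Type*} [Group G] [Finite G] : ∀ (n : ℕ) (N : Subgroup G), N.Normal → Nat.card N ≤ n →
    N ≠ ⊥ → ∃ M ≤ N, M.Normal ∧ M ≠ ⊥ ∧ ∀ N' : Subgroup G, N'.Normal → N' ≤ M → N' = ⊥ ∨ N' = M := by
  intro n
  induction n with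
  | zero =>
    intro N _ h _
    have : 0 < Nat.card N := Nat.card_pos
    omega
  | succ n ih =>
    intro N hN hn hne
    by_cases h : ∀ N' : Subgroup G, N'.Normal → N' ≤ N → N' = ⊥ ∨ N' = N
    · exact ⟨N, le_rfl, hN, hne, h⟩
    · push Not at h
      obtain ⟨N', hN', hle, hb, ht⟩ := h
      have hlt : Nat.card N' < Nat.card N := by
        by_contra hcon
        exact ht (Subgroup.eq_of_le_of_card_ge hle (not_lt.1 hcon))
      obtain ⟨M, hM, h1⟩ := ih N' hN' (by omega) hb
      exact ⟨M, hM.trans hle, h1⟩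

theorem split_map {G G' : Type*} [Group G] [Group G'] [Finite G] (f : G →* G') (hf : Function.Surjective f)
    {K H : Subgroup G} (hS : Split K H) : Split (K.map f) (H.map f) where
  normal := hS.normal.map f hf
  comm := by
    rintro _ ⟨a, ha, rfl⟩ _ ⟨b, hb, rfl⟩
    rw [← map_mul, hS.comm a ha b hb, map_mul]
  cop := Nat.Coprime.of_dvd (Subgroup.card_map_dvd K f) (Subgroup.card_map_dvd H f) hS.cop
  compl := by rw [← Subgroup.map_sup, hS.compl, ← MonoidHom.range_eq_map, MonoidHom.range_eq_top.2 hf]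

theorem card_map_mul {G G' : Type*} [Group G] [Group G'] (f : G →* G') (Q : Subgroup G) :
    Nat.card (Q.map f) * Nat.card (f.ker ⊓ Q : Subgroup G) = Nat.card Q := by
  have h1 : (f.comp Q.subtype).range = Q.map f := by
    rw [MonoidHom.range_comp, Subgroup.range_subtype]
  have h2 : Nat.card (f.comp Q.subtype).ker = Nat.card (f.ker ⊓ Q : Subgroup G) := by
    rw [← Subgroup.subgroupOf_map_subtype, Subgroup.card_map_of_injective Q.subtype_injective]
    rfl
  rw [← h1, ← h2, ← Subgroup.index_ker, mul_comm, Subgroup.card_mul_index]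

theorem isSolvable_of_map {G G' : Type*} [Group G] [Group G'] (f : G →* G')
    (hab : ∀ a ∈ f.ker, ∀ b ∈ f.ker, a * b = b * a) (Q : Subgroup G) (h : Group.IsSolvable (Q.map f)) :
    Group.IsSolvable Q := by
  have h1 : (f.comp Q.subtype).range = Q.map f := by
    rw [MonoidHom.range_comp, Subgroup.range_subtype]
  have h2 : Group.IsSolvable (f.comp Q.subtype).range := by rw [h1]; exact h
  have h3 : Group.IsSolvable (f.comp Q.subtype).ker := by
    refine Group.isSolvable_of_comm ?_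
    rintro ⟨⟨a, ha⟩, ha'⟩ ⟨⟨b, hb⟩, hb'⟩
    exact Subtype.ext (Subtype.ext (hab a ha' b hb'))
  exact Group.isSolvable_of_ker_le_range (f.comp Q.subtype).ker.subtype (f.comp Q.subtype).rangeRestrict (by
    rw [Subgroup.range_subtype, MonoidHom.ker_rangeRestrict])

/-- the induction -/
theorem nonsolv_aux (h1 : NonabObject.{u}) (h2 : TwoPrimes.{u}) : ∀ (n : ℕ) (G : Type u) [Group G] [Finite G]
    (K H K₀ : Subgroup G), Split K H → K₀ ≤ K → K₀.Normal → Nat.card K₀ ≤ n →
    ∃ x ∈ K₀, (∀ p : ℕ, p.Prime → p ∣ Nat.card H → ∀ P : Sylow p G,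
      ¬ Group.IsSolvable (⁅K₀, (P : Subgroup G)⁆ : Subgroup G) → Moved p x) ∧
      ((∃ p : ℕ, p.Prime ∧ p ∣ Nat.card H ∧ ∃ P : Sylow p G,
        ¬ Group.IsSolvable (⁅K₀, (P : Subgroup G)⁆ : Subgroup G)) →
      ∃ q₁ q₂ : ℕ, q₁.Prime ∧ q₂.Prime ∧ q₁ ≠ q₂ ∧ q₁ ∣ Nat.card K ∧ q₂ ∣ Nat.card K ∧ Moved q₁ x ∧ Moved q₂ x) := by
  intro n
  induction n with
  | zero =>
    intro G _ _ K H K₀ hS hK hn hc
    have : 0 < Nat.card K₀ := Nat.card_pos
    omega
  | succ n ih =>
    intro G _ _ K H K₀ hS hK hKn hc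
    by_cases hbot : K₀ = ⊥
    · subst hbot
      have hsol : ∀ Q : Subgroup G, Group.IsSolvable (⁅(⊥ : Subgroup G), Q⁆ : Subgroup G) := by
        intro Q
        rw [Subgroup.commutator_bot_left]
        infer_instance
      exact ⟨1, one_mem _, fun p _ _ P h => absurd (hsol P) h, fun ⟨p, _, _, P, h⟩ => absurd (hsol P) h⟩
    obtain ⟨M, hM, hMn, hMne, hmin⟩ := exists_minimal (Nat.card K₀) K₀ hKn le_rfl hbot
    have hKnn := hS.normal
    by_cases hab : IsMulCommutative M
    · -- pass to `G ⧸ M`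
      have hf : Function.Surjective (QuotientGroup.mk' M) := QuotientGroup.mk'_surjective M
      have hker : (QuotientGroup.mk' M).ker = M := QuotientGroup.ker_mk' M
      have hcard : Nat.card (K₀.map (QuotientGroup.mk' M)) ≤ n := by
        have h := card_map_mul (QuotientGroup.mk' M) K₀
        rw [hker, inf_of_le_left hM] at h
        have h3 : 1 < Nat.card M := (Subgroup.one_lt_card_iff_ne_bot M).2 hMne
        have h4 : 0 < Nat.card (K₀.map (QuotientGroup.mk' M)) := Nat.card_pos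
        by_contra hcon
        have : Nat.card (K₀.map (QuotientGroup.mk' M)) * 2 ≤ Nat.card K₀ := by
          rw [← h]
          exact Nat.mul_le_mul_left _ h3
        omega
      obtain ⟨x', ⟨x, hx, rfl⟩, i1, i2⟩ := ih (G ⧸ M) (K.map (QuotientGroup.mk' M)) (H.map (QuotientGroup.mk' M))
        (K₀.map (QuotientGroup.mk' M)) (split_map _ hf hS) (Subgroup.map_mono hK) (hKn.map _ hf) hcard
      have hpH : ∀ p : ℕ, p.Prime → p ∣ Nat.card H → p ∣ Nat.card (H.map (QuotientGroup.mk' M)) := by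
        intro p hp hpd
        rw [← card_map_mul (QuotientGroup.mk' M) H, hker] at hpd
        refine (hp.dvd_mul.1 hpd).resolve_right fun h => ?_
        have a1 : p ∣ Nat.card K := h.trans ((Subgroup.card_dvd_of_le inf_le_left).trans
          (Subgroup.card_dvd_of_le (hM.trans hK)))
        have a2 : p ∣ Nat.card H := h.trans (Subgroup.card_dvd_of_le inf_le_right)
        exact Nat.not_coprime_of_dvd_of_dvd hp.one_lt a1 a2 hS.cop
      have hsol : ∀ (p : ℕ) (hp : p.Prime) (P : Sylow p G),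
          ¬ Group.IsSolvable (⁅K₀, (P : Subgroup G)⁆ : Subgroup G) → ∃ P' : Sylow p (G ⧸ M),
          ¬ Group.IsSolvable (⁅K₀.map (QuotientGroup.mk' M), (P' : Subgroup (G ⧸ M))⁆ : Subgroup (G ⧸ M)) := by
        intro p hp P h
        have := Fact.mk hp
        refine ⟨P.mapSurjective hf, fun hcon => h ?_⟩
        rw [Sylow.coe_mapSurjective, ← Subgroup.map_commutator] at hcon
        refine isSolvable_of_map _ (fun a ha b hb => ?_) _ hcon
        rw [hker] at ha hb
        have := hab.is_comm.comm (⟨a, ha⟩ : M) ⟨b, hb⟩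
        exact congrArg Subtype.val this
      refine ⟨x, hx, fun p hp hpd P hP => ?_, ?_⟩
      · obtain ⟨P', hP'⟩ := hsol p hp P hP
        exact moved_of_map _ hf (i1 p hp (hpH p hp hpd) P' hP')
      · rintro ⟨p, hp, hpd, P, hP⟩
        obtain ⟨P', hP'⟩ := hsol p hp P hP
        obtain ⟨q₁, q₂, b1, b2, b3, b4, b5, b6, b7⟩ := i2 ⟨p, hp, hpH p hp hpd, P', hP'⟩
        exact ⟨q₁, q₂, b1, b2, b3, b4.trans (Subgroup.card_map_dvd K _), b5.trans (Subgroup.card_map_dvd K _),
          moved_of_map _ hf b6, moved_of_map _ hf b7⟩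
    · -- nonabelian
      have hCn : (Subgroup.centralizer (M : Set G)).Normal := Subgroup.normal_centralizer
      have hMC : M ⊓ Subgroup.centralizer (M : Set G) = ⊥ := by
        rcases hmin (M ⊓ Subgroup.centralizer (M : Set G)) (Subgroup.normal_inf_normal M _) inf_le_left with h | h
        · exact h
        · exfalso
          apply hab
          rw [inf_eq_left] at h
          exact ⟨⟨fun a b => Subtype.ext ((Subgroup.mem_centralizer_iff.1 (h b.2)) a a.2)⟩⟩
      obtain ⟨C₀, hC₀⟩ : ∃ C₀, C₀ = K₀ ⊓ Subgroup.centralizer (M : Set G) := ⟨_, rfl⟩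
      have hC₀n : C₀.Normal := by
        rw [hC₀]
        exact Subgroup.normal_inf_normal K₀ _
      have hcard : Nat.card C₀ ≤ n := by
        have hle : C₀ ≤ K₀ := by rw [hC₀]; exact inf_le_left
        have hne : C₀ ≠ K₀ := by
          intro h
          have h5 : M ≤ Subgroup.centralizer (M : Set G) := by
            intro g hg
            have := hM hg
            rw [← h, hC₀] at this
            exact this.2
          rw [inf_eq_left.2 h5] at hMC
          exact hMne hMC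
        have h6 : Nat.card C₀ < Nat.card K₀ := by
          by_contra hcon
          exact hne (Subgroup.eq_of_le_of_card_ge hle (not_lt.1 hcon))
        omega
      obtain ⟨y, hy, i1, i2⟩ := ih G K H C₀ hS ((by rw [hC₀]; exact inf_le_left : C₀ ≤ K₀).trans hK) hC₀n hcard
      obtain ⟨x, hx, j1⟩ := h1 G K H M hS (hM.trans hK) hMn hmin hab
      have hyC : y ∈ Subgroup.centralizer (M : Set G) := by rw [hC₀] at hy; exact hy.2
      have hyK : y ∈ K₀ := by rw [hC₀] at hy; exact hy.1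
      have key : ∀ g ∈ Subgroup.centralizer ({x * y} : Set G), g * x = x * g ∧ g * y = y * g := by
        intro g hg
        rw [Subgroup.mem_centralizer_singleton_iff] at hg
        have e1 : x⁻¹ * (g * x * g⁻¹) = y * (g * y * g⁻¹)⁻¹ := by
          have : g * x * g⁻¹ * (g * y * g⁻¹) = x * y := by
            calc g * x * g⁻¹ * (g * y * g⁻¹) = g * (x * y) * g⁻¹ := by group
              _ = x * y := by rw [hg]; group
          calc x⁻¹ * (g * x * g⁻¹) = x⁻¹ * (g * x * g⁻¹ * (g * y * g⁻¹)) * (g * y * g⁻¹)⁻¹ := by group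
            _ = y * (g * y * g⁻¹)⁻¹ := by rw [this]; group
        have e2 : x⁻¹ * (g * x * g⁻¹) ∈ M ⊓ Subgroup.centralizer (M : Set G) := by
          refine ⟨M.mul_mem (M.inv_mem hx) (hMn.conj_mem x hx g), ?_⟩
          rw [e1]
          exact Subgroup.mul_mem _ hyC (Subgroup.inv_mem _ (hCn.conj_mem y hyC g))
        rw [hMC, Subgroup.mem_bot] at e2
        have e3 : g * x * g⁻¹ = x := by
          rw [inv_mul_eq_one] at e2
          exact e2.symm
        have e4 : g * y * g⁻¹ = y := by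
          rw [e2] at e1
          exact (mul_inv_eq_one.1 e1.symm).symm
        exact ⟨mul_inv_eq_iff_eq_mul.1 e3, mul_inv_eq_iff_eq_mul.1 e4⟩
      have mx : ∀ {p : ℕ}, Moved p x → Moved p (x * y) := fun h => moved_of_le (fun g hg => by
        rw [Subgroup.mem_centralizer_singleton_iff]
        exact (key g hg).1) h
      have my : ∀ {p : ℕ}, Moved p y → Moved p (x * y) := fun h => moved_of_le (fun g hg => by
        rw [Subgroup.mem_centralizer_singleton_iff]
        exact (key g hg).2) h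
      have hyp : ∀ (p : ℕ) (hp : p.Prime) (hpd : p ∣ Nat.card H) (P : Sylow p G),
          ¬ Group.IsSolvable (⁅K₀, (P : Subgroup G)⁆ : Subgroup G) →
          (P : Subgroup G) ≤ Subgroup.centralizer (M : Set G) →
          ¬ Group.IsSolvable (⁅C₀, (P : Subgroup G)⁆ : Subgroup G) := by
        intro p hp hpd P hP hPM hcon
        apply hP
        have := Fact.mk hp
        have hle : ⁅K₀, (P : Subgroup G)⁆ ≤ C₀ := by
          rw [hC₀]
          refine le_inf (Subgroup.commutator_le_left K₀ _) ?_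
          exact (Subgroup.commutator_mono le_rfl hPM).trans (Subgroup.commutator_le_right K₀ _)
        have hcop : (Nat.card (P : Subgroup G)).Coprime (Nat.card K₀) := by
          obtain ⟨k, hk⟩ := IsPGroup.iff_card.1 P.isPGroup'
          change (Nat.card (P : Subgroup G)).Coprime (Nat.card K₀)
          have hk' : Nat.card (P : Subgroup G) = p ^ k := hk
          rw [hk']
          refine Nat.Coprime.pow_left k ((Nat.Prime.coprime_iff_not_dvd hp).2 fun h => ?_)
          exact Nat.not_coprime_of_dvd_of_dvd hp.one_lt (h.trans (Subgroup.card_dvd_of_le hK)) hpd hS.cop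
        have heq := Lib.CoprimeCommutator.commutator_commutator_eq (P : Subgroup G) K₀
          (by rw [Subgroup.normalizer_eq_top]; exact le_top) hcop
        have hle2 : ⁅K₀, (P : Subgroup G)⁆ ≤ ⁅C₀, (P : Subgroup G)⁆ := by
          rw [← heq]
          exact Subgroup.commutator_mono hle le_rfl
        exact Group.isSolvable_of_isSolvable_injective (Subgroup.inclusion_injective hle2)
      refine ⟨x * y, K₀.mul_mem (hM hx) hyK, fun p hp hpd P hP => ?_, ?_⟩
      · by_cases hPM : (P : Subgroup G) ≤ Subgroup.centralizer (M : Set G)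
        · exact my (i1 p hp hpd P (hyp p hp hpd P hP hPM))
        · exact mx (j1 p hp hpd P hPM)
      · rintro ⟨p, hp, hpd, P, hP⟩
        by_cases hPM : (P : Subgroup G) ≤ Subgroup.centralizer (M : Set G)
        · obtain ⟨q₁, q₂, b1, b2, b3, b4, b5, b6, b7⟩ := i2 ⟨p, hp, hpd, P, hyp p hp hpd P hP hPM⟩
          exact ⟨q₁, q₂, b1, b2, b3, b4, b5, my b6, my b7⟩
        · have hx1 : x ≠ 1 := by
            rintro rfl
            exact not_moved_one hp (j1 p hp hpd P hPM)
          obtain ⟨q₁, q₂, b1, b2, b3, b4, b5, b6, b7⟩ := h2 G M hMn hmin hab x hx hx1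
          have hd := Subgroup.card_dvd_of_le (hM.trans hK)
          exact ⟨q₁, q₂, b1, b2, b3, b4.trans hd, b5.trans hd, mx b6, mx b7⟩

theorem nonsolv_object (h1 : NonabObject.{u}) (h2 : TwoPrimes.{u}) : NonsolvObject.{u} := by
  intro G _ _ K H hS
  exact nonsolv_aux h1 h2 (Nat.card K) G K H K hS le_rfl hS.normal le_rfl

end Cfsg.Agent.H528.Cls
end

-- part: H877/ClsBase
section
/-!
# S4148: the permutation lemma `exists_base` (helper877)
-/

set_option autoImplicit false

namespace Cfsg.Agent.H877.Cls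

open scoped Pointwise commutatorElement
open Cfsg.Agent.H822.Cls

universe u

/-- Glauberman's lemma for a solvable subgroup `A` acting coprimely on a subgroup `T`, both acting on a set. -/
theorem glaub {Γ X : Type*} [Group Γ] [Finite Γ] [MulAction Γ X] (T A : Subgroup Γ)
    (hA : ∀ a ∈ A, ∀ y ∈ T, a * y * a⁻¹ ∈ T) (hcop : (Nat.card A).Coprime (Nat.card T))
    (hsol : Group.IsSolvable A) (ψ : X) (h : ∀ a ∈ A, ∃ x ∈ T, a • ψ = x • ψ) :
    ∃ x ∈ T, ∀ a ∈ A, a • x • ψ = x • ψ := by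
  classical
  set G' : Subgroup Γ := A ⊔ T with hG'
  have hAT : A ≤ Subgroup.normalizer (T : Set Γ) := by
    intro a ha
    rw [Subgroup.mem_normalizer_iff]
    intro y
    refine ⟨fun hy => hA a ha y hy, fun hy => ?_⟩
    have := hA a⁻¹ (inv_mem ha) _ hy
    have h2 : a⁻¹ * (a * y * a⁻¹) * a⁻¹⁻¹ = y := by group
    rwa [h2] at this
  let O : Set X := {φ | ∃ x ∈ T, x • ψ = φ}
  have hO : ∀ g ∈ G', ∀ φ ∈ O, g • φ ∈ O := by
    have h1 : G' ≤ MulAction.stabilizer Γ O := by
      apply sup_le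
      · intro a ha
        rw [MulAction.mem_stabilizer_set]
        have hkey : ∀ a ∈ A, ∀ φ ∈ O, a • φ ∈ O := by
          rintro a ha φ ⟨x, hx, rfl⟩
          obtain ⟨y, hy, hay⟩ := h a ha
          refine ⟨(a * x * a⁻¹) * y, T.mul_mem (hA a ha x hx) hy, ?_⟩
          rw [mul_smul, ← hay, ← mul_smul, ← mul_smul]
          congr 1; group
        intro φ
        refine ⟨fun hφ => ?_, fun hφ => hkey a ha φ hφ⟩
        have := hkey a⁻¹ (inv_mem ha) _ hφ
        rwa [inv_smul_smul] at this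
      · intro a ha
        rw [MulAction.mem_stabilizer_set]
        have hkey : ∀ a ∈ T, ∀ φ ∈ O, a • φ ∈ O := by
          rintro a ha φ ⟨x, hx, rfl⟩
          exact ⟨a * x, T.mul_mem ha hx, by rw [mul_smul]⟩
        intro φ
        refine ⟨fun hφ => ?_, fun hφ => hkey a ha φ hφ⟩
        have := hkey a⁻¹ (inv_mem ha) _ hφ
        rwa [inv_smul_smul] at this
    intro g hg φ hφ
    exact ((MulAction.mem_stabilizer_set.1 (h1 hg)) φ).2 hφ
  let act : MulAction G' O :=
    { smul := fun g φ => ⟨(g : Γ) • φ.1, hO g g.2 _ φ.2⟩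
      one_smul := fun φ => Subtype.ext (one_smul Γ φ.1)
      mul_smul := fun g g' φ => Subtype.ext (mul_smul (g : Γ) (g' : Γ) φ.1) }
  have hact : ∀ (g : G') (φ : O), (g • φ).1 = (g : Γ) • φ.1 := fun _ _ => rfl
  have hne : Nonempty O := ⟨⟨ψ, 1, T.one_mem, one_smul Γ ψ⟩⟩
  have hT : T ≤ G' := le_sup_right
  have hAG : A ≤ G' := le_sup_left
  have hn : (T.subgroupOf G').Normal := by
    rw [← Subgroup.normalizer_eq_top_iff, eq_top_iff]
    rintro ⟨g, hg⟩ _
    rw [Subgroup.mem_normalizer_iff]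
    rintro ⟨y, hy⟩
    simp only [Subgroup.mem_subgroupOf]
    have hg' : g ∈ Subgroup.normalizer (T : Set Γ) := (sup_le hAT Subgroup.le_normalizer) hg
    rw [Subgroup.mem_normalizer_iff] at hg'
    exact hg' y
  have hdis : Disjoint T A := by
    rw [disjoint_iff]
    exact (Subgroup.disjoint_of_coprime_natCard hcop.symm).eq_bot
  have hmul : ∀ g ∈ G', ∃ y ∈ T, ∃ a ∈ A, y * a = g := by
    intro g hg
    have h1 : g ∈ ((A ⊔ T : Subgroup Γ) : Set Γ) := hg
    rw [sup_comm, Subgroup.coe_mul_of_right_le_normalizer_left T A hAT] at h1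
    obtain ⟨y, hy, a, ha, h2⟩ := h1
    exact ⟨y, hy, a, ha, h2⟩
  have hcompl : Subgroup.IsComplement' (T.subgroupOf G') (A.subgroupOf G') := by
    apply Subgroup.isComplement'_of_disjoint_and_mul_eq_univ
    · rw [disjoint_iff, eq_bot_iff]
      rintro ⟨g, hg⟩ ⟨h1, h2⟩
      change g ∈ T at h1
      change g ∈ A at h2
      rw [Subgroup.mem_bot]
      apply Subtype.ext
      exact (Subgroup.mem_bot.1 ((disjoint_iff.1 hdis) ▸ (⟨h1, h2⟩ : g ∈ T ⊓ A)))
    · rw [Set.eq_univ_iff_forall]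
      rintro ⟨g, hg⟩
      obtain ⟨y, hy, a, ha, rfl⟩ := hmul g hg
      exact ⟨⟨y, hT hy⟩, hy, ⟨a, hAG ha⟩, ha, rfl⟩
  have hcop' : (Nat.card (T.subgroupOf G')).Coprime (T.subgroupOf G').index := by
    rw [hcompl.symm.index_eq_card, Nat.card_congr (Subgroup.subgroupOfEquivOfLe hT).toEquiv,
      Nat.card_congr (Subgroup.subgroupOfEquivOfLe hAG).toEquiv]
    exact hcop.symm
  have hsolT : Group.IsSolvable (G' ⧸ T.subgroupOf G') := by
    refine Group.isSolvable_of_surjective
      (f := (QuotientGroup.mk' (T.subgroupOf G')).comp (Subgroup.inclusion hAG)) ?_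
    intro q
    obtain ⟨⟨g, hg⟩, rfl⟩ := QuotientGroup.mk'_surjective _ q
    obtain ⟨y, hy, a, ha, rfl⟩ := hmul g hg
    refine ⟨⟨a, ha⟩, ?_⟩
    have h1 : (⟨y * a, hg⟩ : G') = ⟨y, hT hy⟩ * ⟨a, hAG ha⟩ := rfl
    have h2 : QuotientGroup.mk' (T.subgroupOf G') ⟨y, hT hy⟩ = 1 := by
      rw [QuotientGroup.mk'_apply, QuotientGroup.eq_one_iff]
      exact hy
    rw [h1, map_mul, h2, one_mul]
    rfl
  have htr : MulAction.IsPretransitive (T.subgroupOf G') O := by
    constructor
    rintro ⟨φ, x, hx, rfl⟩ ⟨φ', x', hx', rfl⟩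
    refine ⟨⟨⟨x' * x⁻¹, hT (T.mul_mem hx' (T.inv_mem hx))⟩, T.mul_mem hx' (T.inv_mem hx)⟩, ?_⟩
    apply Subtype.ext
    show (x' * x⁻¹) • x • ψ = x' • ψ
    rw [mul_smul, inv_smul_smul]
  obtain ⟨⟨φ, x, hx, rfl⟩, hφ⟩ := (Cfsg.Agent.S0059.result (T.subgroupOf G') (A.subgroupOf G') hcompl hcop'
    (Or.inr hsolT) htr).1
  refine ⟨x, hx, ?_⟩
  intro a ha
  have := hφ ⟨a, hAG ha⟩ ha
  exact congrArg Subtype.val this

section Split

variable {G : Type*} [Group G] {K H : Subgroup G}

theorem split_disj (hS : Split K H) : K ⊓ H = ⊥ :=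
  (Subgroup.disjoint_of_coprime_natCard hS.cop).eq_bot

theorem split_mul (hS : Split K H) (g : G) : ∃ k ∈ K, ∃ h ∈ H, g = k * h := by
  have := hS.normal
  have h1 : g ∈ ((K ⊔ H : Subgroup G) : Set G) := by rw [hS.compl]; trivial
  rw [Subgroup.normal_mul] at h1
  obtain ⟨k, hk, h, hh, rfl⟩ := h1
  exact ⟨k, hk, h, hh, rfl⟩

theorem split_isCompl [Finite G] (hS : Split K H) : Subgroup.IsComplement' K H := by
  apply Subgroup.isComplement'_of_disjoint_and_mul_eq_univ
  · rw [disjoint_iff]; exact split_disj hS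
  · rw [Set.eq_univ_iff_forall]
    intro g
    obtain ⟨k, hk, h, hh, rfl⟩ := split_mul hS g
    exact ⟨k, hk, h, hh, rfl⟩

theorem split_card [Finite G] (hS : Split K H) : Nat.card K * Nat.card H = Nat.card G :=
  (split_isCompl hS).card_mul

theorem split_not_dvd [Finite G] (hS : Split K H) {p : ℕ} (hp : p.Prime) (hpH : p ∣ Nat.card H) :
    ¬ p ∣ Nat.card K := fun h => by
  have h1 := Nat.dvd_gcd h hpH
  rw [hS.cop] at h1
  exact hp.one_lt.ne' (Nat.dvd_one.1 h1)

/-- A Sylow subgroup of the abelian factor is a Sylow subgroup of the whole group. -/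
theorem split_sylow [Finite G] (hS : Split K H) {p : ℕ} (hp : p.Prime) (hpH : p ∣ Nat.card H) :
    ∃ P : Sylow p G, (P : Subgroup G) ≤ H := by
  have := Fact.mk hp
  obtain ⟨P0⟩ : Nonempty (Sylow p H) := inferInstance
  have h1 : IsPGroup p ((P0 : Subgroup H).map H.subtype) := P0.2.map _
  obtain ⟨S, hS1⟩ := h1.exists_le_sylow
  have h2 : Nat.card S = Nat.card ((P0 : Subgroup H).map H.subtype) := by
    rw [Subgroup.card_map_of_injective H.subtype_injective, S.card_eq_multiplicity,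
      P0.card_eq_multiplicity, ← split_card hS, Nat.factorization_mul Nat.card_pos.ne' Nat.card_pos.ne',
      Finsupp.add_apply, Nat.factorization_eq_zero_of_not_dvd (split_not_dvd hS hp hpH), zero_add]
  have h3 : (P0 : Subgroup H).map H.subtype = (S : Subgroup G) :=
    Subgroup.eq_of_le_of_card_ge hS1 h2.le
  refine ⟨S, ?_⟩
  rw [← h3]
  exact Subgroup.map_subtype_le _

theorem split_solv (hS : Split K H) : Group.IsSolvable H :=
  Group.isSolvable_of_comm fun a b => Subtype.ext (hS.comm a.1 a.2 b.1 b.2)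

/-- Every Sylow `p`-subgroup is conjugate by an element of `K` to one in `H`. -/
theorem split_conj [Finite G] (hS : Split K H) {p : ℕ} (hp : p.Prime) (Q : Sylow p G)
    (Λ : Subgroup G) (hQ : (Q : Subgroup G) ≤ Λ) (P : Sylow p G) (hP : (P : Subgroup G) ≤ H) (hH : H ≤ Λ) :
    ∃ k ∈ K ⊓ Λ, ∀ x, x ∈ Q ↔ k⁻¹ * x * k ∈ P := by
  have := Fact.mk hp
  obtain ⟨⟨l, hl⟩, hlQ⟩ := MulAction.exists_smul_eq Λ (P.subtype (hP.trans hH)) (Q.subtype hQ)
  obtain ⟨k, hk, h, hh, rfl⟩ := split_mul hS l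
  refine ⟨k, ⟨hk, ?_⟩, ?_⟩
  · have h1 := Λ.mul_mem hl (Λ.inv_mem (hH hh))
    rwa [mul_inv_cancel_right] at h1
  · intro x
    have hkΛ : k ∈ Λ := by
      have h1 := Λ.mul_mem hl (Λ.inv_mem (hH hh))
      rwa [mul_inv_cancel_right] at h1
    have hcomm : ∀ y ∈ P, h * y = y * h := fun y hy => hS.comm h hh y (hP hy)
    constructor
    · intro hx
      have h1 : (⟨x, hQ hx⟩ : Λ) ∈ Q.subtype hQ := hx
      rw [← hlQ] at h1
      have h2 : (⟨x, hQ hx⟩ : Λ) ∈ ((⟨k * h, hl⟩ : Λ) • (P.subtype (hP.trans hH)) : Sylow p Λ) := h1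
      rw [← SetLike.mem_coe, Sylow.coe_smul, Set.mem_smul_set_iff_inv_smul_mem, MulAut.smul_def,
        MulAut.conj_inv_apply] at h2
      have h3 : (k * h)⁻¹ * x * (k * h) ∈ P := h2
      have h4 := hcomm _ h3
      have h5 : k⁻¹ * x * k = (k * h)⁻¹ * x * (k * h) := by
        have h6 : h * ((k * h)⁻¹ * x * (k * h)) * h⁻¹ = k⁻¹ * x * k := by group
        rw [← h6, h4, mul_inv_cancel_right]
      rw [h5]
      exact h3
    · intro hx
      have h3 : (k * h)⁻¹ * x * (k * h) = k⁻¹ * x * k := by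
        have h4 := hcomm _ hx
        have h6 : (k * h)⁻¹ * x * (k * h) = h⁻¹ * (k⁻¹ * x * k * h) := by group
        rw [h6, ← h4, inv_mul_cancel_left]
      have hxΛ : x ∈ Λ := by
        have h7 := Λ.mul_mem (Λ.mul_mem hkΛ (hH (hP hx))) (Λ.inv_mem hkΛ)
        have h8 : k * (k⁻¹ * x * k) * k⁻¹ = x := by group
        rwa [h8] at h7
      have h2 : (⟨x, hxΛ⟩ : Λ) ∈ ((⟨k * h, hl⟩ : Λ) • (P.subtype (hP.trans hH)) : Sylow p Λ) := by
        rw [← SetLike.mem_coe, Sylow.coe_smul, Set.mem_smul_set_iff_inv_smul_mem, MulAut.smul_def,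
          MulAut.conj_inv_apply]
        show (k * h)⁻¹ * x * (k * h) ∈ P
        rw [h3]
        exact hx
      rw [hlQ] at h2
      exact h2

end Split

theorem exists_base : BaseLemma.{u} := by
  intro G Δ _ _ _ _ _ K H hS
  classical
  have hKn := hS.normal
  -- (a)-primes
  let ap : ℕ → Prop := fun p => p.Prime ∧ p ∣ Nat.card H ∧ ∃ Q : Sylow p G, ∃ g ∈ Q, ∃ i : Δ, g • i ≠ i
  have hap : ∀ p, ap p → ∀ P : Sylow p G, (P : Subgroup G) ≤ H →
      (∃ ω : Δ, p ∣ Nat.card (MulAction.orbit H ω)) ∧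
      ∀ ω : Δ, p ∣ Nat.card (MulAction.orbit H ω) → ∃ g ∈ P, g • ω ≠ ω := by
    rintro p ⟨hp, hpH, Q, g, hg, i, hi⟩ P hP
    have := Fact.mk hp
    obtain ⟨k, -, hk⟩ := split_conj hS hp Q ⊤ le_top P hP le_top
    refine ⟨⟨k⁻¹ • i, ?_⟩, ?_⟩
    · have h1 := (hk g).1 hg
      have h2 : (k⁻¹ * g * k) • (k⁻¹ • i) ≠ k⁻¹ • i := by
        rw [mul_smul, smul_inv_smul, mul_smul]
        intro h
        exact hi (smul_left_cancel _ h)
      rw [Nat.card_congr (MulAction.orbitEquivQuotientStabilizer H (k⁻¹ • i))]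
      by_contra hcon
      let x : H := ⟨k⁻¹ * g * k, hP h1⟩
      have hn : (MulAction.stabilizer H (k⁻¹ • i)).Normal := by
        constructor
        intro a ha b
        have h3 : b * a * b⁻¹ = a := by
          rw [show b * a = a * b from Subtype.ext (hS.comm b.1 b.2 a.1 a.2), mul_inv_cancel_right]
        rw [h3]; exact ha
      obtain ⟨n, hxn⟩ := P.2 ⟨k⁻¹ * g * k, h1⟩
      have hxn' : x ^ p ^ n = 1 := Subtype.ext (congrArg (fun y : P => (y : G)) hxn)
      have h4 : (QuotientGroup.mk x : H ⧸ MulAction.stabilizer H (k⁻¹ • i)) = 1 := by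
        rw [← orderOf_eq_one_iff]
        have h5 : orderOf (QuotientGroup.mk x : H ⧸ MulAction.stabilizer H (k⁻¹ • i)) ∣ p ^ n := by
          rw [orderOf_dvd_iff_pow_eq_one, ← QuotientGroup.mk_pow, hxn', QuotientGroup.mk_one]
        have h6 : orderOf (QuotientGroup.mk x : H ⧸ MulAction.stabilizer H (k⁻¹ • i)) ∣
            Nat.card (H ⧸ MulAction.stabilizer H (k⁻¹ • i)) := orderOf_dvd_natCard _
        have h7 : (p ^ n).Coprime (Nat.card (H ⧸ MulAction.stabilizer H (k⁻¹ • i))) :=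
          Nat.Coprime.pow_left n ((Nat.Prime.coprime_iff_not_dvd hp).2 hcon)
        exact Nat.eq_one_of_dvd_coprimes h7 h5 h6
      rw [QuotientGroup.eq_one_iff] at h4
      exact h2 h4
    · intro ω hω
      by_contra hcon
      push Not at hcon
      rw [Nat.card_congr (MulAction.orbitEquivQuotientStabilizer H ω)] at hω
      let P0 : Subgroup H := (P : Subgroup G).subgroupOf H
      have h1 : P0 ≤ MulAction.stabilizer H ω := fun x hx => hcon x.1 hx
      have h2 : (MulAction.stabilizer H ω).index ∣ P0.index := Subgroup.index_dvd_of_le h1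
      have h3 : P0.index ∣ (P : Subgroup G).index := by
        show (P : Subgroup G).relIndex H ∣ _
        exact Dvd.intro _ (Subgroup.relIndex_mul_index hP)
      exact P.not_dvd_index ((hω.trans h2).trans h3)
  by_cases hno : ∀ p, ¬ ap p
  · obtain ⟨i⟩ := (inferInstance : Nonempty Δ)
    refine ⟨{i}, ⟨i, rfl⟩, ?_, ?_⟩
    · intro ω hω ω' hω' _
      rw [Set.mem_singleton_iff.1 hω, Set.mem_singleton_iff.1 hω']
    · intro p hp hpH Q hQ _
      exact absurd ⟨hp, hpH, Q, hQ⟩ (hno p)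
  push Not at hno
  -- a minimal set of representatives
  let 𝒮 : Set (Set Δ) := {B | ∀ p, ap p → ∃ ω ∈ B, p ∣ Nat.card (MulAction.orbit H ω)}
  have hne : 𝒮.Nonempty := ⟨Set.univ, fun p hp => by
    obtain ⟨P, hP⟩ := split_sylow hS hp.1 hp.2.1
    obtain ⟨ω, hω⟩ := (hap p hp P hP).1
    exact ⟨ω, trivial, hω⟩⟩
  obtain ⟨B, hB, hBmin⟩ := Set.exists_min_image 𝒮 Set.ncard (Set.toFinite _) hne
  have hpriv : ∀ ω ∈ B, ∃ q : ℕ, q ∣ Nat.card (MulAction.orbit H ω) ∧
      ∀ ω' ∈ B, q ∣ Nat.card (MulAction.orbit H ω') → ω' = ω := by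
    intro ω hω
    have h1 : B \ {ω} ∉ 𝒮 := fun h => by
      have h2 := hBmin _ h
      have h3 := Set.ncard_sdiff_singleton_lt_of_mem hω (Set.toFinite B)
      omega
    simp only [𝒮, Set.mem_setOf_eq] at h1
    push Not at h1
    obtain ⟨q, hq, h2⟩ := h1
    obtain ⟨ω'', hω'', h3⟩ := hB q hq
    have h4 : ∀ ω' ∈ B, q ∣ Nat.card (MulAction.orbit H ω') → ω' = ω := by
      intro ω' hω' h5
      by_contra h6
      exact h2 ω' ⟨hω', h6⟩ h5
    have h5 := h4 ω'' hω'' h3
    rw [h5] at h3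
    exact ⟨q, h3, h4⟩
  have horb : ∀ ω ω' : Δ, ω' ∈ MulAction.orbit H ω → MulAction.orbit H ω' = MulAction.orbit H ω :=
    fun ω ω' h => MulAction.orbit_eq_iff.2 h
  obtain ⟨p0, hp0⟩ := hno
  refine ⟨B, ?_, ?_, ?_⟩
  · obtain ⟨ω, hω, -⟩ := hB p0 hp0
    exact ⟨ω, hω⟩
  · intro ω hω ω' hω' h
    obtain ⟨q, hq1, hq2⟩ := hpriv ω hω
    apply hq2 ω' hω'
    rw [horb _ _ h]
    exact hq1
  · intro p hp hpH Q hQ hΓ
    set Γ : Set Δ := ⋃ ω ∈ B, MulAction.orbit H ω with hΓdef
    have hmemΓ : ∀ {z : Δ}, z ∈ Γ ↔ ∃ ω ∈ B, z ∈ MulAction.orbit H ω := by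
      intro z
      rw [hΓdef, Set.mem_iUnion₂]
      exact ⟨fun ⟨a, b, c⟩ => ⟨a, b, c⟩, fun ⟨a, b, c⟩ => ⟨a, b, c⟩⟩
    let Λ : Subgroup G := MulAction.stabilizer G Γ
    have hΛ : ∀ {g : G}, g ∈ Λ → ∀ {z : Δ}, z ∈ Γ → g • z ∈ Γ := by
      intro g hg z hz
      exact ((MulAction.mem_stabilizer_set.1 hg) z).2 hz
    have hHΛ : H ≤ Λ := by
      intro h hh
      rw [MulAction.mem_stabilizer_set]
      have key : ∀ h ∈ H, ∀ z ∈ Γ, h • z ∈ Γ := by
        intro h hh z hz
        obtain ⟨ω, hω, h', rfl⟩ := hmemΓ.1 hz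
        refine hmemΓ.2 ⟨ω, hω, ⟨h, hh⟩ * h', ?_⟩
        show (h * h'.1) • ω = h • h'.1 • ω
        rw [mul_smul]
      intro z
      refine ⟨fun hz => ?_, fun hz => key h hh z hz⟩
      have := key h⁻¹ (H.inv_mem hh) _ hz
      rwa [inv_smul_smul] at this
    let K' : Subgroup G := K ⊓ Λ
    have hnorm : ∀ h ∈ H, ∀ k ∈ K', h * k * h⁻¹ ∈ K' := fun h hh k hk =>
      ⟨hKn.conj_mem k hk.1 h, Λ.mul_mem (Λ.mul_mem (hHΛ hh) hk.2) (Λ.inv_mem (hHΛ hh))⟩
    have hfix : ∀ z ∈ Γ, ∀ k ∈ K', k • z = z := by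
      intro z hz
      let A : Subgroup G :=
        { carrier := {h | h ∈ H ∧ ∃ k ∈ K', h • z = k • z}
          mul_mem' := by
            rintro a b ⟨ha, k, hk, e⟩ ⟨hb, l, hl, e'⟩
            refine ⟨H.mul_mem ha hb, (a * l * a⁻¹) * k, K'.mul_mem (hnorm a ha l hl) hk, ?_⟩
            rw [mul_smul, e', mul_smul, ← e, ← mul_smul, ← mul_smul]
            congr 1; group
          one_mem' := ⟨H.one_mem, 1, K'.one_mem, rfl⟩
          inv_mem' := by
            rintro a ⟨ha, k, hk, e⟩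
            refine ⟨H.inv_mem ha, a⁻¹ * k⁻¹ * a⁻¹⁻¹, hnorm _ (H.inv_mem ha) _ (K'.inv_mem hk), ?_⟩
            rw [inv_inv, mul_smul, mul_smul, e, inv_smul_smul] }
      have hAH : A ≤ H := fun a ha => ha.1
      have hsolH := split_solv hS
      have hsolA : Group.IsSolvable A := Group.isSolvable_of_isSolvable_injective (Subgroup.inclusion_injective hAH)
      have hcop : (Nat.card A).Coprime (Nat.card K') :=
        (Nat.Coprime.coprime_dvd_left (Subgroup.card_dvd_of_le (inf_le_left : K' ≤ K))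
          (Nat.Coprime.coprime_dvd_right (Subgroup.card_dvd_of_le hAH) hS.cop)).symm
      obtain ⟨x, hx, hxA⟩ := glaub K' A (fun a ha k hk => hnorm a ha.1 k hk) hcop hsolA z
        (fun a ha => ha.2)
      -- the property of y = x z
      have hy : ∀ h ∈ H, (∃ k ∈ K', h • x • z = k • x • z) → h • x • z = x • z := by
        rintro h hh ⟨k, hk, e⟩
        apply hxA h
        refine ⟨hh, (h * x * h⁻¹)⁻¹ * (k * x), K'.mul_mem (K'.inv_mem (hnorm h hh x hx)) (K'.mul_mem hk hx), ?_⟩
        rw [mul_smul, mul_smul k, ← e, eq_inv_smul_iff, ← mul_smul, ← mul_smul]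
        congr 1; group
      have hyΓ : x • z ∈ Γ := hΛ hx.2 hz
      obtain ⟨ω, hω, hyω⟩ := hmemΓ.1 hyΓ
      obtain ⟨q, hq1, hq2⟩ := hpriv ω hω
      have hfy : ∀ k ∈ K', k • x • z = x • z := by
        intro k hk
        have hwΓ : k • x • z ∈ Γ := hΛ hk.2 hyΓ
        obtain ⟨ω', hω', hwω'⟩ := hmemΓ.1 hwΓ
        have h1 : MulAction.stabilizer H (k • x • z) ≤ MulAction.stabilizer H (x • z) := by
          intro g hg
          have h2 : g.1 • k • x • z = k • x • z := hg
          show g.1 • x • z = x • z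
          apply hy g.1 g.2
          refine ⟨(g.1 * k * g.1⁻¹)⁻¹ * k, K'.mul_mem (K'.inv_mem (hnorm _ g.2 k hk)) hk, ?_⟩
          rw [mul_smul, eq_inv_smul_iff, ← mul_smul, inv_mul_cancel_right, mul_smul]
          exact h2
        have h3 : Nat.card (MulAction.orbit H (x • z)) ∣ Nat.card (MulAction.orbit H (k • x • z)) := by
          rw [Nat.card_congr (MulAction.orbitEquivQuotientStabilizer H (x • z)),
            Nat.card_congr (MulAction.orbitEquivQuotientStabilizer H (k • x • z))]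
          exact Subgroup.index_dvd_of_le h1
        rw [horb _ _ hyω, horb _ _ hwω'] at h3
        have h4 := hq2 ω' hω' (hq1.trans h3)
        rw [h4, ← horb _ _ hyω] at hwω'
        obtain ⟨h, hh⟩ := hwω'
        have h5 : h.1 • x • z = k • x • z := hh
        rw [← h5]
        exact hy h.1 h.2 ⟨k, hk, h5⟩
      have h6 : x • z = z := by
        have h7 := hfy x⁻¹ (K'.inv_mem hx)
        rw [inv_smul_smul] at h7
        exact h7.symm
      rw [h6] at hfy
      exact hfy
    -- the final step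
    have hQΛ : (Q : Subgroup G) ≤ Λ := fun g hg => hΓ g hg
    obtain ⟨P, hP⟩ := split_sylow hS hp hpH
    have hap' : ap p := ⟨hp, hpH, Q, hQ⟩
    obtain ⟨k, hk, hkQ⟩ := split_conj hS hp Q Λ hQΛ P hP hHΛ
    obtain ⟨ω, hω, hpω⟩ := hB p hap'
    obtain ⟨h, hh, hhω⟩ := (hap p hap' P hP).2 ω hpω
    have hωΓ : ω ∈ Γ := hmemΓ.2 ⟨ω, hω, MulAction.mem_orbit_self ω⟩
    have h1 : (k * h * k⁻¹) • ω = h • ω := by
      rw [mul_smul, mul_smul, hfix ω hωΓ _ (K'.inv_mem hk)]
      exact hfix _ (hΛ (hHΛ (hP hh)) hωΓ) k hk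
    refine ⟨k * h * k⁻¹, ?_, ω, hω, ?_, ?_⟩
    · rw [hkQ]
      have h2 : k⁻¹ * (k * h * k⁻¹) * k = h := by group
      rw [h2]; exact hh
    · rw [h1]
      exact ⟨⟨h, hP hh⟩, rfl⟩
    · rw [h1]; exact hhω

end Cfsg.Agent.H877.Cls
end

-- part: H822/Cls/Parts
section
/-!
# S4148: the assembly up to the nonabelian object
-/

set_option autoImplicit false

namespace Cfsg.Agent.H822.Cls

universe u

theorem lemD' : LemD.{u} := by
  intro q p hq hp D _ _ _ hqD X _ _ _ hX hf P hP n hn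
  exact Cfsg.Agent.H96.Cls.LemD.lemD hq hp hqD hX hf P hP hn

theorem lemDTwo' : LemDTwo.{u} := by
  intro p hp D _ _ hD X _ _ _ hX hf β h1 h2 h3 h4 P hP n hn
  exact Cfsg.Agent.H96.Cls.LemD.lemD_two hp hD hX hf β h1 h2 h3 h4 P hP hn

theorem notMem' : NotMem.{u} := by
  intro L U F _ _ _ _ _ _ _ _ _ D Q m hD M H hS p hp hpH
  exact Cfsg.Agent.H668.Dim.not_mem D hD M H hS hp hpH

theorem twoObjects' : TwoObjects.{u} :=
  twoObjects Cfsg.Agent.H308.ClsNum.exists_num notMem' relIndexLe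
    (Cfsg.Agent.H668.Dim.dim_bound lemD' lemDTwo')

theorem main_of_nonab (hNA : NonabObject.{u}) {G : Type u} [Group G] [Finite G] (σ : ℕ)
    (hσ : ∀ x : G, ((Subgroup.centralizer ({x} : Set G)).index).primeFactors.card ≤ σ) :
    Nat.card {p : ℕ | p.Prime ∧ ∃ x : G, p ∣ (Subgroup.centralizer ({x} : Set G)).index} ≤ 5 * σ :=
  main (Cfsg.Agent.H528.Cls.nonsolv_object hNA Cfsg.Agent.H353.TwoPrimes.two_primes) twoObjects'
    Cfsg.Agent.H96.Cls.ExSplit.exists_split σ hσ

end Cfsg.Agent.H822.Cls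
end
end
end
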